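import Cfsg.Agent.Fisch.F22.Tb
import Cfsg.Agent.Fisch.St.SubT
import Cfsg.Agent.Fisch.F22.I2

set_option autoImplicit false
set_option maxRecDepth 1000000
set_option maxHeartbeats 0
set_option Elab.async false

namespace CF.Fisch.F22.L2

open CF.Comp CF.Fisch CF.Fisch.F22 Subgroup
open scoped Pointwise

noncomputable def a_gs : List (List Nat) := [[(nat_lit 22), (nat_lit 9), (nat_lit 7), (nat_lit 5), (nat_lit 1), (nat_lit 27), (nat_lit 22), (nat_lit 23), (nat_lit 27), (nat_lit 30), (nat_lit 31), (nat_lit 30), (nat_lit 35)],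
  [(nat_lit 1), (nat_lit 3), (nat_lit 5), (nat_lit 24), (nat_lit 32), (nat_lit 9), (nat_lit 15), (nat_lit 7), (nat_lit 5), (nat_lit 3), (nat_lit 27), (nat_lit 7), (nat_lit 21), (nat_lit 27), (nat_lit 7), (nat_lit 5), (nat_lit 23), (nat_lit 22), (nat_lit 24), (nat_lit 31), (nat_lit 33)],
  [(nat_lit 1), (nat_lit 22), (nat_lit 3), (nat_lit 5), (nat_lit 24), (nat_lit 28), (nat_lit 24), (nat_lit 5), (nat_lit 3), (nat_lit 24), (nat_lit 5), (nat_lit 1), (nat_lit 21), (nat_lit 28), (nat_lit 23), (nat_lit 31), (nat_lit 28), (nat_lit 33)],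
  [(nat_lit 31), (nat_lit 28), (nat_lit 24), (nat_lit 21), (nat_lit 7), (nat_lit 5), (nat_lit 31), (nat_lit 23), (nat_lit 27), (nat_lit 23), (nat_lit 30), (nat_lit 25), (nat_lit 32), (nat_lit 32)],
  [(nat_lit 7), (nat_lit 22), (nat_lit 23), (nat_lit 28), (nat_lit 21), (nat_lit 3), (nat_lit 1), (nat_lit 7), (nat_lit 5), (nat_lit 3), (nat_lit 7), (nat_lit 22), (nat_lit 24), (nat_lit 22), (nat_lit 24), (nat_lit 5), (nat_lit 23), (nat_lit 31), (nat_lit 28), (nat_lit 23), (nat_lit 28), (nat_lit 30), (nat_lit 31)],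
  [(nat_lit 33), (nat_lit 23), (nat_lit 5), (nat_lit 3), (nat_lit 1), (nat_lit 7), (nat_lit 5), (nat_lit 3), (nat_lit 28), (nat_lit 21), (nat_lit 24), (nat_lit 5), (nat_lit 22), (nat_lit 32), (nat_lit 28), (nat_lit 23), (nat_lit 25), (nat_lit 31), (nat_lit 31)],
  [(nat_lit 21), (nat_lit 32), (nat_lit 3), (nat_lit 5), (nat_lit 23), (nat_lit 28), (nat_lit 21), (nat_lit 24), (nat_lit 5), (nat_lit 3), (nat_lit 27), (nat_lit 24), (nat_lit 28), (nat_lit 24), (nat_lit 5), (nat_lit 23), (nat_lit 27), (nat_lit 23), (nat_lit 28), (nat_lit 32), (nat_lit 25)],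
  [(nat_lit 5), (nat_lit 11), (nat_lit 23), (nat_lit 27), (nat_lit 24), (nat_lit 5), (nat_lit 23), (nat_lit 28), (nat_lit 24), (nat_lit 30), (nat_lit 26), (nat_lit 35)],
  [(nat_lit 23), (nat_lit 9), (nat_lit 7), (nat_lit 5), (nat_lit 23), (nat_lit 29), (nat_lit 22), (nat_lit 23), (nat_lit 31), (nat_lit 28), (nat_lit 25), (nat_lit 32)],
  [(nat_lit 19), (nat_lit 1)],
  [(nat_lit 35), (nat_lit 5), (nat_lit 26), (nat_lit 29), (nat_lit 27), (nat_lit 30), (nat_lit 31)],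
  [(nat_lit 1), (nat_lit 28), (nat_lit 26), (nat_lit 28), (nat_lit 25), (nat_lit 33)],
  [(nat_lit 25), (nat_lit 1), (nat_lit 24), (nat_lit 28), (nat_lit 24), (nat_lit 5), (nat_lit 1), (nat_lit 23), (nat_lit 27), (nat_lit 23), (nat_lit 26)],
  [(nat_lit 9), (nat_lit 5), (nat_lit 28), (nat_lit 25), (nat_lit 25), (nat_lit 31)],
  [(nat_lit 5), (nat_lit 31), (nat_lit 24), (nat_lit 22), (nat_lit 7), (nat_lit 5), (nat_lit 23), (nat_lit 35), (nat_lit 21), (nat_lit 23), (nat_lit 28), (nat_lit 25), (nat_lit 25), (nat_lit 33)],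
  [(nat_lit 27), (nat_lit 26), (nat_lit 27), (nat_lit 25), (nat_lit 33)],
  [(nat_lit 26), (nat_lit 9), (nat_lit 23), (nat_lit 21), (nat_lit 31), (nat_lit 24), (nat_lit 5), (nat_lit 1), (nat_lit 23), (nat_lit 32), (nat_lit 22), (nat_lit 24), (nat_lit 30), (nat_lit 26), (nat_lit 33)]]
noncomputable def a_zs : List (List Nat) := []
noncomputable def a_pc : List PcS := [⟨(nat_lit 2), [(nat_lit 5), (nat_lit 13), (nat_lit 15), (nat_lit 21), (nat_lit 23), (nat_lit 25)], []⟩,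
  ⟨(nat_lit 2), [(nat_lit 3), (nat_lit 5), (nat_lit 7), (nat_lit 9), (nat_lit 11), (nat_lit 13), (nat_lit 15), (nat_lit 23), (nat_lit 25), (nat_lit 29)], [[(nat_lit 5), (nat_lit 15), (nat_lit 19), (nat_lit 29)]]⟩,
  ⟨(nat_lit 2), [(nat_lit 5), (nat_lit 7), (nat_lit 11), (nat_lit 17), (nat_lit 21), (nat_lit 23)], [[(nat_lit 1), (nat_lit 5), (nat_lit 7), (nat_lit 9), (nat_lit 13), (nat_lit 19), (nat_lit 27)],
  [(nat_lit 1), (nat_lit 9), (nat_lit 11), (nat_lit 17), (nat_lit 19), (nat_lit 25), (nat_lit 27)]]⟩,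
  ⟨(nat_lit 2), [(nat_lit 17), (nat_lit 19), (nat_lit 21), (nat_lit 25)], [[(nat_lit 13), (nat_lit 15), (nat_lit 17), (nat_lit 19), (nat_lit 23), (nat_lit 25)],
  [(nat_lit 3), (nat_lit 5), (nat_lit 11), (nat_lit 15), (nat_lit 21), (nat_lit 23)],
  [(nat_lit 5), (nat_lit 7), (nat_lit 9), (nat_lit 13), (nat_lit 15), (nat_lit 17), (nat_lit 19), (nat_lit 21), (nat_lit 23)]]⟩,
  ⟨(nat_lit 2), [(nat_lit 3), (nat_lit 5), (nat_lit 7), (nat_lit 9), (nat_lit 11), (nat_lit 23)], [[(nat_lit 1), (nat_lit 3), (nat_lit 7), (nat_lit 11), (nat_lit 13), (nat_lit 15), (nat_lit 17), (nat_lit 21), (nat_lit 23)],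
  [(nat_lit 1), (nat_lit 5), (nat_lit 15), (nat_lit 17)],
  [(nat_lit 1), (nat_lit 5), (nat_lit 9), (nat_lit 15), (nat_lit 17), (nat_lit 19), (nat_lit 21), (nat_lit 23)],
  [(nat_lit 3), (nat_lit 5), (nat_lit 7), (nat_lit 11), (nat_lit 13), (nat_lit 15), (nat_lit 17), (nat_lit 19), (nat_lit 21)]]⟩,
  ⟨(nat_lit 2), [(nat_lit 9), (nat_lit 11), (nat_lit 17), (nat_lit 19), (nat_lit 21)], [[(nat_lit 1), (nat_lit 3), (nat_lit 5), (nat_lit 9), (nat_lit 13), (nat_lit 21)],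
  [(nat_lit 1), (nat_lit 3), (nat_lit 7), (nat_lit 15)],
  [(nat_lit 7), (nat_lit 11), (nat_lit 13), (nat_lit 19)],
  [(nat_lit 13), (nat_lit 17), (nat_lit 21)],
  [(nat_lit 7), (nat_lit 9), (nat_lit 13), (nat_lit 17), (nat_lit 19)]]⟩,
  ⟨(nat_lit 2), [(nat_lit 11), (nat_lit 13), (nat_lit 15)], [[(nat_lit 19)],
  [(nat_lit 3), (nat_lit 5), (nat_lit 9), (nat_lit 15), (nat_lit 19)],
  [(nat_lit 5), (nat_lit 7), (nat_lit 9), (nat_lit 13), (nat_lit 17)],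
  [(nat_lit 11), (nat_lit 13), (nat_lit 15), (nat_lit 17), (nat_lit 19)],
  [(nat_lit 5), (nat_lit 7), (nat_lit 9), (nat_lit 11), (nat_lit 17), (nat_lit 19)],
  [(nat_lit 7), (nat_lit 9), (nat_lit 13), (nat_lit 15), (nat_lit 17)]]⟩,
  ⟨(nat_lit 2), [], [[(nat_lit 3), (nat_lit 7), (nat_lit 9), (nat_lit 13), (nat_lit 15), (nat_lit 17)],
  [(nat_lit 1), (nat_lit 7), (nat_lit 15)],
  [(nat_lit 3), (nat_lit 5), (nat_lit 11), (nat_lit 15)],
  [(nat_lit 5), (nat_lit 7), (nat_lit 9), (nat_lit 11), (nat_lit 17)],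
  [(nat_lit 3), (nat_lit 5), (nat_lit 9), (nat_lit 11), (nat_lit 13), (nat_lit 15), (nat_lit 17)],
  [(nat_lit 5), (nat_lit 7), (nat_lit 15)],
  [(nat_lit 9), (nat_lit 11)]]⟩,
  ⟨(nat_lit 2), [], [[(nat_lit 1), (nat_lit 3), (nat_lit 11)],
  [(nat_lit 1), (nat_lit 3), (nat_lit 9), (nat_lit 13), (nat_lit 15)],
  [(nat_lit 3), (nat_lit 9), (nat_lit 13)],
  [(nat_lit 3), (nat_lit 5), (nat_lit 11), (nat_lit 13)],
  [(nat_lit 5), (nat_lit 7), (nat_lit 11), (nat_lit 13)],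
  [(nat_lit 7), (nat_lit 13), (nat_lit 15)],
  [(nat_lit 11), (nat_lit 13)],
  []]⟩,
  ⟨(nat_lit 2), [], [[(nat_lit 1), (nat_lit 3), (nat_lit 5), (nat_lit 13)],
  [(nat_lit 1)],
  [(nat_lit 1), (nat_lit 3), (nat_lit 7), (nat_lit 9), (nat_lit 11)],
  [(nat_lit 5), (nat_lit 7), (nat_lit 9), (nat_lit 11)],
  [(nat_lit 5), (nat_lit 7), (nat_lit 13)],
  [(nat_lit 9), (nat_lit 13)],
  [(nat_lit 11), (nat_lit 13)],
  [],
  []]⟩,
  ⟨(nat_lit 2), [], [[(nat_lit 3), (nat_lit 7), (nat_lit 11)],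
  [],
  [(nat_lit 3), (nat_lit 7), (nat_lit 9), (nat_lit 11)],
  [(nat_lit 9), (nat_lit 11)],
  [(nat_lit 9), (nat_lit 11)],
  [],
  [],
  [],
  [],
  []]⟩,
  ⟨(nat_lit 2), [], [[(nat_lit 3), (nat_lit 7)],
  [(nat_lit 3), (nat_lit 5), (nat_lit 9)],
  [(nat_lit 1), (nat_lit 7)],
  [(nat_lit 7)],
  [(nat_lit 5), (nat_lit 7), (nat_lit 9)],
  [],
  [(nat_lit 9)],
  [],
  [],
  [],
  []]⟩,
  ⟨(nat_lit 2), [], [[(nat_lit 7)],
  [(nat_lit 7)],
  [],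
  [],
  [],
  [],
  [],
  [],
  [],
  [],
  [],
  []]⟩,
  ⟨(nat_lit 2), [], [[(nat_lit 3), (nat_lit 5)],
  [(nat_lit 1), (nat_lit 3)],
  [(nat_lit 3), (nat_lit 5)],
  [(nat_lit 5)],
  [(nat_lit 3), (nat_lit 5)],
  [(nat_lit 5)],
  [],
  [],
  [],
  [],
  [],
  [],
  []]⟩,
  ⟨(nat_lit 2), [], [[(nat_lit 1)],
  [(nat_lit 1), (nat_lit 3)],
  [(nat_lit 3)],
  [(nat_lit 3)],
  [(nat_lit 3)],
  [],
  [],
  [],
  [],
  [],
  [],
  [],
  [],
  []]⟩,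
  ⟨(nat_lit 2), [], [[(nat_lit 1)],
  [],
  [(nat_lit 1)],
  [],
  [],
  [],
  [],
  [],
  [],
  [],
  [],
  [],
  [],
  [],
  []]⟩,
  ⟨(nat_lit 2), [], [[],
  [],
  [],
  [],
  [],
  [],
  [],
  [],
  [],
  [],
  [],
  [],
  [],
  [],
  [],
  []]⟩]
noncomputable def a_zu : List (List (List Nat)) := []
noncomputable def a_hs : List (List Nat) := [[(nat_lit 22), (nat_lit 9), (nat_lit 7), (nat_lit 5), (nat_lit 1), (nat_lit 27), (nat_lit 22), (nat_lit 23), (nat_lit 27), (nat_lit 30), (nat_lit 31), (nat_lit 30), (nat_lit 35)],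
  [(nat_lit 1), (nat_lit 3), (nat_lit 5), (nat_lit 24), (nat_lit 32), (nat_lit 9), (nat_lit 15), (nat_lit 7), (nat_lit 5), (nat_lit 3), (nat_lit 27), (nat_lit 7), (nat_lit 21), (nat_lit 27), (nat_lit 7), (nat_lit 5), (nat_lit 23), (nat_lit 22), (nat_lit 24), (nat_lit 31), (nat_lit 33)],
  [(nat_lit 1), (nat_lit 22), (nat_lit 3), (nat_lit 5), (nat_lit 24), (nat_lit 28), (nat_lit 24), (nat_lit 5), (nat_lit 3), (nat_lit 24), (nat_lit 5), (nat_lit 1), (nat_lit 21), (nat_lit 28), (nat_lit 23), (nat_lit 31), (nat_lit 28), (nat_lit 33)],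
  [(nat_lit 31), (nat_lit 28), (nat_lit 24), (nat_lit 21), (nat_lit 7), (nat_lit 5), (nat_lit 31), (nat_lit 23), (nat_lit 27), (nat_lit 23), (nat_lit 30), (nat_lit 25), (nat_lit 32), (nat_lit 32)]]
noncomputable def a_u_N_0 : Net := (Net.cons (nat_lit 1) (nat_lit 0x4105104515005010045141414405405401155050401500411514044055401500505014410450501115410445450104501140504) (Net.cons (nat_lit 2) (nat_lit 0x133030132330000123022322131010002332221001022030031312230001300113120021232021101322103100001103101032110) (Net.cons (nat_lit 4) (nat_lit 0x40e0e050f06050401050206040e00080c0a0a0e080101070403000d0e0407000c09020a0c00090907090a060b0c040d0b070800) (Net.cons (nat_lit 8) (nat_lit 0x9f00540006007600fb003600a4001d006300fc003d006a006c00e6000600d000960010000000880037000800a3000c00d30000) (Net.cons (nat_lit 16) (nat_lit 0x8da80000d4c20000c5620000bfb3000016120000f5320000e90b00008e61000070430000001600000e41000014ed00000000)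 (Net.cons (nat_lit 32) (nat_lit 0x200000000e4841162000000004a2137c5000000005282198700000000204e9ca6000000009b0210d00000000020000000) (Net.cons (nat_lit 64) (nat_lit 0xa5334026c05026ab00000000000000002040060c7086db8200000000000000000000000200000000) (Net.cons (nat_lit 128) (nat_lit 0x240000b02000000000000000000000000000000000a96d8c8a43ea9d5b765466000000000) (Net.cons (nat_lit 256) (nat_lit 0x44885b020ed6feccad3eb9d5b765466200000000) (Net.cons (nat_lit 128) (nat_lit 0xdbf7ff4fd000000000000000000000000000000002ad69eccb43eb955b765466200000000) (Net.cons (nat_lit 64) (nat_lit 0xeb69679b6289c7080000000000000000b74526477c82df2200000000000000008b04805224938000) (Net.cons (nat_lit 32) (nat_lit 0x100000000207f408d00000000e6315f9b0000000065780b4600000000f9089981000000009b1490d00000000024f1380a) (Net.cons (nat_lit 16) (nat_lit 0x24af00003e610000291600008c380000fa500000373a0000bfeb0000df2f00006dc70000645e00006d45000004480000abe8)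 (Net.cons (nat_lit 8) (nat_lit 0x34002f00a9009d009000e600b7004700a1001b0028003600c90014004b00b2007000f0008700a100c400ca00ad00b4007f0049) (Net.cons (nat_lit 4) (nat_lit 0x90302080c01090e040105080c0f0804000200050a06010204050b0a060e050f040c0a010a0f0b090a0c0201060e0b0b0b0e0401) (Net.cons (nat_lit 2) (nat_lit 0x322301131131210100103323311213211111333101010002213111303132123223101323230310320033323203103203201220321) (Net.cons (nat_lit 1) (nat_lit 0x114101505151404450000441414000104410144010141140455445040041041444004010141504551054500504101115511001045) Net.nil)))))))))))))))))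
noncomputable def a_u_N_1 : Net := (Net.cons (nat_lit 1) (nat_lit 0x151144011454014015055005155054445104450444411555045414151041544051041415540445144155515115015140515151400) (Net.cons (nat_lit 2) (nat_lit 0x330332221111322003021101123313100110311231110311212123232221123012202311221312210301213333003330132320000) (Net.cons (nat_lit 4) (nat_lit 0xa05080b0903040d07090d040c030301030f02020503090f0b010f000e0b02090c020b00080f0600030604040c01010002000a0b) (Net.cons (nat_lit 8) (nat_lit 0x30009f0039004400d200d50058000100a9002000be00c100f0005900e100250010002c005d00cc0097008200c3009600810000) (Net.cons (nat_lit 16) (nat_lit 0xbe4600000f830000ce8000000a680000f6cf0000c6a000000ede0000983c0000c6260000e5b0000001090000242c0000000a) (Net.cons (nat_lit 32) (nat_lit 0xbf81405800000000b06f010a0000000098da2822000000001c38821c00000000dac3a1600000000088c810d0) (Net.cons (nat_lit 64) (nat_lit 0xc6018e484494a37e0000000000000000802d4040901002100000000000000000000000010e01a120)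 (Net.cons (nat_lit 128) (nat_lit 0x1006483d00000000000000000000000000000000012c0080d04200408403404000000000) (Net.cons (nat_lit 256) (nat_lit 0xf6bf9b7c2dbffcae7fe6f3de5d7fffcea71966e7f) (Net.cons (nat_lit 128) (nat_lit 0x58401b2a000000000000000000000000000000000f811757d05d14a1b2a88b9affff9b7e2) (Net.cons (nat_lit 64) (nat_lit 0xb6bdb86b2b2ffe350000000000000000ff130975046915cc0000000000000000338384013c088724) (Net.cons (nat_lit 32) (nat_lit 0x500000000a676990a000000008b163192000000005b9bd681000000009eb716df00000000c0e9689200000000d029c2da) (Net.cons (nat_lit 16) (nat_lit 0x208a0000737d0000fa6000009bd50000a1350000d5b40000a1380000dddc0000f2d70000ee9c0000860e000021c60000c082) (Net.cons (nat_lit 8) (nat_lit 0xca004200ad000f0004000200a100470050000500b20082003f0020000100ba0025005d005200260079002a008400e6006c0068) (Net.cons (nat_lit 4) (nat_lit 0x10f0302010e09000c0e08020a0d0706010c010d03080b060102060c090c01020d070900080e0702070b0e0806000c0a03040007)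 (Net.cons (nat_lit 2) (nat_lit 0x10131001233301330301021103311022210133020122220023303000201031102211131321231330120212233000330232201232) (Net.cons (nat_lit 1) (nat_lit 0x144104505415541155004510414151444041544445054415440405451555540451045501150444415401440151500111110541414) Net.nil)))))))))))))))))
noncomputable def a_u_N_2 : Net := (Net.cons (nat_lit 1) (nat_lit 0x500004100050000015555541151150001440545051104144154400510510011050154504051051154410114455500444440540040) (Net.cons (nat_lit 2) (nat_lit 0x10330231020312202322032222103001102233031331323120302210201232013031000310011300002001333203311320002100) (Net.cons (nat_lit 4) (nat_lit 0x90e0402030f090b0d060d0b060e040f0a02040c040c0a0703010a020a0f020c05070c0103040405070c0400090e020d0d0c0505) (Net.cons (nat_lit 8) (nat_lit 0x1200a60084005700fb00930045009500e7001700aa0040005c005b0026003300c000fe00f800d3008c00f40014003900190004)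 (Net.cons (nat_lit 16) (nat_lit 0x4aea0000c0480000d24300001c470000c6780000630b00002153000048cf0000a8e10000822900008c0b00002e8000000000) (Net.cons (nat_lit 32) (nat_lit 0x90000000063647a04000000008c134a4500000000d3c8694500000000cc804850000000000f8603a30000000048a03000) (Net.cons (nat_lit 64) (nat_lit 0x28440da79084286b000000000000000029c90228032d4251000000000000000000000000c8882201) (Net.cons (nat_lit 128) (nat_lit 0x24014200100000000000000000000000000000000d43624c09c924b7c29ad32a000000000) (Net.cons (nat_lit 256) (nat_lit 0x3481d8001dfbf34c1fefadffc69ef3bb000002000) (Net.cons (nat_lit 128) (nat_lit 0xdbfe3dffe0000000000000000000000000000000096b717eaa73fc1fd0bc13630b412344e) (Net.cons (nat_lit 64) (nat_lit 0xabfcf7ad10c5912200000000000000000c53108f8bad2a910000000000000000b033da265f2416c3) (Net.cons (nat_lit 32) (nat_lit 0x600000000c07a4b0e00000000c3c1a994000000005829137600000000c26dec48000000003b0f0ce100000000a4715775)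 (Net.cons (nat_lit 16) (nat_lit 0xd53d000078ed0000bb120000e7840000c83100005eec0000875b00006a0400004a72000046f60000861d0000bbcb0000aa97) (Net.cons (nat_lit 8) (nat_lit 0x130061004c004200ad00d1008c008600f4000700ca008f001e00aa00f800dc00d400b30081003c0063001200c9002100820000) (Net.cons (nat_lit 4) (nat_lit 0xd000d070f030b090c03020401040603020d04080a0c040106060f0f050603060e0f0700080e030f060e010609090d01070c0e) (Net.cons (nat_lit 2) (nat_lit 0x202110313032031010213012003033331301212001031210102001210103112332021231310003101200320100130310233022023) (Net.cons (nat_lit 1) (nat_lit 0x14500015101454405001154411414045044544040144555115055545155504044555545555510454541440454450500011011050) Net.nil)))))))))))))))))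
noncomputable def a_u_N_3 : Net := (Net.cons (nat_lit 1) (nat_lit 0x504110044005554040504540411514144554501414111114144505154511405140054511441145140511450450400410054100) (Net.cons (nat_lit 2) (nat_lit 0x210110311031022330123302312131012212310021002031021011000303313333100201332011303221221312311003030130120) (Net.cons (nat_lit 4) (nat_lit 0xa0b0e0f03040b0c000e0c0106070c0c090f01070504090f09040507060c0b0b0d020c07040e0a0a03070f0a0702010802020400) (Net.cons (nat_lit 8) (nat_lit 0x8100a700bb00d600530015008e002b002b00840038002a001800820019000400d40032005200840040000000c4000300000000) (Net.cons (nat_lit 16) (nat_lit 0x20440000e60e0000904000000ff400002b3a0000551e00005c0000003a080000a92200000420000000240000822000000000) (Net.cons (nat_lit 32) (nat_lit 0x785582330000000080e95256000000003567b29300000000f112101000000000400440210000000000000000) (Net.cons (nat_lit 64) (nat_lit 0x680fa0aa2e5805c0000000000000000b11218044004042000000000000000000000000000000000)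 (Net.cons (nat_lit 128) (nat_lit 0x811014000000000000000000000000000000000042cc43090ee0c0dc2400b80000000000) (Net.cons (nat_lit 256) (nat_lit 0x81101400c2cc431b0ee4c0dc2400b80000000000) (Net.cons (nat_lit 128) (nat_lit 0xa151901000000000000000000000000000000000f3d65b8f4ee4c0fc2400b80000000000) (Net.cons (nat_lit 64) (nat_lit 0x10dbd1c009030468000000000000000020bffb2d401a1c3000000000000000004424402000202081) (Net.cons (nat_lit 32) (nat_lit 0xf00000000912dbcd4000000005460e17800000000dce5279b00000000821e1d90000000004004c0210000000030409f18) (Net.cons (nat_lit 16) (nat_lit 0x2aca0000d2740000a037000008ae0000d97600003159000045240000ea5e00004214000016ec00001a3f0000822200000004) (Net.cons (nat_lit 8) (nat_lit 0x8800af000900d9004c00010083005400ad001400ae00f80084003c00a1001c0029003a002e008600dc001800c4000300020040) (Net.cons (nat_lit 4) (nat_lit 0xc020e0f0704000b070701040f0702030904000803080b030403000203050c09000c06000700070a03070f0a0702010806030402)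 (Net.cons (nat_lit 2) (nat_lit 0x230312233013102123230022033023221302233022110330131010303123102133133320022301113321221312311203230130120) (Net.cons (nat_lit 1) (nat_lit 0x44415550410115040050451440111455541445011415140111401001154515541145550100050155140511451450400410054100) Net.nil)))))))))))))))))
noncomputable def a_u_N : List Net := [a_u_N_0, a_u_N_1, a_u_N_2, a_u_N_3]
noncomputable def a_u_pt : BT Nat := (BT.leaf (nat_lit 0xdb6db0dabda2d9dd98d91d8bd8ad89d86d74d6fd68d62d61d60d5dd4bd46d32d31d27d26d20cf8ce4ce3cd9cd8cd2c99c8bc88c86c7ac79c78c70c28c1ac17c15c09c08c07bffbc6babba8ba6ba5b93b89b88b87b86b7fb78b77b5cb4eb47b30b2fb25b17b13b0faf4af1aefaeeadcad2ad1ad0acfac8ac1ac0aa5a97a90a79a78a6ea60a5ca55a54a53a3fa39a37a34a21a1fa1ea0fa0ea0da0c9f59db9d69cf9ce9c29bf9b999098f98c98598498396f96996796495194f94e93f93e93d93c92590b9068ff8fe8f28ef8e98c08bf8bc8b28a489688987f87e87d87c86e8628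4583d83c8368267ff7f37e57d77ca7c07bf7be7bd7af7a378677e77d77776774072672572471971371270c7046fc6fa6f96f86e66e06df6d869269169068567f67e67867066866666566465264c64b6446036026016005fd5f25f15ed5e75e55e45e15df5de5dd5d75c65c25a758f58e58d58c58957e57d57957357157056d56b56a56956355254e53351d51c50c5045035024ff4f64e14de4d44c34c24b24aa4a94a84a549c48748447a47245144b44944843b43a43843242a4094034014003f33f23f03ea3e93e43c93c73c63c53bd3b73b239739539439338b38536c36a36536135f34634433f33b32630e3012f92ef2e72e22df2d82d52cf2c92b92b82b72b629a25d24e24c24921420e20c2052032011ff1fa1f61f51f31c91c31bf1bd1bc1bb1b91b81b71b61aa19817417317217116f15915715615515215014f14a14914514313a13313112e12c12b12a12912011b11911810b10a1091081041010fe0fa0f60f50f40f30ea0e50e30db0d70d50cc0cb0ca0c20bc0ae0a90a70a608a07d07107006f06d06a05504f04a04604503a03302b020001))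
noncomputable def a_u_pi : Nat → Nat := BT.record a_u_pt (nat_lit 10) (nat_lit 1023) (nat_lit 12) (nat_lit 4095)
noncomputable def a_u_t0 : BT Nat := (BT.leaf (nat_lit 0xd1e8b43a0cfe7b3b9ccde6b3398cbe5b2b94c9e4b2390c7e3b1b8cc5e2b1388c3e1b0b84c1e0b0380bfdfafb7cbddeaf378bbddaeb74b9dcae370b7dbadb6cb5daad368b3d9acb64b1d8ac360afd7abb5cadd6ab358abd5aab54a9d4aa350a7d3a9b4ca5d2a9348a3d1a8b44a1d0a83409fcfa7b3c9dcea73389bcda6b3499cca633097cba5b2c95caa532893c9a4b2491c8a43208fc7a3b1c8dc6a33188bc5a2b1489c4a231087c3a1b0c85c2a130883c1a0b0481c0a03007fbf9fafc7dbe9f2f87bbd9eaf479bc9e2f077bb9daec75ba9d2e873b99cae471b89c2e06fb79badc6db69b2d86bb59aad469b49a2d067b399acc65b2992c863b198ac461b0982c05faf97abc5dae972b85bad96ab459ac962b057ab95aac55aa952a853a994aa451a8942a04fa793a9c4da6932984ba592a9449a49229047a391a8c45a29128843a190a8441a0902803f9f8fa7c3d9e8f2783b9d8ea74399c8e270379b8da6c359a8d26833998ca6431988c2602f978ba5c2d968b2582b958aa5429948a250279389a4c259289248239188a442190882401f8f87a3c1d8e872381b8d86a34198c86230178b85a2c158a85228138984a241188842200f8783a1c0d86832180b8582a14098482210078381a0c058281208038180a04018080200))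
noncomputable def a_u_t1 : BT Nat := (BT.leaf (nat_lit 0xacd0edd2ab6b8e232795ca6df5879c068144a156a8304814fa070594452252589c55c5267a3d60cc158b31e53f723962cd4532e5df005f2f5a6d2cce6f3ed5732bd5b34b3474e47d8c3ea16df88345a0c05fe4b2998613d948a28dd466c733c42214fb67b2cf86b70b814ba3d16332396cbe353882af482d138a94de192199af1707736bc5e0b0d0e830d8bcee7b0e9344dce73538fd9e3cfc9d4695c685d5a73589c462b38c5bacb25d4db0cd5466966d53278fc76432ad8b05168f62a647276fd7f576fd3dbe366e0a8bc1b1914aa5c1e450d875caed24c231ab6b3c01a96b319945e1edb6d371697d96dab04c3bfa7706f9ab53a32ca983fdd6ea7631f0b46aade9ad774a5edd36bb1c256f495b5b2bf79745c5ce9b42aa51cc9abdd302f8ae3dd247e4f25ddcc4442b120964aa813ede6ba05429946a3156aa67591da9a3fa011ebba7b75228643a62a12f3b20ce365a41ed146f3c9d0ea663d19d646453996473c4222cdc7005174345f2c0c062532512c881b3116ca8502f0749c332290c8c4d1a0c89e192d104382f1f0b4a22317130a461011007e12210ec78592b154ae5c148a8500d1d0dc8e391e8043c2b2403c18631b0104e60248d42c05040904a13160400e0b0b82470180a00022210709844150307c0620))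
noncomputable def a_u_t2 : BT Nat := (BT.leaf (nat_lit 0xa250e572ab6c9a4f11b7456df589fd02035982d6a83028240e7d429444a291392ca582e366b454adf67bd5a8f35d2f960ef5e3961ea6913995cf1cce873eb25c34a2d398f59cf08a5bbf216ff58cedeca370e4b479853b2d7f06904dea47d41b2a18fb75bb168777eb01fd94d164f2395be639e8687cc6e43389b546156899b6db8c73e435a70ecde83358bce61310e434ba6693a8fc76ccfaa9c6993636d5e70d8ac3e273b5f6cb9dd135b0d356d4e756071990c6e3f2d74633ddf11ca658998a45155b0583cbdf65d2dbaa7512c362b1172af56daef57bcf6168f46b025104d66c35de50049af6d978b8dc2bd5da5a2e0f7ea532150ed6138a209c6855f015caddcee5324245eed315aacdbad5701b6ff2cb5466d29a46a3154f035dde8b5584d5122964aa7d9d3d56221207e4f2612ebb92285029942aa51e8e331d6469b3fa0156673d4f1248643a82c9493b1bce74f981ece272a8594f2643a1965eeea437a1118371c0d46c1015c781c3014cc4302b11c685f188cc64552e0f4825424944983e2d16c3623149349e59270dc8c3a1c90c4e351b0ac500d1507c344b28128ba5e220fc8413120b85e2d0e8182a1620014100001094a4452c184900c07864080b0a0e012121101c58210818c1c170880c301e008ec4c0a))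
noncomputable def a_u_t3 : BT Nat := (BT.leaf (nat_lit 0x46d323ca04c47cfc97b359d2b3354cdaa28e553ee708c47d4a6e854f42e349f4b474196197a9e4671380d038ab37228df3ca4014365a040f9da8b2e81c34f6590fc272092c4deafe7fc32500f140a41a846e8444e0e9120cbe3348c1688dc6a45959021502eeed6278ac6453020c04a02310d89d7811a210d3facd0924908211082f9c1908b6120a8f012571e87cb8167c11e3768b7c9e230a90ca8a981201143c012f0ec3ab40c960ad62b6c7090a826840a435131840667248b05c7679a1e6118650bc482218b39907a3234ee24b26084e66c3c050b243031a0cb4e5abf5ee381c9196ec24a525883a0c155dc7736bd0e866abd6c2eb6589f53ad5395acc04a169aec8de6ddb18e796c941a4da35360a28234d96c73480d628108c10dea0bb449d5032971dbaff4f4da68f72b8a49a2ae93e3ea734d81d0eb53e745ee1cfc9ad4e838061b0542803fc4966ec4ccee0d7972ce9cd0f6bd5ab8c573de9c97075b19810d5fb254cea31e4744b0aae6f3d9abedd1a0a3c2389bf75cae3972f1a3dfabcbe49abd5b8565c41c13267daa6376975cb4389cea7148a570e43313daa51725965d2f200bdb057e0f4bc6e3f18ae783c9de0ac3e670d2d8ce299ad1665cf3ea2965a746b8a364e9509ae8834124c5e222f94be65f3800))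
noncomputable def a_u_t4 : BT Nat := (BT.leaf (nat_lit 0x89847a090a97476012f1703c35010c0a604070c4c436131484e250386878060f874905797a9e30844e938b603451b8f13ca4900a85a0b0f9da6c8fa7a16ba611082520cd66d5cbd56c33082b151341671652366eaa659c8be334363b2aa54e38121a214035ad772783c6551474d90aa99c23069783d1d92391c6e590eaccc11082f9c18fc38134c46941618f25ace08c0d5e3768cf6870d0a90e2436f802d392a97b31fa3a463a224d162c547018a8149e6a53347d31562db1d91bc88c924a61236edb2cace7d888a02310b46e27c35991288b379d4ee6d4f9586e452aaf2b7505dad16eb239d21894f772d4305921bc8321723bdcccf15c9a8e0d541b61046933930582e520bca2106cb21bf103edad8e6025090934dbe64f2f08c119470392c05103a0c462d8a3a4da68f79fce61f32d725cd6a734c7e534790b85e9473a7d4e7195cab2c142803fe758c934cbc170e7683f144cd74b0f017fbcded9ee85f2cd5ee280331c2ef31cfe04c1aac4edf2596dd1cb0e94435a519a241562b6a3cf60eeb76301ff099136a2d32724ba6317b55ca4f2a89351b6dc534fa097eaa515e7427b3f57efea352ebd5facc0e82f59dbd1d40a93456237dbadb61ed364c9256e6b4cb2b506b0562bb85a50825373b738eed4380d022800))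
noncomputable def a_u_t5 : BT Nat := (BT.leaf (nat_lit 0xad4fe4f6e8acaa291289c9656f381d128543ac4120501a05660b4194ca2df2671c45b76d49af95b0079391813e52a919adf67bf56cec5fac5c0ccc4e670923683d5d5621e875066a6ada0aea66a36992b878e531d8c842ba1cd29a09c609437aca726187b4cac588b39a1b96d1e57277cc8e3e4446ab3eaa6622914df94d1abd9d64a304edfef4d067b3f8ac361f370628dde39202e970bd218d8f1822f7f5c7179ccd677430773aa1b30c0d429b84772e031b98c868b2f247c319673a18cd572af5831186c5c95a6336a961b0b383c15fdc2d14e3a5b0d6c45168d47aa1c4977abddadc5105132c9379b85e2bb5e9ea76bf4abf131d0a78c2f1deba78116b781ae4c6ed17454cae57321bdd853c5e955f37596cbafa760109406a32835f0b09aad8102071d824434b4d26cfe1e0f8042a37ba2190e911b04408260c0529290442b01c2e11cbd427b4c81858ca401c9083a76a48dc781c09020220c8e56e176e8b661483ea2ce670054e2984136c76171eb632066348d1389a7ca8d48b65a5a2269c540d9107c651913c52692fd9504de3d58ecf614b8a81e480623266683bd5df7360e01410165d9d16b4f9ba3d0a3f2104c24004fa7accc735c7c500b0699d402b323391a403aaa9dd503318d31644aa58f28e55aa4fc20))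
noncomputable def a_u_t6 : BT Nat := (BT.leaf (nat_lit 0xa1c0a232b94caa251492c4edd0480d12855aa0bce7f039f5660b588aca2dee39349d4b6d763ad81067532d5b406db71a8d2912f560935c2e62cd3c4e83085b6d3c1e5621e87484081f5a078a266b41a2bf60e8f1d93194ed46df9c948a60c1413668614e331126870385c596ca657198fd15f19eb4973f29a62138c1f5531aae97c69412b95eefcce7b178ad0e233500b64f639200d170bd218d95de2c75e51f3f9dcde730cd8a5d568b0c2ec294957884931b92cbe47218096c5eed3518ce962ff5b4cad52ccc5feb6c362834ef7498da5ccc987d1a0f7ec3b65d371bc100d709c2d7a1ae553392c75fa5551d16bbb84af3706b1f2ba5a0e3f9e8f67aad6337db9e0966c615b11f35c36dd4524f7ed3ae4f77c55b028601838050e64582f77a5435d02150f8799ce74d26cfe091d8180f50c19d92088130102236332ec9c8748a484a79b2905427b4c804ce54400fc0a7419ab01e2a329e9bc64a79d4beee0dd9088340b02c9013054e2992f21c763f1e28941db48b0d25644c9b4de46a723158aaca6ecc1aa38844f1844a5b88cc01012126cf1a4f9e0dc734a23e66582c91df7518c210d47d0a0e88a19a92315472419c13a004ba62cc2f25c2cde8b360b12a8a110851c711ca142e370c18d3c2d501f85c8d54aad2c20))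
noncomputable def a_u_t7 : BT Nat := (BT.leaf (nat_lit 0xc6e430f8acf667439ace6230997c968f2795c75f31f91d16531996c4e2f419bc3675b19fb55a6ed7296ba18b98aad52fd5da33e2fec6adacebf3d71c464d4ec2be588faa64e0caee3bbf26d776cdc15174923ce033fb1df5d2d7855863e646f1f2191dbc5c5ab30bd35af73e815020944ad509cf186fc6ed11e8d42e4162b3602b8c2a4e09878392c4a4f1495dbe52f7843be69539bccdf739a6d46acb7c0af6272ab74a22afe5f2e1793aa94d6d6cabcb420743acd060b0e68b2d9f21b3c725917b9a89c4e0ac369cd22721e646a570a8e8b07af2b5e4f0b6ba9ed3b7a1d278b078aba9509a3d8164b949c0180fd8354182b65fbb574b4344c6332ebaa9d989c8834e1b16b2b5192d26eb358e69994bd48a66e395b67f4ba613f4ba42bd62ec7abad0c8e47aa916ff3b2412485462ad1a84879ed329b3f2554096381c6d88050a053c6e37d5d0eac442a5148948aeccc83412699c673e9e0e66c391a9909d5aa50da6ba7d90f4750009c604b27974bc572a1688a472e10c8c5b1a8c4944c2f9389a50301445e0d2c154b2442b0147c1204104783d0f06472141b838a629198c8a461248b45c2c0583c680c31010062411884440a0a8ec341c0d87474180b84c3e380b1000410150d89028158800c3f008248426128440e63))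
noncomputable def a_u_t8 : BT Nat := (BT.leaf (nat_lit 0xcb63f3b89c267f0d9bc46733d7ccc633298ecae5f21a2c8e4f478dc5683179ad0e1ed799964ba2f32bade6ad92a2d1e0f4bb0605875c7be02955e9344dc68984e0f05397dccd7666abcd2a4d6b8b9ef131b9cfe06f341466f77a9042e34ce33db23767543665ea76bdddd340824fa0542ac512e0dd7043239668fd8615218f2cd8d4859312fef993c524b1294db6575b76bc1f935a8ce298fa9d4dd8b3c7c2f223288acaadcbf49c017b4d9b54db1237433e034182d0eb2d24e441a1628eda2d5769238546dfad395b6e49159194a45138aab7e9ebc55cefb7bd5d6f49dd3d6eaf56bcabf85aa51a92ba5f2e1ff067e9d56cc17f421726d5add2fb6996cc19ad165c3e2d0d3d325a90e8c330d6c8b93554adc53369cc804b278fd5d612c1d8b1753d90e8d54a14d8c0481d922aa55a311c6a69a64f69a4fa812a974e9f4f87f40a8530943c1dd0c885623ce74e49195dc72b1a6cc8de389bd148b41a10d270341b968c73a1e6cb500009c604b27974bc572a1688a472e10c8c5b1a8c4944c2f9389a50301445e0d2c154b2442b0147c1204104783d0f06472141b838a629198c8a461248b45c2c0583c680c31010062411884440a0a8ec341c0d87474180b84c3e380b1000410150d89028158800c3f008248426128440e63))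
noncomputable def a_u_TT : BT (BT Nat) := (BT.node (nat_lit 4) (BT.node (nat_lit 2) (BT.node (nat_lit 1) (BT.leaf a_u_t0) (BT.leaf a_u_t1)) (BT.node (nat_lit 3) (BT.leaf a_u_t2) (BT.leaf a_u_t3))) (BT.node (nat_lit 6) (BT.node (nat_lit 5) (BT.leaf a_u_t4) (BT.leaf a_u_t5)) (BT.node (nat_lit 7) (BT.leaf a_u_t6) (BT.node (nat_lit 8) (BT.leaf a_u_t7) (BT.leaf a_u_t8)))))
noncomputable def a_c : List Lvl := [⟨(nat_lit 0), [[(nat_lit 7)]], (nat_lit 3)⟩,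
  ⟨(nat_lit 1), [[(nat_lit 5)],
  [(nat_lit 4), (nat_lit 8)]], (nat_lit 7)⟩,
  ⟨(nat_lit 5), [[(nat_lit 5), (nat_lit 4), (nat_lit 2), (nat_lit 8), (nat_lit 6), (nat_lit 1)],
  [(nat_lit 6), (nat_lit 8), (nat_lit 3), (nat_lit 1), (nat_lit 5)]], (nat_lit 3)⟩,
  ⟨(nat_lit 3), [[(nat_lit 6), (nat_lit 2), (nat_lit 4), (nat_lit 7), (nat_lit 5), (nat_lit 5), (nat_lit 4), (nat_lit 8), (nat_lit 8), (nat_lit 6), (nat_lit 4)]], (nat_lit 1)⟩,
  ⟨(nat_lit 100), [[(nat_lit 3), (nat_lit 5), (nat_lit 7), (nat_lit 7), (nat_lit 3), (nat_lit 6), (nat_lit 6), (nat_lit 8), (nat_lit 3), (nat_lit 1), (nat_lit 3), (nat_lit 3), (nat_lit 2), (nat_lit 2), (nat_lit 5), (nat_lit 2), (nat_lit 6), (nat_lit 2), (nat_lit 8), (nat_lit 5), (nat_lit 3)]], (nat_lit 3)⟩,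
  ⟨(nat_lit 4), [[(nat_lit 2), (nat_lit 7), (nat_lit 3), (nat_lit 1), (nat_lit 7), (nat_lit 3)]], (nat_lit 1)⟩]
noncomputable def a_X0 : List (List Nat) := [[]]
noncomputable def a_X1 : List (List Nat) := [[],
  [(nat_lit 1)]]
noncomputable def a_E0 : List Ent := [Ent.split [⟨[], (nat_lit 0), []⟩, ⟨[], (nat_lit 1), []⟩]]
noncomputable def a_X2 : List (List Nat) := [[],
  [(nat_lit 3)],
  [(nat_lit 1)],
  [(nat_lit 1), (nat_lit 3)]]
noncomputable def a_E1 : List Ent := [Ent.split [⟨[], (nat_lit 0), []⟩, ⟨[], (nat_lit 1), []⟩],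
  Ent.split [⟨[], (nat_lit 2), []⟩, ⟨[], (nat_lit 3), []⟩]]
noncomputable def a_X3 : List (List Nat) := [[],
  [(nat_lit 5)],
  [(nat_lit 3)],
  [(nat_lit 3), (nat_lit 5)],
  [(nat_lit 1)],
  [(nat_lit 1), (nat_lit 5)],
  [(nat_lit 1), (nat_lit 3)],
  [(nat_lit 1), (nat_lit 3), (nat_lit 5)]]
noncomputable def a_E2 : List Ent := [Ent.split [⟨[], (nat_lit 0), []⟩, ⟨[], (nat_lit 1), []⟩],
  Ent.split [⟨[], (nat_lit 2), []⟩, ⟨[], (nat_lit 3), []⟩],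
  Ent.split [⟨[], (nat_lit 4), []⟩, ⟨[], (nat_lit 5), []⟩],
  Ent.split [⟨[], (nat_lit 6), []⟩, ⟨[], (nat_lit 7), []⟩]]
noncomputable def a_X4 : List (List Nat) := [[],
  [(nat_lit 7)],
  [(nat_lit 5)],
  [(nat_lit 3), (nat_lit 5)],
  [(nat_lit 1), (nat_lit 5)],
  [(nat_lit 1), (nat_lit 3)],
  [(nat_lit 1), (nat_lit 3), (nat_lit 7)],
  [(nat_lit 1), (nat_lit 3), (nat_lit 5)]]
noncomputable def a_E3 : List Ent := [Ent.split [⟨[], (nat_lit 0), []⟩, ⟨[], (nat_lit 1), []⟩],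
  Ent.merge [(nat_lit 3)] (nat_lit 1) [(nat_lit 7), (nat_lit 9), (nat_lit 15), (nat_lit 17), (nat_lit 23), (nat_lit 25)] ⟨[], (nat_lit 2), []⟩,
  Ent.dead (nat_lit 1) [(nat_lit 1), (nat_lit 3), (nat_lit 5), (nat_lit 7), (nat_lit 9), (nat_lit 11), (nat_lit 19), (nat_lit 21), (nat_lit 25)],
  Ent.merge [(nat_lit 5)] (nat_lit 1) [(nat_lit 3), (nat_lit 9), (nat_lit 11), (nat_lit 21), (nat_lit 23), (nat_lit 25)] ⟨[], (nat_lit 3), []⟩,
  Ent.dead (nat_lit 1) [(nat_lit 7), (nat_lit 9), (nat_lit 15), (nat_lit 17), (nat_lit 19)],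
  Ent.merge [(nat_lit 5)] (nat_lit 1) [(nat_lit 3), (nat_lit 9), (nat_lit 13), (nat_lit 15), (nat_lit 17), (nat_lit 19), (nat_lit 23)] ⟨[], (nat_lit 4), []⟩,
  Ent.split [⟨[], (nat_lit 5), []⟩, ⟨[], (nat_lit 6), []⟩],
  Ent.merge [(nat_lit 3)] (nat_lit 1) [(nat_lit 1), (nat_lit 7), (nat_lit 9), (nat_lit 13), (nat_lit 21), (nat_lit 25)] ⟨[], (nat_lit 7), []⟩]
noncomputable def a_X5 : List (List Nat) := [[],
  [(nat_lit 9)],
  [(nat_lit 7)],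
  [(nat_lit 7), (nat_lit 9)],
  [(nat_lit 5)],
  [(nat_lit 5), (nat_lit 9)],
  [(nat_lit 1), (nat_lit 5)],
  [(nat_lit 1), (nat_lit 3)],
  [(nat_lit 1), (nat_lit 3), (nat_lit 7)],
  [(nat_lit 1), (nat_lit 3), (nat_lit 5)],
  [(nat_lit 1), (nat_lit 3), (nat_lit 5), (nat_lit 9)]]
noncomputable def a_E4 : List Ent := [Ent.split [⟨[], (nat_lit 0), []⟩, ⟨[], (nat_lit 1), []⟩],
  Ent.split [⟨[], (nat_lit 2), []⟩, ⟨[], (nat_lit 3), []⟩],
  Ent.split [⟨[], (nat_lit 4), []⟩, ⟨[], (nat_lit 5), []⟩],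
  Ent.dead (nat_lit 1) [(nat_lit 1), (nat_lit 5), (nat_lit 7), (nat_lit 9), (nat_lit 11), (nat_lit 17), (nat_lit 21)],
  Ent.merge [(nat_lit 3), (nat_lit 5), (nat_lit 11), (nat_lit 13), (nat_lit 17), (nat_lit 23), (nat_lit 27), (nat_lit 29)] (nat_lit 1) [(nat_lit 1), (nat_lit 3), (nat_lit 7), (nat_lit 9), (nat_lit 11), (nat_lit 13), (nat_lit 17), (nat_lit 19), (nat_lit 21), (nat_lit 23)] ⟨[], (nat_lit 6), []⟩,
  Ent.merge [(nat_lit 3)] (nat_lit 1) [(nat_lit 1), (nat_lit 3), (nat_lit 7), (nat_lit 9), (nat_lit 11), (nat_lit 13), (nat_lit 19), (nat_lit 23)] ⟨[], (nat_lit 7), []⟩,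
  Ent.merge [(nat_lit 3)] (nat_lit 1) [(nat_lit 3), (nat_lit 5), (nat_lit 11), (nat_lit 17), (nat_lit 21)] ⟨[], (nat_lit 8), []⟩,
  Ent.split [⟨[], (nat_lit 9), []⟩, ⟨[], (nat_lit 10), []⟩]]
noncomputable def a_X6 : List (List Nat) := [[],
  [(nat_lit 11)],
  [(nat_lit 9)],
  [(nat_lit 7)],
  [(nat_lit 7), (nat_lit 9)],
  [(nat_lit 5), (nat_lit 9)],
  [(nat_lit 1), (nat_lit 5)],
  [(nat_lit 1), (nat_lit 5), (nat_lit 11)],
  [(nat_lit 1), (nat_lit 3), (nat_lit 7)],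
  [(nat_lit 1), (nat_lit 3), (nat_lit 5), (nat_lit 9)]]
noncomputable def a_E5 : List Ent := [Ent.split [⟨[], (nat_lit 0), []⟩, ⟨[], (nat_lit 1), []⟩],
  Ent.merge [(nat_lit 5)] (nat_lit 1) [(nat_lit 3), (nat_lit 7), (nat_lit 13), (nat_lit 15), (nat_lit 17), (nat_lit 19), (nat_lit 21)] ⟨[], (nat_lit 2), []⟩,
  Ent.merge [(nat_lit 3)] (nat_lit 1) [(nat_lit 1), (nat_lit 7), (nat_lit 11), (nat_lit 17), (nat_lit 19)] ⟨[], (nat_lit 3), []⟩,
  Ent.merge [(nat_lit 5)] (nat_lit 1) [(nat_lit 1), (nat_lit 5), (nat_lit 7), (nat_lit 9), (nat_lit 11), (nat_lit 21)] ⟨[], (nat_lit 4), []⟩,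
  Ent.dead (nat_lit 1) [(nat_lit 1), (nat_lit 5), (nat_lit 11), (nat_lit 15), (nat_lit 17)],
  Ent.merge [(nat_lit 9)] (nat_lit 1) [(nat_lit 3), (nat_lit 7), (nat_lit 15), (nat_lit 19)] ⟨[], (nat_lit 5), []⟩,
  Ent.split [⟨[], (nat_lit 6), []⟩, ⟨[], (nat_lit 7), []⟩],
  Ent.dead (nat_lit 1) [(nat_lit 1), (nat_lit 11), (nat_lit 15), (nat_lit 21)],
  Ent.merge [(nat_lit 7)] (nat_lit 1) [(nat_lit 3), (nat_lit 5), (nat_lit 7), (nat_lit 9), (nat_lit 11), (nat_lit 13), (nat_lit 15)] ⟨[], (nat_lit 8), []⟩,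
  Ent.dead (nat_lit 1) [(nat_lit 1), (nat_lit 7), (nat_lit 9), (nat_lit 11), (nat_lit 19), (nat_lit 21)],
  Ent.merge [(nat_lit 9)] (nat_lit 1) [(nat_lit 3), (nat_lit 9), (nat_lit 13), (nat_lit 17), (nat_lit 21)] ⟨[], (nat_lit 9), []⟩]
noncomputable def a_X7 : List (List Nat) := [[],
  [(nat_lit 13)],
  [(nat_lit 11)],
  [(nat_lit 7)],
  [(nat_lit 7), (nat_lit 9)],
  [(nat_lit 5), (nat_lit 9)],
  [(nat_lit 1), (nat_lit 5)],
  [(nat_lit 1), (nat_lit 3), (nat_lit 5), (nat_lit 9)]]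
noncomputable def a_E6 : List Ent := [Ent.split [⟨[], (nat_lit 0), []⟩, ⟨[], (nat_lit 1), []⟩],
  Ent.merge [(nat_lit 3)] (nat_lit 1) [(nat_lit 1), (nat_lit 5), (nat_lit 13)] ⟨[], (nat_lit 2), []⟩,
  Ent.dead (nat_lit 1) [(nat_lit 1), (nat_lit 3), (nat_lit 5), (nat_lit 7), (nat_lit 19)],
  Ent.merge [(nat_lit 9)] (nat_lit 1) [(nat_lit 1), (nat_lit 3), (nat_lit 7), (nat_lit 9)] ⟨[], (nat_lit 3), []⟩,
  Ent.merge [(nat_lit 9)] (nat_lit 1) [(nat_lit 1), (nat_lit 3), (nat_lit 7), (nat_lit 9), (nat_lit 11), (nat_lit 13), (nat_lit 15)] ⟨[], (nat_lit 4), []⟩,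
  Ent.merge [(nat_lit 1), (nat_lit 3), (nat_lit 7), (nat_lit 9), (nat_lit 11), (nat_lit 13), (nat_lit 15), (nat_lit 17), (nat_lit 19), (nat_lit 27), (nat_lit 29), (nat_lit 33)] (nat_lit 1) [(nat_lit 1), (nat_lit 3), (nat_lit 5), (nat_lit 9), (nat_lit 11), (nat_lit 15), (nat_lit 17), (nat_lit 19)] ⟨[], (nat_lit 5), []⟩,
  Ent.merge [(nat_lit 11)] (nat_lit 1) [(nat_lit 1), (nat_lit 3), (nat_lit 5), (nat_lit 15)] ⟨[], (nat_lit 6), []⟩,
  Ent.dead (nat_lit 1) [(nat_lit 1), (nat_lit 3), (nat_lit 7), (nat_lit 9), (nat_lit 11), (nat_lit 13)],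
  Ent.dead (nat_lit 1) [(nat_lit 1), (nat_lit 3), (nat_lit 5), (nat_lit 7), (nat_lit 11)],
  Ent.merge [(nat_lit 5)] (nat_lit 1) [(nat_lit 1), (nat_lit 3), (nat_lit 11), (nat_lit 15), (nat_lit 19)] ⟨[], (nat_lit 7), []⟩]
noncomputable def a_X8 : List (List Nat) := [[],
  [(nat_lit 15)],
  [(nat_lit 13)],
  [(nat_lit 13), (nat_lit 15)],
  [(nat_lit 11)],
  [(nat_lit 11), (nat_lit 15)],
  [(nat_lit 7)],
  [(nat_lit 7), (nat_lit 15)],
  [(nat_lit 7), (nat_lit 9)],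
  [(nat_lit 7), (nat_lit 9), (nat_lit 15)],
  [(nat_lit 5), (nat_lit 9)],
  [(nat_lit 5), (nat_lit 9), (nat_lit 15)],
  [(nat_lit 1), (nat_lit 5)],
  [(nat_lit 1), (nat_lit 5), (nat_lit 15)],
  [(nat_lit 1), (nat_lit 3), (nat_lit 5), (nat_lit 9)],
  [(nat_lit 1), (nat_lit 3), (nat_lit 5), (nat_lit 9), (nat_lit 15)]]
noncomputable def a_E7 : List Ent := [Ent.split [⟨[], (nat_lit 0), []⟩, ⟨[], (nat_lit 1), []⟩],
  Ent.split [⟨[], (nat_lit 2), []⟩, ⟨[], (nat_lit 3), []⟩],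
  Ent.split [⟨[], (nat_lit 4), []⟩, ⟨[], (nat_lit 5), []⟩],
  Ent.split [⟨[], (nat_lit 6), []⟩, ⟨[], (nat_lit 7), []⟩],
  Ent.split [⟨[], (nat_lit 8), []⟩, ⟨[], (nat_lit 9), []⟩],
  Ent.split [⟨[], (nat_lit 10), []⟩, ⟨[], (nat_lit 11), []⟩],
  Ent.split [⟨[], (nat_lit 12), []⟩, ⟨[], (nat_lit 13), []⟩],
  Ent.split [⟨[], (nat_lit 14), []⟩, ⟨[], (nat_lit 15), []⟩]]
noncomputable def a_X9 : List (List Nat) := [[],
  [(nat_lit 17)],
  [(nat_lit 15)],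
  [(nat_lit 13)],
  [(nat_lit 13), (nat_lit 15)],
  [(nat_lit 13), (nat_lit 15), (nat_lit 17)],
  [(nat_lit 11)],
  [(nat_lit 11), (nat_lit 15)],
  [(nat_lit 11), (nat_lit 15), (nat_lit 17)],
  [(nat_lit 7)],
  [(nat_lit 7), (nat_lit 17)],
  [(nat_lit 7), (nat_lit 15)],
  [(nat_lit 7), (nat_lit 15), (nat_lit 17)],
  [(nat_lit 7), (nat_lit 9)],
  [(nat_lit 7), (nat_lit 9), (nat_lit 15)],
  [(nat_lit 7), (nat_lit 9), (nat_lit 15), (nat_lit 17)],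
  [(nat_lit 5), (nat_lit 9)],
  [(nat_lit 5), (nat_lit 9), (nat_lit 17)],
  [(nat_lit 5), (nat_lit 9), (nat_lit 15)],
  [(nat_lit 5), (nat_lit 9), (nat_lit 15), (nat_lit 17)],
  [(nat_lit 1), (nat_lit 5)],
  [(nat_lit 1), (nat_lit 5), (nat_lit 17)],
  [(nat_lit 1), (nat_lit 5), (nat_lit 15)],
  [(nat_lit 1), (nat_lit 5), (nat_lit 15), (nat_lit 17)],
  [(nat_lit 1), (nat_lit 3), (nat_lit 5), (nat_lit 9), (nat_lit 15)]]
noncomputable def a_E8 : List Ent := [Ent.split [⟨[], (nat_lit 0), []⟩, ⟨[], (nat_lit 1), []⟩],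
  Ent.merge [(nat_lit 3)] (nat_lit 1) [(nat_lit 5), (nat_lit 13)] ⟨[], (nat_lit 2), []⟩,
  Ent.merge [(nat_lit 3)] (nat_lit 1) [(nat_lit 1), (nat_lit 5), (nat_lit 11), (nat_lit 15)] ⟨[], (nat_lit 3), []⟩,
  Ent.split [⟨[], (nat_lit 4), []⟩, ⟨[], (nat_lit 5), []⟩],
  Ent.merge [(nat_lit 1), (nat_lit 3), (nat_lit 7), (nat_lit 9), (nat_lit 11), (nat_lit 13), (nat_lit 15), (nat_lit 17), (nat_lit 19), (nat_lit 27), (nat_lit 29), (nat_lit 33)] (nat_lit 1) [(nat_lit 1), (nat_lit 3), (nat_lit 5), (nat_lit 9), (nat_lit 15)] ⟨[], (nat_lit 6), []⟩,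
  Ent.split [⟨[], (nat_lit 7), []⟩, ⟨[], (nat_lit 8), []⟩],
  Ent.split [⟨[], (nat_lit 9), []⟩, ⟨[], (nat_lit 10), []⟩],
  Ent.split [⟨[], (nat_lit 11), []⟩, ⟨[], (nat_lit 12), []⟩],
  Ent.merge [(nat_lit 3), (nat_lit 9), (nat_lit 13), (nat_lit 15), (nat_lit 17), (nat_lit 19), (nat_lit 21)] (nat_lit 1) [(nat_lit 1), (nat_lit 5), (nat_lit 9)] ⟨[], (nat_lit 13), []⟩,
  Ent.split [⟨[], (nat_lit 14), []⟩, ⟨[], (nat_lit 15), []⟩],
  Ent.split [⟨[], (nat_lit 16), []⟩, ⟨[], (nat_lit 17), []⟩],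
  Ent.split [⟨[], (nat_lit 18), []⟩, ⟨[], (nat_lit 19), []⟩],
  Ent.split [⟨[], (nat_lit 20), []⟩, ⟨[], (nat_lit 21), []⟩],
  Ent.split [⟨[], (nat_lit 22), []⟩, ⟨[], (nat_lit 23), []⟩],
  Ent.dead (nat_lit 1) [(nat_lit 3), (nat_lit 5), (nat_lit 7), (nat_lit 11), (nat_lit 13)],
  Ent.merge [(nat_lit 15)] (nat_lit 1) [(nat_lit 5), (nat_lit 15)] ⟨[], (nat_lit 24), []⟩]
noncomputable def a_X10 : List (List Nat) := [[],
  [(nat_lit 19)],
  [(nat_lit 17)],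
  [(nat_lit 15)],
  [(nat_lit 13)],
  [(nat_lit 13), (nat_lit 15)],
  [(nat_lit 13), (nat_lit 15), (nat_lit 17)],
  [(nat_lit 13), (nat_lit 15), (nat_lit 17), (nat_lit 19)],
  [(nat_lit 11)],
  [(nat_lit 11), (nat_lit 15)],
  [(nat_lit 11), (nat_lit 15), (nat_lit 19)],
  [(nat_lit 11), (nat_lit 15), (nat_lit 17)],
  [(nat_lit 11), (nat_lit 15), (nat_lit 17), (nat_lit 19)],
  [(nat_lit 7)],
  [(nat_lit 7), (nat_lit 19)],
  [(nat_lit 7), (nat_lit 17)],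
  [(nat_lit 7), (nat_lit 15)],
  [(nat_lit 7), (nat_lit 15), (nat_lit 17)],
  [(nat_lit 7), (nat_lit 15), (nat_lit 17), (nat_lit 19)],
  [(nat_lit 7), (nat_lit 9), (nat_lit 15)],
  [(nat_lit 7), (nat_lit 9), (nat_lit 15), (nat_lit 17)],
  [(nat_lit 5), (nat_lit 9)],
  [(nat_lit 5), (nat_lit 9), (nat_lit 19)],
  [(nat_lit 5), (nat_lit 9), (nat_lit 17)],
  [(nat_lit 5), (nat_lit 9), (nat_lit 17), (nat_lit 19)],
  [(nat_lit 5), (nat_lit 9), (nat_lit 15)],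
  [(nat_lit 5), (nat_lit 9), (nat_lit 15), (nat_lit 19)],
  [(nat_lit 5), (nat_lit 9), (nat_lit 15), (nat_lit 17)],
  [(nat_lit 5), (nat_lit 9), (nat_lit 15), (nat_lit 17), (nat_lit 19)],
  [(nat_lit 1), (nat_lit 5), (nat_lit 17)],
  [(nat_lit 1), (nat_lit 5), (nat_lit 15), (nat_lit 17)],
  [(nat_lit 1), (nat_lit 3), (nat_lit 5), (nat_lit 9), (nat_lit 15)],
  [(nat_lit 1), (nat_lit 3), (nat_lit 5), (nat_lit 9), (nat_lit 15), (nat_lit 19)]]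
noncomputable def a_E9 : List Ent := [Ent.split [⟨[], (nat_lit 0), []⟩, ⟨[], (nat_lit 1), []⟩],
  Ent.merge [(nat_lit 3)] (nat_lit 1) [(nat_lit 1), (nat_lit 7), (nat_lit 11), (nat_lit 13)] ⟨[], (nat_lit 2), []⟩,
  Ent.merge [(nat_lit 9)] (nat_lit 1) [(nat_lit 1), (nat_lit 5), (nat_lit 7), (nat_lit 9), (nat_lit 11), (nat_lit 13)] ⟨[], (nat_lit 3), []⟩,
  Ent.merge [(nat_lit 9)] (nat_lit 1) [(nat_lit 1), (nat_lit 3), (nat_lit 5), (nat_lit 11), (nat_lit 13)] ⟨[], (nat_lit 4), []⟩,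
  Ent.merge [(nat_lit 3)] (nat_lit 1) [(nat_lit 9), (nat_lit 11), (nat_lit 13)] ⟨[], (nat_lit 5), []⟩,
  Ent.split [⟨[], (nat_lit 6), []⟩, ⟨[], (nat_lit 7), []⟩],
  Ent.merge [(nat_lit 9)] (nat_lit 1) [(nat_lit 1), (nat_lit 5), (nat_lit 9), (nat_lit 11)] ⟨[], (nat_lit 8), []⟩,
  Ent.split [⟨[], (nat_lit 9), []⟩, ⟨[], (nat_lit 10), []⟩],
  Ent.split [⟨[], (nat_lit 11), []⟩, ⟨[], (nat_lit 12), []⟩],
  Ent.split [⟨[], (nat_lit 13), []⟩, ⟨[], (nat_lit 14), []⟩],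
  Ent.merge [(nat_lit 1)] (nat_lit 1) [(nat_lit 3), (nat_lit 5), (nat_lit 7), (nat_lit 9), (nat_lit 11), (nat_lit 13)] ⟨[], (nat_lit 15), []⟩,
  Ent.merge [(nat_lit 1)] (nat_lit 1) [(nat_lit 1), (nat_lit 7), (nat_lit 9)] ⟨[], (nat_lit 16), []⟩,
  Ent.split [⟨[], (nat_lit 17), []⟩, ⟨[], (nat_lit 18), []⟩],
  Ent.dead (nat_lit 1) [(nat_lit 3), (nat_lit 5), (nat_lit 7), (nat_lit 9), (nat_lit 11), (nat_lit 13)],
  Ent.merge [(nat_lit 15)] (nat_lit 1) [(nat_lit 3), (nat_lit 5), (nat_lit 7), (nat_lit 11), (nat_lit 13)] ⟨[], (nat_lit 19), []⟩,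
  Ent.merge [(nat_lit 15)] (nat_lit 1) [(nat_lit 3), (nat_lit 5), (nat_lit 7), (nat_lit 11), (nat_lit 13)] ⟨[], (nat_lit 20), []⟩,
  Ent.split [⟨[], (nat_lit 21), []⟩, ⟨[], (nat_lit 22), []⟩],
  Ent.split [⟨[], (nat_lit 23), []⟩, ⟨[], (nat_lit 24), []⟩],
  Ent.split [⟨[], (nat_lit 25), []⟩, ⟨[], (nat_lit 26), []⟩],
  Ent.split [⟨[], (nat_lit 27), []⟩, ⟨[], (nat_lit 28), []⟩],
  Ent.dead (nat_lit 1) [(nat_lit 5), (nat_lit 7)],
  Ent.merge [(nat_lit 17)] (nat_lit 1) [(nat_lit 5), (nat_lit 7), (nat_lit 13)] ⟨[], (nat_lit 29), []⟩,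
  Ent.dead (nat_lit 1) [(nat_lit 11), (nat_lit 13)],
  Ent.merge [(nat_lit 17)] (nat_lit 1) [(nat_lit 5), (nat_lit 7), (nat_lit 13)] ⟨[], (nat_lit 30), []⟩,
  Ent.split [⟨[], (nat_lit 31), []⟩, ⟨[], (nat_lit 32), []⟩]]
noncomputable def a_X11 : List (List Nat) := [[],
  [(nat_lit 21)],
  [(nat_lit 19)],
  [(nat_lit 17)],
  [(nat_lit 15)],
  [(nat_lit 13)],
  [(nat_lit 13), (nat_lit 15)],
  [(nat_lit 13), (nat_lit 15), (nat_lit 17)],
  [(nat_lit 13), (nat_lit 15), (nat_lit 17), (nat_lit 19)],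
  [(nat_lit 13), (nat_lit 15), (nat_lit 17), (nat_lit 19), (nat_lit 21)],
  [(nat_lit 11), (nat_lit 15)],
  [(nat_lit 11), (nat_lit 15), (nat_lit 19)],
  [(nat_lit 11), (nat_lit 15), (nat_lit 17)],
  [(nat_lit 11), (nat_lit 15), (nat_lit 17), (nat_lit 19)],
  [(nat_lit 7)],
  [(nat_lit 7), (nat_lit 19)],
  [(nat_lit 7), (nat_lit 15), (nat_lit 17)],
  [(nat_lit 7), (nat_lit 15), (nat_lit 17), (nat_lit 19)],
  [(nat_lit 7), (nat_lit 9), (nat_lit 15)],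
  [(nat_lit 5), (nat_lit 9), (nat_lit 19)],
  [(nat_lit 5), (nat_lit 9), (nat_lit 17)],
  [(nat_lit 5), (nat_lit 9), (nat_lit 15)],
  [(nat_lit 5), (nat_lit 9), (nat_lit 15), (nat_lit 17), (nat_lit 19)],
  [(nat_lit 1), (nat_lit 5), (nat_lit 17)],
  [(nat_lit 1), (nat_lit 5), (nat_lit 15), (nat_lit 17)],
  [(nat_lit 1), (nat_lit 5), (nat_lit 15), (nat_lit 17), (nat_lit 21)],
  [(nat_lit 1), (nat_lit 3), (nat_lit 5), (nat_lit 9), (nat_lit 15), (nat_lit 19)]]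
noncomputable def a_E10 : List Ent := [Ent.split [⟨[], (nat_lit 0), []⟩, ⟨[], (nat_lit 1), []⟩],
  Ent.merge [(nat_lit 5)] (nat_lit 1) [(nat_lit 1), (nat_lit 5), (nat_lit 7), (nat_lit 9)] ⟨[], (nat_lit 2), []⟩,
  Ent.merge [(nat_lit 7)] (nat_lit 1) [(nat_lit 1), (nat_lit 7), (nat_lit 9)] ⟨[], (nat_lit 3), []⟩,
  Ent.merge [(nat_lit 11)] (nat_lit 1) [(nat_lit 1), (nat_lit 9)] ⟨[], (nat_lit 4), []⟩,
  Ent.merge [(nat_lit 11)] (nat_lit 1) [(nat_lit 1), (nat_lit 5), (nat_lit 7), (nat_lit 9)] ⟨[], (nat_lit 5), []⟩,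
  Ent.merge [(nat_lit 7)] (nat_lit 1) [(nat_lit 1), (nat_lit 7), (nat_lit 9)] ⟨[], (nat_lit 6), []⟩,
  Ent.merge [(nat_lit 5)] (nat_lit 1) [(nat_lit 1), (nat_lit 5), (nat_lit 9)] ⟨[], (nat_lit 7), []⟩,
  Ent.split [⟨[], (nat_lit 8), []⟩, ⟨[], (nat_lit 9), []⟩],
  Ent.dead (nat_lit 1) [(nat_lit 1), (nat_lit 7), (nat_lit 9), (nat_lit 11)],
  Ent.merge [(nat_lit 15)] (nat_lit 1) [(nat_lit 1), (nat_lit 9)] ⟨[], (nat_lit 10), []⟩,
  Ent.merge [(nat_lit 15)] (nat_lit 1) [(nat_lit 1), (nat_lit 9)] ⟨[], (nat_lit 11), []⟩,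
  Ent.merge [(nat_lit 15)] (nat_lit 1) [(nat_lit 1), (nat_lit 9)] ⟨[], (nat_lit 12), []⟩,
  Ent.merge [(nat_lit 15)] (nat_lit 1) [(nat_lit 1), (nat_lit 9)] ⟨[], (nat_lit 13), []⟩,
  Ent.merge [(nat_lit 17)] (nat_lit 1) [(nat_lit 1), (nat_lit 7), (nat_lit 9)] ⟨[], (nat_lit 14), []⟩,
  Ent.merge [(nat_lit 17)] (nat_lit 1) [(nat_lit 1), (nat_lit 7), (nat_lit 9)] ⟨[], (nat_lit 15), []⟩,
  Ent.dead (nat_lit 1) [(nat_lit 1), (nat_lit 3), (nat_lit 5), (nat_lit 9), (nat_lit 11)],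
  Ent.dead (nat_lit 1) [(nat_lit 1), (nat_lit 7)],
  Ent.merge [(nat_lit 17)] (nat_lit 1) [(nat_lit 1), (nat_lit 7), (nat_lit 9)] ⟨[], (nat_lit 16), []⟩,
  Ent.merge [(nat_lit 17)] (nat_lit 1) [(nat_lit 1), (nat_lit 7), (nat_lit 9)] ⟨[], (nat_lit 17), []⟩,
  Ent.merge [(nat_lit 17)] (nat_lit 1) [(nat_lit 3), (nat_lit 9), (nat_lit 11)] ⟨[], (nat_lit 18), []⟩,
  Ent.dead (nat_lit 1) [(nat_lit 3), (nat_lit 7), (nat_lit 9), (nat_lit 11)],
  Ent.dead (nat_lit 1) [(nat_lit 1), (nat_lit 5), (nat_lit 7), (nat_lit 9), (nat_lit 11)],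
  Ent.merge [(nat_lit 19)] (nat_lit 1) [(nat_lit 1), (nat_lit 3), (nat_lit 7)] ⟨[], (nat_lit 19), []⟩,
  Ent.merge [(nat_lit 19)] (nat_lit 1) [(nat_lit 1), (nat_lit 3), (nat_lit 7)] ⟨[], (nat_lit 20), []⟩,
  Ent.dead (nat_lit 1) [(nat_lit 1), (nat_lit 3), (nat_lit 7), (nat_lit 11)],
  Ent.merge [(nat_lit 19)] (nat_lit 1) [(nat_lit 1), (nat_lit 3), (nat_lit 7)] ⟨[], (nat_lit 21), []⟩,
  Ent.dead (nat_lit 1) [(nat_lit 1), (nat_lit 3), (nat_lit 7)],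
  Ent.dead (nat_lit 1) [(nat_lit 1), (nat_lit 5), (nat_lit 7), (nat_lit 9)],
  Ent.merge [(nat_lit 19)] (nat_lit 1) [(nat_lit 1), (nat_lit 3), (nat_lit 7)] ⟨[], (nat_lit 22), []⟩,
  Ent.merge [(nat_lit 9)] (nat_lit 1) [(nat_lit 3), (nat_lit 5), (nat_lit 9)] ⟨[], (nat_lit 23), []⟩,
  Ent.split [⟨[], (nat_lit 24), []⟩, ⟨[], (nat_lit 25), []⟩],
  Ent.dead (nat_lit 1) [(nat_lit 3), (nat_lit 7), (nat_lit 9), (nat_lit 11)],
  Ent.merge [(nat_lit 19)] (nat_lit 1) [(nat_lit 9), (nat_lit 11)] ⟨[], (nat_lit 26), []⟩]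
noncomputable def a_X12 : List (List Nat) := [[],
  [(nat_lit 23)],
  [(nat_lit 21)],
  [(nat_lit 21), (nat_lit 23)],
  [(nat_lit 19)],
  [(nat_lit 17)],
  [(nat_lit 15)],
  [(nat_lit 15), (nat_lit 23)],
  [(nat_lit 13)],
  [(nat_lit 13), (nat_lit 23)],
  [(nat_lit 13), (nat_lit 15)],
  [(nat_lit 13), (nat_lit 15), (nat_lit 17)],
  [(nat_lit 13), (nat_lit 15), (nat_lit 17), (nat_lit 19)],
  [(nat_lit 13), (nat_lit 15), (nat_lit 17), (nat_lit 19), (nat_lit 23)],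
  [(nat_lit 13), (nat_lit 15), (nat_lit 17), (nat_lit 19), (nat_lit 21)],
  [(nat_lit 13), (nat_lit 15), (nat_lit 17), (nat_lit 19), (nat_lit 21), (nat_lit 23)],
  [(nat_lit 11), (nat_lit 15)],
  [(nat_lit 11), (nat_lit 15), (nat_lit 19)],
  [(nat_lit 11), (nat_lit 15), (nat_lit 19), (nat_lit 23)],
  [(nat_lit 11), (nat_lit 15), (nat_lit 17)],
  [(nat_lit 11), (nat_lit 15), (nat_lit 17), (nat_lit 19)],
  [(nat_lit 7)],
  [(nat_lit 7), (nat_lit 23)],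
  [(nat_lit 7), (nat_lit 19)],
  [(nat_lit 7), (nat_lit 19), (nat_lit 23)],
  [(nat_lit 7), (nat_lit 15), (nat_lit 17)],
  [(nat_lit 7), (nat_lit 15), (nat_lit 17), (nat_lit 23)],
  [(nat_lit 7), (nat_lit 15), (nat_lit 17), (nat_lit 19)],
  [(nat_lit 7), (nat_lit 15), (nat_lit 17), (nat_lit 19), (nat_lit 23)],
  [(nat_lit 7), (nat_lit 9), (nat_lit 15)],
  [(nat_lit 7), (nat_lit 9), (nat_lit 15), (nat_lit 23)],
  [(nat_lit 5), (nat_lit 9), (nat_lit 19)],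
  [(nat_lit 5), (nat_lit 9), (nat_lit 19), (nat_lit 23)],
  [(nat_lit 5), (nat_lit 9), (nat_lit 17)],
  [(nat_lit 5), (nat_lit 9), (nat_lit 17), (nat_lit 23)],
  [(nat_lit 5), (nat_lit 9), (nat_lit 15)],
  [(nat_lit 5), (nat_lit 9), (nat_lit 15), (nat_lit 23)],
  [(nat_lit 5), (nat_lit 9), (nat_lit 15), (nat_lit 17), (nat_lit 19)],
  [(nat_lit 5), (nat_lit 9), (nat_lit 15), (nat_lit 17), (nat_lit 19), (nat_lit 23)],
  [(nat_lit 1), (nat_lit 5), (nat_lit 17)],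
  [(nat_lit 1), (nat_lit 5), (nat_lit 17), (nat_lit 23)],
  [(nat_lit 1), (nat_lit 5), (nat_lit 15), (nat_lit 17)],
  [(nat_lit 1), (nat_lit 5), (nat_lit 15), (nat_lit 17), (nat_lit 23)],
  [(nat_lit 1), (nat_lit 5), (nat_lit 15), (nat_lit 17), (nat_lit 21)],
  [(nat_lit 1), (nat_lit 5), (nat_lit 15), (nat_lit 17), (nat_lit 21), (nat_lit 23)],
  [(nat_lit 1), (nat_lit 3), (nat_lit 5), (nat_lit 9), (nat_lit 15), (nat_lit 19)],
  [(nat_lit 1), (nat_lit 3), (nat_lit 5), (nat_lit 9), (nat_lit 15), (nat_lit 19), (nat_lit 23)]]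
noncomputable def a_E11 : List Ent := [Ent.split [⟨[], (nat_lit 0), []⟩, ⟨[], (nat_lit 1), []⟩],
  Ent.split [⟨[], (nat_lit 2), []⟩, ⟨[], (nat_lit 3), []⟩],
  Ent.merge [(nat_lit 3), (nat_lit 5), (nat_lit 11), (nat_lit 13), (nat_lit 17), (nat_lit 23), (nat_lit 27), (nat_lit 29)] (nat_lit 1) [(nat_lit 7), (nat_lit 9)] ⟨[], (nat_lit 4), []⟩,
  Ent.merge [(nat_lit 9)] (nat_lit 1) [(nat_lit 1), (nat_lit 5), (nat_lit 7)] ⟨[], (nat_lit 5), []⟩,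
  Ent.split [⟨[], (nat_lit 6), []⟩, ⟨[], (nat_lit 7), []⟩],
  Ent.split [⟨[], (nat_lit 8), []⟩, ⟨[], (nat_lit 9), []⟩],
  Ent.merge [(nat_lit 9)] (nat_lit 1) [(nat_lit 3), (nat_lit 5)] ⟨[], (nat_lit 10), []⟩,
  Ent.merge [(nat_lit 3), (nat_lit 5), (nat_lit 11), (nat_lit 13), (nat_lit 17), (nat_lit 23), (nat_lit 27), (nat_lit 29)] (nat_lit 1) [(nat_lit 3), (nat_lit 9)] ⟨[], (nat_lit 11), []⟩,
  Ent.split [⟨[], (nat_lit 12), []⟩, ⟨[], (nat_lit 13), []⟩],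
  Ent.split [⟨[], (nat_lit 14), []⟩, ⟨[], (nat_lit 15), []⟩],
  Ent.merge [(nat_lit 1), (nat_lit 3), (nat_lit 7), (nat_lit 9), (nat_lit 11), (nat_lit 13), (nat_lit 17), (nat_lit 19), (nat_lit 27), (nat_lit 29), (nat_lit 33)] (nat_lit 1) [(nat_lit 1)] ⟨[], (nat_lit 16), []⟩,
  Ent.split [⟨[], (nat_lit 17), []⟩, ⟨[], (nat_lit 18), []⟩],
  Ent.merge [(nat_lit 9)] (nat_lit 1) [(nat_lit 1), (nat_lit 3), (nat_lit 5), (nat_lit 7), (nat_lit 9)] ⟨[], (nat_lit 19), []⟩,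
  Ent.merge [(nat_lit 9)] (nat_lit 1) [(nat_lit 5), (nat_lit 7)] ⟨[], (nat_lit 20), []⟩,
  Ent.split [⟨[], (nat_lit 21), []⟩, ⟨[], (nat_lit 22), []⟩],
  Ent.split [⟨[], (nat_lit 23), []⟩, ⟨[], (nat_lit 24), []⟩],
  Ent.split [⟨[], (nat_lit 25), []⟩, ⟨[], (nat_lit 26), []⟩],
  Ent.split [⟨[], (nat_lit 27), []⟩, ⟨[], (nat_lit 28), []⟩],
  Ent.split [⟨[], (nat_lit 29), []⟩, ⟨[], (nat_lit 30), []⟩],
  Ent.split [⟨[], (nat_lit 31), []⟩, ⟨[], (nat_lit 32), []⟩],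
  Ent.split [⟨[], (nat_lit 33), []⟩, ⟨[], (nat_lit 34), []⟩],
  Ent.split [⟨[], (nat_lit 35), []⟩, ⟨[], (nat_lit 36), []⟩],
  Ent.split [⟨[], (nat_lit 37), []⟩, ⟨[], (nat_lit 38), []⟩],
  Ent.split [⟨[], (nat_lit 39), []⟩, ⟨[], (nat_lit 40), []⟩],
  Ent.split [⟨[], (nat_lit 41), []⟩, ⟨[], (nat_lit 42), []⟩],
  Ent.split [⟨[], (nat_lit 43), []⟩, ⟨[], (nat_lit 44), []⟩],
  Ent.split [⟨[], (nat_lit 45), []⟩, ⟨[], (nat_lit 46), []⟩]]
noncomputable def a_X13 : List (List Nat) := [[],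
  [(nat_lit 25)],
  [(nat_lit 23)],
  [(nat_lit 21)],
  [(nat_lit 21), (nat_lit 23)],
  [(nat_lit 19)],
  [(nat_lit 17)],
  [(nat_lit 15)],
  [(nat_lit 15), (nat_lit 23)],
  [(nat_lit 13), (nat_lit 15)],
  [(nat_lit 13), (nat_lit 15), (nat_lit 17)],
  [(nat_lit 13), (nat_lit 15), (nat_lit 17), (nat_lit 19)],
  [(nat_lit 13), (nat_lit 15), (nat_lit 17), (nat_lit 19), (nat_lit 23)],
  [(nat_lit 13), (nat_lit 15), (nat_lit 17), (nat_lit 19), (nat_lit 21)],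
  [(nat_lit 13), (nat_lit 15), (nat_lit 17), (nat_lit 19), (nat_lit 21), (nat_lit 23)],
  [(nat_lit 11), (nat_lit 15)],
  [(nat_lit 11), (nat_lit 15), (nat_lit 19)],
  [(nat_lit 11), (nat_lit 15), (nat_lit 19), (nat_lit 23)],
  [(nat_lit 7), (nat_lit 19)],
  [(nat_lit 7), (nat_lit 19), (nat_lit 23)],
  [(nat_lit 7), (nat_lit 15), (nat_lit 17)],
  [(nat_lit 7), (nat_lit 15), (nat_lit 17), (nat_lit 23)],
  [(nat_lit 7), (nat_lit 9), (nat_lit 15)],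
  [(nat_lit 7), (nat_lit 9), (nat_lit 15), (nat_lit 23)],
  [(nat_lit 7), (nat_lit 9), (nat_lit 15), (nat_lit 23), (nat_lit 25)],
  [(nat_lit 5), (nat_lit 9), (nat_lit 19), (nat_lit 23)],
  [(nat_lit 5), (nat_lit 9), (nat_lit 17)],
  [(nat_lit 5), (nat_lit 9), (nat_lit 15)],
  [(nat_lit 5), (nat_lit 9), (nat_lit 15), (nat_lit 17), (nat_lit 19), (nat_lit 23)],
  [(nat_lit 1), (nat_lit 5), (nat_lit 17)],
  [(nat_lit 1), (nat_lit 5), (nat_lit 15), (nat_lit 17), (nat_lit 23)],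
  [(nat_lit 1), (nat_lit 5), (nat_lit 15), (nat_lit 17), (nat_lit 21), (nat_lit 23)],
  [(nat_lit 1), (nat_lit 3), (nat_lit 5), (nat_lit 9), (nat_lit 15), (nat_lit 19), (nat_lit 23)]]
noncomputable def a_E12 : List Ent := [Ent.split [⟨[], (nat_lit 0), []⟩, ⟨[], (nat_lit 1), []⟩],
  Ent.merge [(nat_lit 5)] (nat_lit 1) [(nat_lit 5)] ⟨[], (nat_lit 2), []⟩,
  Ent.merge [(nat_lit 5)] (nat_lit 1) [(nat_lit 3), (nat_lit 5), (nat_lit 7)] ⟨[], (nat_lit 3), []⟩,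
  Ent.merge [(nat_lit 1)] (nat_lit 1) [(nat_lit 1), (nat_lit 3), (nat_lit 5), (nat_lit 7)] ⟨[], (nat_lit 4), []⟩,
  Ent.merge [(nat_lit 9)] (nat_lit 1) [(nat_lit 1), (nat_lit 7)] ⟨[], (nat_lit 5), []⟩,
  Ent.merge [(nat_lit 11)] (nat_lit 1) [(nat_lit 5), (nat_lit 7)] ⟨[], (nat_lit 6), []⟩,
  Ent.merge [(nat_lit 13)] (nat_lit 1) [(nat_lit 1)] ⟨[], (nat_lit 7), []⟩,
  Ent.merge [(nat_lit 13)] (nat_lit 1) [(nat_lit 1), (nat_lit 7)] ⟨[], (nat_lit 8), []⟩,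
  Ent.dead (nat_lit 1) [(nat_lit 1), (nat_lit 3)],
  Ent.dead (nat_lit 1) [(nat_lit 1), (nat_lit 3), (nat_lit 7)],
  Ent.merge [(nat_lit 15)] (nat_lit 1) [(nat_lit 1)] ⟨[], (nat_lit 9), []⟩,
  Ent.merge [(nat_lit 15)] (nat_lit 1) [(nat_lit 1)] ⟨[], (nat_lit 10), []⟩,
  Ent.merge [(nat_lit 15)] (nat_lit 1) [(nat_lit 1)] ⟨[], (nat_lit 11), []⟩,
  Ent.merge [(nat_lit 15)] (nat_lit 1) [(nat_lit 1)] ⟨[], (nat_lit 12), []⟩,
  Ent.merge [(nat_lit 15)] (nat_lit 1) [(nat_lit 1)] ⟨[], (nat_lit 13), []⟩,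
  Ent.merge [(nat_lit 15)] (nat_lit 1) [(nat_lit 1)] ⟨[], (nat_lit 14), []⟩,
  Ent.merge [(nat_lit 17)] (nat_lit 1) [(nat_lit 5), (nat_lit 7)] ⟨[], (nat_lit 15), []⟩,
  Ent.merge [(nat_lit 17)] (nat_lit 1) [(nat_lit 5), (nat_lit 7)] ⟨[], (nat_lit 16), []⟩,
  Ent.merge [(nat_lit 17)] (nat_lit 1) [(nat_lit 5), (nat_lit 7)] ⟨[], (nat_lit 17), []⟩,
  Ent.dead (nat_lit 1) [(nat_lit 3), (nat_lit 5)],
  Ent.dead (nat_lit 1) [(nat_lit 5), (nat_lit 7)],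
  Ent.dead (nat_lit 1) [(nat_lit 1), (nat_lit 3), (nat_lit 7)],
  Ent.dead (nat_lit 1) [(nat_lit 1), (nat_lit 3), (nat_lit 5), (nat_lit 7)],
  Ent.merge [(nat_lit 19)] (nat_lit 1) [(nat_lit 1), (nat_lit 3), (nat_lit 5)] ⟨[], (nat_lit 18), []⟩,
  Ent.merge [(nat_lit 19)] (nat_lit 1) [(nat_lit 1), (nat_lit 3), (nat_lit 5)] ⟨[], (nat_lit 19), []⟩,
  Ent.merge [(nat_lit 19)] (nat_lit 1) [(nat_lit 1), (nat_lit 3), (nat_lit 5)] ⟨[], (nat_lit 20), []⟩,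
  Ent.merge [(nat_lit 19)] (nat_lit 1) [(nat_lit 1), (nat_lit 3), (nat_lit 5)] ⟨[], (nat_lit 21), []⟩,
  Ent.dead (nat_lit 1) [(nat_lit 1), (nat_lit 3)],
  Ent.dead (nat_lit 1) [(nat_lit 1), (nat_lit 3), (nat_lit 5)],
  Ent.merge [(nat_lit 1), (nat_lit 5), (nat_lit 9), (nat_lit 11), (nat_lit 19), (nat_lit 21), (nat_lit 23), (nat_lit 31), (nat_lit 33)] (nat_lit 1) [(nat_lit 1), (nat_lit 7)] ⟨[], (nat_lit 22), []⟩,
  Ent.split [⟨[], (nat_lit 23), []⟩, ⟨[], (nat_lit 24), []⟩],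
  Ent.dead (nat_lit 1) [(nat_lit 1), (nat_lit 5), (nat_lit 7)],
  Ent.merge [(nat_lit 23)] (nat_lit 1) [(nat_lit 3), (nat_lit 7)] ⟨[], (nat_lit 25), []⟩,
  Ent.merge [(nat_lit 23)] (nat_lit 1) [(nat_lit 3), (nat_lit 7)] ⟨[], (nat_lit 26), []⟩,
  Ent.dead (nat_lit 1) [(nat_lit 3)],
  Ent.merge [(nat_lit 23)] (nat_lit 1) [(nat_lit 3), (nat_lit 7)] ⟨[], (nat_lit 27), []⟩,
  Ent.dead (nat_lit 1) [(nat_lit 3), (nat_lit 7)],
  Ent.dead (nat_lit 1) [(nat_lit 1), (nat_lit 5)],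
  Ent.merge [(nat_lit 23)] (nat_lit 1) [(nat_lit 3), (nat_lit 7)] ⟨[], (nat_lit 28), []⟩,
  Ent.merge [(nat_lit 23)] (nat_lit 1) [(nat_lit 1)] ⟨[], (nat_lit 29), []⟩,
  Ent.dead (nat_lit 1) [(nat_lit 1), (nat_lit 7)],
  Ent.dead (nat_lit 1) [(nat_lit 1), (nat_lit 5)],
  Ent.merge [(nat_lit 23)] (nat_lit 1) [(nat_lit 1)] ⟨[], (nat_lit 30), []⟩,
  Ent.dead (nat_lit 1) [(nat_lit 1), (nat_lit 5)],
  Ent.merge [(nat_lit 23)] (nat_lit 1) [(nat_lit 1)] ⟨[], (nat_lit 31), []⟩,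
  Ent.dead (nat_lit 1) [(nat_lit 3)],
  Ent.merge [(nat_lit 23)] (nat_lit 1) [(nat_lit 5), (nat_lit 7)] ⟨[], (nat_lit 32), []⟩]
noncomputable def a_X14 : List (List Nat) := [[],
  [(nat_lit 27)],
  [(nat_lit 25)],
  [(nat_lit 25), (nat_lit 27)],
  [(nat_lit 23)],
  [(nat_lit 21)],
  [(nat_lit 21), (nat_lit 27)],
  [(nat_lit 21), (nat_lit 23)],
  [(nat_lit 19)],
  [(nat_lit 19), (nat_lit 27)],
  [(nat_lit 17)],
  [(nat_lit 15)],
  [(nat_lit 15), (nat_lit 23)],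
  [(nat_lit 15), (nat_lit 23), (nat_lit 27)],
  [(nat_lit 13), (nat_lit 15)],
  [(nat_lit 13), (nat_lit 15), (nat_lit 17)],
  [(nat_lit 13), (nat_lit 15), (nat_lit 17), (nat_lit 27)],
  [(nat_lit 13), (nat_lit 15), (nat_lit 17), (nat_lit 19)],
  [(nat_lit 13), (nat_lit 15), (nat_lit 17), (nat_lit 19), (nat_lit 23)],
  [(nat_lit 13), (nat_lit 15), (nat_lit 17), (nat_lit 19), (nat_lit 21)],
  [(nat_lit 13), (nat_lit 15), (nat_lit 17), (nat_lit 19), (nat_lit 21), (nat_lit 23)],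
  [(nat_lit 13), (nat_lit 15), (nat_lit 17), (nat_lit 19), (nat_lit 21), (nat_lit 23), (nat_lit 27)],
  [(nat_lit 11), (nat_lit 15)],
  [(nat_lit 11), (nat_lit 15), (nat_lit 19)],
  [(nat_lit 11), (nat_lit 15), (nat_lit 19), (nat_lit 27)],
  [(nat_lit 11), (nat_lit 15), (nat_lit 19), (nat_lit 23)],
  [(nat_lit 11), (nat_lit 15), (nat_lit 19), (nat_lit 23), (nat_lit 27)],
  [(nat_lit 7), (nat_lit 19)],
  [(nat_lit 7), (nat_lit 19), (nat_lit 23)],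
  [(nat_lit 7), (nat_lit 15), (nat_lit 17)],
  [(nat_lit 7), (nat_lit 15), (nat_lit 17), (nat_lit 23)],
  [(nat_lit 7), (nat_lit 15), (nat_lit 17), (nat_lit 23), (nat_lit 27)],
  [(nat_lit 7), (nat_lit 9), (nat_lit 15)],
  [(nat_lit 7), (nat_lit 9), (nat_lit 15), (nat_lit 23)],
  [(nat_lit 7), (nat_lit 9), (nat_lit 15), (nat_lit 23), (nat_lit 27)],
  [(nat_lit 7), (nat_lit 9), (nat_lit 15), (nat_lit 23), (nat_lit 25)],
  [(nat_lit 7), (nat_lit 9), (nat_lit 15), (nat_lit 23), (nat_lit 25), (nat_lit 27)],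
  [(nat_lit 5), (nat_lit 9), (nat_lit 17)],
  [(nat_lit 5), (nat_lit 9), (nat_lit 15)],
  [(nat_lit 1), (nat_lit 5), (nat_lit 17)],
  [(nat_lit 1), (nat_lit 5), (nat_lit 17), (nat_lit 27)],
  [(nat_lit 1), (nat_lit 5), (nat_lit 15), (nat_lit 17), (nat_lit 23)],
  [(nat_lit 1), (nat_lit 5), (nat_lit 15), (nat_lit 17), (nat_lit 23), (nat_lit 27)],
  [(nat_lit 1), (nat_lit 5), (nat_lit 15), (nat_lit 17), (nat_lit 21), (nat_lit 23)],
  [(nat_lit 1), (nat_lit 5), (nat_lit 15), (nat_lit 17), (nat_lit 21), (nat_lit 23), (nat_lit 27)],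
  [(nat_lit 1), (nat_lit 3), (nat_lit 5), (nat_lit 9), (nat_lit 15), (nat_lit 19), (nat_lit 23)],
  [(nat_lit 1), (nat_lit 3), (nat_lit 5), (nat_lit 9), (nat_lit 15), (nat_lit 19), (nat_lit 23), (nat_lit 27)]]
noncomputable def a_E13 : List Ent := [Ent.split [⟨[], (nat_lit 0), []⟩, ⟨[], (nat_lit 1), []⟩],
  Ent.split [⟨[], (nat_lit 2), []⟩, ⟨[], (nat_lit 3), []⟩],
  Ent.merge [(nat_lit 3)] (nat_lit 1) [(nat_lit 1), (nat_lit 5)] ⟨[], (nat_lit 4), []⟩,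
  Ent.split [⟨[], (nat_lit 5), []⟩, ⟨[], (nat_lit 6), []⟩],
  Ent.merge [(nat_lit 3)] (nat_lit 1) [(nat_lit 1), (nat_lit 5)] ⟨[], (nat_lit 7), []⟩,
  Ent.split [⟨[], (nat_lit 8), []⟩, ⟨[], (nat_lit 9), []⟩],
  Ent.merge [(nat_lit 5), (nat_lit 7), (nat_lit 9), (nat_lit 13), (nat_lit 15), (nat_lit 17), (nat_lit 19), (nat_lit 21), (nat_lit 25), (nat_lit 27), (nat_lit 29), (nat_lit 31), (nat_lit 33)] (nat_lit 1) [(nat_lit 5)] ⟨[], (nat_lit 10), []⟩,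
  Ent.merge [(nat_lit 5), (nat_lit 9), (nat_lit 11), (nat_lit 15), (nat_lit 17), (nat_lit 19), (nat_lit 23)] (nat_lit 1) [(nat_lit 1)] ⟨[], (nat_lit 11), []⟩,
  Ent.split [⟨[], (nat_lit 12), []⟩, ⟨[], (nat_lit 13), []⟩],
  Ent.merge [(nat_lit 11)] (nat_lit 1) [(nat_lit 1)] ⟨[], (nat_lit 14), []⟩,
  Ent.split [⟨[], (nat_lit 15), []⟩, ⟨[], (nat_lit 16), []⟩],
  Ent.merge [(nat_lit 3)] (nat_lit 1) [(nat_lit 1)] ⟨[], (nat_lit 17), []⟩,
  Ent.merge [(nat_lit 5), (nat_lit 15)] (nat_lit 1) [(nat_lit 1), (nat_lit 5)] ⟨[], (nat_lit 18), []⟩,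
  Ent.merge [(nat_lit 5), (nat_lit 15)] (nat_lit 1) [] ⟨[], (nat_lit 19), []⟩,
  Ent.split [⟨[], (nat_lit 20), []⟩, ⟨[], (nat_lit 21), []⟩],
  Ent.merge [(nat_lit 9)] (nat_lit 1) [(nat_lit 5)] ⟨[], (nat_lit 22), []⟩,
  Ent.split [⟨[], (nat_lit 23), []⟩, ⟨[], (nat_lit 24), []⟩],
  Ent.split [⟨[], (nat_lit 25), []⟩, ⟨[], (nat_lit 26), []⟩],
  Ent.merge [(nat_lit 11), (nat_lit 19)] (nat_lit 1) [(nat_lit 1), (nat_lit 3)] ⟨[], (nat_lit 27), []⟩,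
  Ent.merge [(nat_lit 11), (nat_lit 19)] (nat_lit 1) [(nat_lit 1), (nat_lit 3)] ⟨[], (nat_lit 28), []⟩,
  Ent.merge [(nat_lit 5), (nat_lit 9), (nat_lit 13), (nat_lit 15), (nat_lit 21)] (nat_lit 1) [(nat_lit 5)] ⟨[], (nat_lit 29), []⟩,
  Ent.split [⟨[], (nat_lit 30), []⟩, ⟨[], (nat_lit 31), []⟩],
  Ent.merge [(nat_lit 3), (nat_lit 9), (nat_lit 13), (nat_lit 15), (nat_lit 17), (nat_lit 19), (nat_lit 21)] (nat_lit 1) [(nat_lit 1), (nat_lit 5)] ⟨[], (nat_lit 32), []⟩,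
  Ent.split [⟨[], (nat_lit 33), []⟩, ⟨[], (nat_lit 34), []⟩],
  Ent.split [⟨[], (nat_lit 35), []⟩, ⟨[], (nat_lit 36), []⟩],
  Ent.dead (nat_lit 1) [(nat_lit 1), (nat_lit 3)],
  Ent.merge [(nat_lit 17), (nat_lit 19), (nat_lit 23)] (nat_lit 1) [(nat_lit 1), (nat_lit 3), (nat_lit 5)] ⟨[], (nat_lit 37), []⟩,
  Ent.merge [(nat_lit 17), (nat_lit 19), (nat_lit 23)] (nat_lit 1) [(nat_lit 1), (nat_lit 3), (nat_lit 5)] ⟨[], (nat_lit 38), []⟩,
  Ent.dead (nat_lit 1) [(nat_lit 1), (nat_lit 3), (nat_lit 5)],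
  Ent.split [⟨[], (nat_lit 39), []⟩, ⟨[], (nat_lit 40), []⟩],
  Ent.split [⟨[], (nat_lit 41), []⟩, ⟨[], (nat_lit 42), []⟩],
  Ent.split [⟨[], (nat_lit 43), []⟩, ⟨[], (nat_lit 44), []⟩],
  Ent.split [⟨[], (nat_lit 45), []⟩, ⟨[], (nat_lit 46), []⟩]]
noncomputable def a_X15 : List (List Nat) := [[],
  [(nat_lit 29)],
  [(nat_lit 27)],
  [(nat_lit 25)],
  [(nat_lit 25), (nat_lit 29)],
  [(nat_lit 25), (nat_lit 27)],
  [(nat_lit 23)],
  [(nat_lit 21)],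
  [(nat_lit 21), (nat_lit 29)],
  [(nat_lit 21), (nat_lit 27)],
  [(nat_lit 21), (nat_lit 23)],
  [(nat_lit 19)],
  [(nat_lit 19), (nat_lit 27)],
  [(nat_lit 17)],
  [(nat_lit 15)],
  [(nat_lit 15), (nat_lit 29)],
  [(nat_lit 15), (nat_lit 23)],
  [(nat_lit 15), (nat_lit 23), (nat_lit 29)],
  [(nat_lit 15), (nat_lit 23), (nat_lit 27)],
  [(nat_lit 15), (nat_lit 23), (nat_lit 27), (nat_lit 29)],
  [(nat_lit 13), (nat_lit 15), (nat_lit 17)],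
  [(nat_lit 13), (nat_lit 15), (nat_lit 17), (nat_lit 27)],
  [(nat_lit 13), (nat_lit 15), (nat_lit 17), (nat_lit 19)],
  [(nat_lit 13), (nat_lit 15), (nat_lit 17), (nat_lit 19), (nat_lit 23)],
  [(nat_lit 13), (nat_lit 15), (nat_lit 17), (nat_lit 19), (nat_lit 21)],
  [(nat_lit 13), (nat_lit 15), (nat_lit 17), (nat_lit 19), (nat_lit 21), (nat_lit 23)],
  [(nat_lit 13), (nat_lit 15), (nat_lit 17), (nat_lit 19), (nat_lit 21), (nat_lit 23), (nat_lit 27)],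
  [(nat_lit 11), (nat_lit 15), (nat_lit 19)],
  [(nat_lit 11), (nat_lit 15), (nat_lit 19), (nat_lit 27)],
  [(nat_lit 11), (nat_lit 15), (nat_lit 19), (nat_lit 23)],
  [(nat_lit 11), (nat_lit 15), (nat_lit 19), (nat_lit 23), (nat_lit 27)],
  [(nat_lit 7), (nat_lit 19)],
  [(nat_lit 7), (nat_lit 19), (nat_lit 23)],
  [(nat_lit 7), (nat_lit 19), (nat_lit 23), (nat_lit 29)],
  [(nat_lit 7), (nat_lit 15), (nat_lit 17)],
  [(nat_lit 7), (nat_lit 15), (nat_lit 17), (nat_lit 29)],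
  [(nat_lit 7), (nat_lit 15), (nat_lit 17), (nat_lit 23)],
  [(nat_lit 7), (nat_lit 15), (nat_lit 17), (nat_lit 23), (nat_lit 29)],
  [(nat_lit 7), (nat_lit 15), (nat_lit 17), (nat_lit 23), (nat_lit 27)],
  [(nat_lit 7), (nat_lit 15), (nat_lit 17), (nat_lit 23), (nat_lit 27), (nat_lit 29)],
  [(nat_lit 7), (nat_lit 9), (nat_lit 15), (nat_lit 23)],
  [(nat_lit 7), (nat_lit 9), (nat_lit 15), (nat_lit 23), (nat_lit 27)],
  [(nat_lit 7), (nat_lit 9), (nat_lit 15), (nat_lit 23), (nat_lit 25)],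
  [(nat_lit 7), (nat_lit 9), (nat_lit 15), (nat_lit 23), (nat_lit 25), (nat_lit 27)],
  [(nat_lit 5), (nat_lit 9), (nat_lit 17)],
  [(nat_lit 5), (nat_lit 9), (nat_lit 17), (nat_lit 29)],
  [(nat_lit 5), (nat_lit 9), (nat_lit 15)],
  [(nat_lit 1), (nat_lit 5), (nat_lit 17)],
  [(nat_lit 1), (nat_lit 5), (nat_lit 17), (nat_lit 29)],
  [(nat_lit 1), (nat_lit 5), (nat_lit 17), (nat_lit 27)],
  [(nat_lit 1), (nat_lit 5), (nat_lit 17), (nat_lit 27), (nat_lit 29)],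
  [(nat_lit 1), (nat_lit 5), (nat_lit 15), (nat_lit 17), (nat_lit 23)],
  [(nat_lit 1), (nat_lit 5), (nat_lit 15), (nat_lit 17), (nat_lit 23), (nat_lit 29)],
  [(nat_lit 1), (nat_lit 5), (nat_lit 15), (nat_lit 17), (nat_lit 23), (nat_lit 27)],
  [(nat_lit 1), (nat_lit 5), (nat_lit 15), (nat_lit 17), (nat_lit 23), (nat_lit 27), (nat_lit 29)],
  [(nat_lit 1), (nat_lit 5), (nat_lit 15), (nat_lit 17), (nat_lit 21), (nat_lit 23)],
  [(nat_lit 1), (nat_lit 5), (nat_lit 15), (nat_lit 17), (nat_lit 21), (nat_lit 23), (nat_lit 29)],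
  [(nat_lit 1), (nat_lit 5), (nat_lit 15), (nat_lit 17), (nat_lit 21), (nat_lit 23), (nat_lit 27)],
  [(nat_lit 1), (nat_lit 5), (nat_lit 15), (nat_lit 17), (nat_lit 21), (nat_lit 23), (nat_lit 27), (nat_lit 29)],
  [(nat_lit 1), (nat_lit 3), (nat_lit 5), (nat_lit 9), (nat_lit 15), (nat_lit 19), (nat_lit 23), (nat_lit 27)]]
noncomputable def a_E14 : List Ent := [Ent.split [⟨[], (nat_lit 0), []⟩, ⟨[], (nat_lit 1), []⟩],
  Ent.merge [(nat_lit 3)] (nat_lit 1) [(nat_lit 1)] ⟨[], (nat_lit 2), []⟩,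
  Ent.split [⟨[], (nat_lit 3), []⟩, ⟨[], (nat_lit 4), []⟩],
  Ent.merge [(nat_lit 3)] (nat_lit 1) [(nat_lit 1), (nat_lit 3)] ⟨[], (nat_lit 5), []⟩,
  Ent.merge [(nat_lit 9)] (nat_lit 1) [(nat_lit 1), (nat_lit 3)] ⟨[], (nat_lit 6), []⟩,
  Ent.split [⟨[], (nat_lit 7), []⟩, ⟨[], (nat_lit 8), []⟩],
  Ent.merge [(nat_lit 3)] (nat_lit 1) [(nat_lit 1)] ⟨[], (nat_lit 9), []⟩,
  Ent.merge [(nat_lit 9)] (nat_lit 1) [] ⟨[], (nat_lit 10), []⟩,
  Ent.merge [(nat_lit 11)] (nat_lit 1) [(nat_lit 3)] ⟨[], (nat_lit 11), []⟩,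
  Ent.merge [(nat_lit 11)] (nat_lit 1) [] ⟨[], (nat_lit 12), []⟩,
  Ent.merge [(nat_lit 13)] (nat_lit 1) [(nat_lit 1)] ⟨[], (nat_lit 13), []⟩,
  Ent.split [⟨[], (nat_lit 14), []⟩, ⟨[], (nat_lit 15), []⟩],
  Ent.split [⟨[], (nat_lit 16), []⟩, ⟨[], (nat_lit 17), []⟩],
  Ent.split [⟨[], (nat_lit 18), []⟩, ⟨[], (nat_lit 19), []⟩],
  Ent.dead (nat_lit 1) [],
  Ent.merge [(nat_lit 17)] (nat_lit 1) [(nat_lit 1)] ⟨[], (nat_lit 20), []⟩,
  Ent.merge [(nat_lit 17)] (nat_lit 1) [(nat_lit 1)] ⟨[], (nat_lit 21), []⟩,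
  Ent.merge [(nat_lit 17)] (nat_lit 1) [(nat_lit 1)] ⟨[], (nat_lit 22), []⟩,
  Ent.merge [(nat_lit 17)] (nat_lit 1) [(nat_lit 1)] ⟨[], (nat_lit 23), []⟩,
  Ent.merge [(nat_lit 17)] (nat_lit 1) [(nat_lit 1)] ⟨[], (nat_lit 24), []⟩,
  Ent.merge [(nat_lit 17)] (nat_lit 1) [(nat_lit 1)] ⟨[], (nat_lit 25), []⟩,
  Ent.merge [(nat_lit 17)] (nat_lit 1) [(nat_lit 1)] ⟨[], (nat_lit 26), []⟩,
  Ent.dead (nat_lit 1) [(nat_lit 3)],
  Ent.merge [(nat_lit 19)] (nat_lit 1) [(nat_lit 3)] ⟨[], (nat_lit 27), []⟩,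
  Ent.merge [(nat_lit 19)] (nat_lit 1) [(nat_lit 3)] ⟨[], (nat_lit 28), []⟩,
  Ent.merge [(nat_lit 19)] (nat_lit 1) [(nat_lit 3)] ⟨[], (nat_lit 29), []⟩,
  Ent.merge [(nat_lit 19)] (nat_lit 1) [(nat_lit 3)] ⟨[], (nat_lit 30), []⟩,
  Ent.merge [(nat_lit 5), (nat_lit 9), (nat_lit 13), (nat_lit 15), (nat_lit 17), (nat_lit 21)] (nat_lit 1) [(nat_lit 1)] ⟨[], (nat_lit 31), []⟩,
  Ent.split [⟨[], (nat_lit 32), []⟩, ⟨[], (nat_lit 33), []⟩],
  Ent.split [⟨[], (nat_lit 34), []⟩, ⟨[], (nat_lit 35), []⟩],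
  Ent.split [⟨[], (nat_lit 36), []⟩, ⟨[], (nat_lit 37), []⟩],
  Ent.split [⟨[], (nat_lit 38), []⟩, ⟨[], (nat_lit 39), []⟩],
  Ent.dead (nat_lit 1) [],
  Ent.merge [(nat_lit 23)] (nat_lit 1) [] ⟨[], (nat_lit 40), []⟩,
  Ent.merge [(nat_lit 23)] (nat_lit 1) [] ⟨[], (nat_lit 41), []⟩,
  Ent.merge [(nat_lit 23)] (nat_lit 1) [] ⟨[], (nat_lit 42), []⟩,
  Ent.merge [(nat_lit 23)] (nat_lit 1) [] ⟨[], (nat_lit 43), []⟩,
  Ent.split [⟨[], (nat_lit 44), []⟩, ⟨[], (nat_lit 45), []⟩],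
  Ent.merge [(nat_lit 13), (nat_lit 17)] (nat_lit 1) [] ⟨[], (nat_lit 46), []⟩,
  Ent.split [⟨[], (nat_lit 47), []⟩, ⟨[], (nat_lit 48), []⟩],
  Ent.split [⟨[], (nat_lit 49), []⟩, ⟨[], (nat_lit 50), []⟩],
  Ent.split [⟨[], (nat_lit 51), []⟩, ⟨[], (nat_lit 52), []⟩],
  Ent.split [⟨[], (nat_lit 53), []⟩, ⟨[], (nat_lit 54), []⟩],
  Ent.split [⟨[], (nat_lit 55), []⟩, ⟨[], (nat_lit 56), []⟩],
  Ent.split [⟨[], (nat_lit 57), []⟩, ⟨[], (nat_lit 58), []⟩],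
  Ent.dead (nat_lit 1) [(nat_lit 1), (nat_lit 3)],
  Ent.merge [(nat_lit 27)] (nat_lit 1) [(nat_lit 1), (nat_lit 3)] ⟨[], (nat_lit 59), []⟩]
noncomputable def a_X16 : List (List Nat) := [[],
  [(nat_lit 31)],
  [(nat_lit 29)],
  [(nat_lit 27)],
  [(nat_lit 25)],
  [(nat_lit 25), (nat_lit 31)],
  [(nat_lit 25), (nat_lit 29)],
  [(nat_lit 25), (nat_lit 27)],
  [(nat_lit 23)],
  [(nat_lit 21)],
  [(nat_lit 21), (nat_lit 29)],
  [(nat_lit 21), (nat_lit 27)],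
  [(nat_lit 21), (nat_lit 23)],
  [(nat_lit 21), (nat_lit 23), (nat_lit 31)],
  [(nat_lit 19)],
  [(nat_lit 19), (nat_lit 27)],
  [(nat_lit 17)],
  [(nat_lit 17), (nat_lit 31)],
  [(nat_lit 15)],
  [(nat_lit 15), (nat_lit 29)],
  [(nat_lit 15), (nat_lit 23)],
  [(nat_lit 15), (nat_lit 23), (nat_lit 29)],
  [(nat_lit 15), (nat_lit 23), (nat_lit 29), (nat_lit 31)],
  [(nat_lit 15), (nat_lit 23), (nat_lit 27)],
  [(nat_lit 15), (nat_lit 23), (nat_lit 27), (nat_lit 29)],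
  [(nat_lit 15), (nat_lit 23), (nat_lit 27), (nat_lit 29), (nat_lit 31)],
  [(nat_lit 13), (nat_lit 15), (nat_lit 17), (nat_lit 19)],
  [(nat_lit 13), (nat_lit 15), (nat_lit 17), (nat_lit 19), (nat_lit 23)],
  [(nat_lit 13), (nat_lit 15), (nat_lit 17), (nat_lit 19), (nat_lit 21)],
  [(nat_lit 13), (nat_lit 15), (nat_lit 17), (nat_lit 19), (nat_lit 21), (nat_lit 23)],
  [(nat_lit 13), (nat_lit 15), (nat_lit 17), (nat_lit 19), (nat_lit 21), (nat_lit 23), (nat_lit 27)],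
  [(nat_lit 11), (nat_lit 15), (nat_lit 19)],
  [(nat_lit 11), (nat_lit 15), (nat_lit 19), (nat_lit 27)],
  [(nat_lit 11), (nat_lit 15), (nat_lit 19), (nat_lit 23)],
  [(nat_lit 11), (nat_lit 15), (nat_lit 19), (nat_lit 23), (nat_lit 31)],
  [(nat_lit 11), (nat_lit 15), (nat_lit 19), (nat_lit 23), (nat_lit 27)],
  [(nat_lit 7), (nat_lit 19), (nat_lit 23)],
  [(nat_lit 7), (nat_lit 19), (nat_lit 23), (nat_lit 29)],
  [(nat_lit 7), (nat_lit 15), (nat_lit 17), (nat_lit 23)],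
  [(nat_lit 7), (nat_lit 15), (nat_lit 17), (nat_lit 23), (nat_lit 29)],
  [(nat_lit 7), (nat_lit 15), (nat_lit 17), (nat_lit 23), (nat_lit 27)],
  [(nat_lit 7), (nat_lit 15), (nat_lit 17), (nat_lit 23), (nat_lit 27), (nat_lit 29)],
  [(nat_lit 7), (nat_lit 9), (nat_lit 15), (nat_lit 23)],
  [(nat_lit 7), (nat_lit 9), (nat_lit 15), (nat_lit 23), (nat_lit 25)],
  [(nat_lit 5), (nat_lit 9), (nat_lit 17)],
  [(nat_lit 5), (nat_lit 9), (nat_lit 17), (nat_lit 31)],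
  [(nat_lit 5), (nat_lit 9), (nat_lit 17), (nat_lit 29)],
  [(nat_lit 5), (nat_lit 9), (nat_lit 17), (nat_lit 29), (nat_lit 31)],
  [(nat_lit 5), (nat_lit 9), (nat_lit 15)],
  [(nat_lit 5), (nat_lit 9), (nat_lit 15), (nat_lit 31)],
  [(nat_lit 1), (nat_lit 5), (nat_lit 17)],
  [(nat_lit 1), (nat_lit 5), (nat_lit 17), (nat_lit 27)],
  [(nat_lit 1), (nat_lit 5), (nat_lit 15), (nat_lit 17), (nat_lit 23), (nat_lit 29)],
  [(nat_lit 1), (nat_lit 5), (nat_lit 15), (nat_lit 17), (nat_lit 23), (nat_lit 27), (nat_lit 29)],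
  [(nat_lit 1), (nat_lit 5), (nat_lit 15), (nat_lit 17), (nat_lit 21), (nat_lit 23), (nat_lit 29)],
  [(nat_lit 1), (nat_lit 5), (nat_lit 15), (nat_lit 17), (nat_lit 21), (nat_lit 23), (nat_lit 27), (nat_lit 29)],
  [(nat_lit 1), (nat_lit 3), (nat_lit 5), (nat_lit 9), (nat_lit 15), (nat_lit 19), (nat_lit 23), (nat_lit 27)],
  [(nat_lit 1), (nat_lit 3), (nat_lit 5), (nat_lit 9), (nat_lit 15), (nat_lit 19), (nat_lit 23), (nat_lit 27), (nat_lit 31)]]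
noncomputable def a_E15 : List Ent := [Ent.split [⟨[], (nat_lit 0), []⟩, ⟨[], (nat_lit 1), []⟩],
  Ent.merge [(nat_lit 3)] (nat_lit 1) [(nat_lit 1)] ⟨[], (nat_lit 2), []⟩,
  Ent.merge [(nat_lit 9)] (nat_lit 1) [(nat_lit 1)] ⟨[], (nat_lit 3), []⟩,
  Ent.split [⟨[], (nat_lit 4), []⟩, ⟨[], (nat_lit 5), []⟩],
  Ent.merge [(nat_lit 3)] (nat_lit 1) [] ⟨[], (nat_lit 6), []⟩,
  Ent.merge [(nat_lit 9)] (nat_lit 1) [(nat_lit 1)] ⟨[], (nat_lit 7), []⟩,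
  Ent.merge [(nat_lit 7)] (nat_lit 1) [] ⟨[], (nat_lit 8), []⟩,
  Ent.merge [(nat_lit 9)] (nat_lit 1) [(nat_lit 1)] ⟨[], (nat_lit 9), []⟩,
  Ent.merge [(nat_lit 9)] (nat_lit 1) [] ⟨[], (nat_lit 10), []⟩,
  Ent.merge [(nat_lit 7)] (nat_lit 1) [] ⟨[], (nat_lit 11), []⟩,
  Ent.split [⟨[], (nat_lit 12), []⟩, ⟨[], (nat_lit 13), []⟩],
  Ent.merge [(nat_lit 13)] (nat_lit 1) [(nat_lit 1)] ⟨[], (nat_lit 14), []⟩,
  Ent.merge [(nat_lit 13)] (nat_lit 1) [(nat_lit 1)] ⟨[], (nat_lit 15), []⟩,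
  Ent.split [⟨[], (nat_lit 16), []⟩, ⟨[], (nat_lit 17), []⟩],
  Ent.merge [(nat_lit 7), (nat_lit 11), (nat_lit 13), (nat_lit 21), (nat_lit 23), (nat_lit 25), (nat_lit 27), (nat_lit 31)] (nat_lit 1) [] ⟨[], (nat_lit 18), []⟩,
  Ent.merge [(nat_lit 7), (nat_lit 11), (nat_lit 13), (nat_lit 21), (nat_lit 23), (nat_lit 25), (nat_lit 27), (nat_lit 31)] (nat_lit 1) [(nat_lit 1)] ⟨[], (nat_lit 19), []⟩,
  Ent.merge [(nat_lit 1), (nat_lit 9), (nat_lit 15), (nat_lit 17), (nat_lit 19), (nat_lit 21), (nat_lit 25), (nat_lit 27), (nat_lit 29), (nat_lit 33)] (nat_lit 1) [(nat_lit 1)] ⟨[], (nat_lit 20), []⟩,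
  Ent.split [⟨[], (nat_lit 21), []⟩, ⟨[], (nat_lit 22), []⟩],
  Ent.merge [(nat_lit 1), (nat_lit 9), (nat_lit 15), (nat_lit 17), (nat_lit 19), (nat_lit 21), (nat_lit 25), (nat_lit 27), (nat_lit 29), (nat_lit 33)] (nat_lit 1) [] ⟨[], (nat_lit 23), []⟩,
  Ent.split [⟨[], (nat_lit 24), []⟩, ⟨[], (nat_lit 25), []⟩],
  Ent.dead (nat_lit 1) [],
  Ent.dead (nat_lit 1) [],
  Ent.merge [(nat_lit 19)] (nat_lit 1) [(nat_lit 1)] ⟨[], (nat_lit 26), []⟩,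
  Ent.merge [(nat_lit 19)] (nat_lit 1) [(nat_lit 1)] ⟨[], (nat_lit 27), []⟩,
  Ent.merge [(nat_lit 19)] (nat_lit 1) [(nat_lit 1)] ⟨[], (nat_lit 28), []⟩,
  Ent.merge [(nat_lit 19)] (nat_lit 1) [(nat_lit 1)] ⟨[], (nat_lit 29), []⟩,
  Ent.merge [(nat_lit 19)] (nat_lit 1) [(nat_lit 1)] ⟨[], (nat_lit 30), []⟩,
  Ent.merge [(nat_lit 9), (nat_lit 17)] (nat_lit 1) [(nat_lit 1)] ⟨[], (nat_lit 31), []⟩,
  Ent.merge [(nat_lit 7), (nat_lit 15), (nat_lit 17)] (nat_lit 1) [(nat_lit 1)] ⟨[], (nat_lit 32), []⟩,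
  Ent.split [⟨[], (nat_lit 33), []⟩, ⟨[], (nat_lit 34), []⟩],
  Ent.merge [(nat_lit 9), (nat_lit 17), (nat_lit 19)] (nat_lit 1) [(nat_lit 1)] ⟨[], (nat_lit 35), []⟩,
  Ent.dead (nat_lit 1) [(nat_lit 1)],
  Ent.merge [(nat_lit 23)] (nat_lit 1) [] ⟨[], (nat_lit 36), []⟩,
  Ent.merge [(nat_lit 23)] (nat_lit 1) [] ⟨[], (nat_lit 37), []⟩,
  Ent.dead (nat_lit 1) [],
  Ent.dead (nat_lit 1) [(nat_lit 1)],
  Ent.merge [(nat_lit 23)] (nat_lit 1) [] ⟨[], (nat_lit 38), []⟩,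
  Ent.merge [(nat_lit 23)] (nat_lit 1) [] ⟨[], (nat_lit 39), []⟩,
  Ent.merge [(nat_lit 23)] (nat_lit 1) [] ⟨[], (nat_lit 40), []⟩,
  Ent.merge [(nat_lit 23)] (nat_lit 1) [] ⟨[], (nat_lit 41), []⟩,
  Ent.merge [(nat_lit 27)] (nat_lit 1) [] ⟨[], (nat_lit 42), []⟩,
  Ent.dead (nat_lit 1) [],
  Ent.merge [(nat_lit 27)] (nat_lit 1) [] ⟨[], (nat_lit 43), []⟩,
  Ent.dead (nat_lit 1) [],
  Ent.split [⟨[], (nat_lit 44), []⟩, ⟨[], (nat_lit 45), []⟩],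
  Ent.split [⟨[], (nat_lit 46), []⟩, ⟨[], (nat_lit 47), []⟩],
  Ent.split [⟨[], (nat_lit 48), []⟩, ⟨[], (nat_lit 49), []⟩],
  Ent.merge [(nat_lit 29)] (nat_lit 1) [(nat_lit 1)] ⟨[], (nat_lit 50), []⟩,
  Ent.dead (nat_lit 1) [],
  Ent.merge [(nat_lit 29)] (nat_lit 1) [(nat_lit 1)] ⟨[], (nat_lit 51), []⟩,
  Ent.dead (nat_lit 1) [(nat_lit 1)],
  Ent.dead (nat_lit 1) [],
  Ent.merge [(nat_lit 29)] (nat_lit 1) [(nat_lit 1)] ⟨[], (nat_lit 52), []⟩,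
  Ent.dead (nat_lit 1) [(nat_lit 1)],
  Ent.merge [(nat_lit 29)] (nat_lit 1) [(nat_lit 1)] ⟨[], (nat_lit 53), []⟩,
  Ent.dead (nat_lit 1) [],
  Ent.merge [(nat_lit 29)] (nat_lit 1) [(nat_lit 1)] ⟨[], (nat_lit 54), []⟩,
  Ent.dead (nat_lit 1) [(nat_lit 1)],
  Ent.merge [(nat_lit 29)] (nat_lit 1) [(nat_lit 1)] ⟨[], (nat_lit 55), []⟩,
  Ent.split [⟨[], (nat_lit 56), []⟩, ⟨[], (nat_lit 57), []⟩]]
noncomputable def a_X17 : List (List Nat) := [[],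
  [(nat_lit 33)],
  [(nat_lit 31)],
  [(nat_lit 29)],
  [(nat_lit 27)],
  [(nat_lit 25)],
  [(nat_lit 25), (nat_lit 31)],
  [(nat_lit 25), (nat_lit 29)],
  [(nat_lit 25), (nat_lit 27)],
  [(nat_lit 23)],
  [(nat_lit 21)],
  [(nat_lit 21), (nat_lit 33)],
  [(nat_lit 21), (nat_lit 29)],
  [(nat_lit 21), (nat_lit 27)],
  [(nat_lit 21), (nat_lit 23)],
  [(nat_lit 21), (nat_lit 23), (nat_lit 31)],
  [(nat_lit 19)],
  [(nat_lit 19), (nat_lit 33)],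
  [(nat_lit 19), (nat_lit 27)],
  [(nat_lit 17)],
  [(nat_lit 17), (nat_lit 33)],
  [(nat_lit 17), (nat_lit 31)],
  [(nat_lit 17), (nat_lit 31), (nat_lit 33)],
  [(nat_lit 15)],
  [(nat_lit 15), (nat_lit 29)],
  [(nat_lit 15), (nat_lit 29), (nat_lit 33)],
  [(nat_lit 15), (nat_lit 23)],
  [(nat_lit 15), (nat_lit 23), (nat_lit 29)],
  [(nat_lit 15), (nat_lit 23), (nat_lit 29), (nat_lit 33)],
  [(nat_lit 15), (nat_lit 23), (nat_lit 29), (nat_lit 31)],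
  [(nat_lit 15), (nat_lit 23), (nat_lit 27)],
  [(nat_lit 15), (nat_lit 23), (nat_lit 27), (nat_lit 29)],
  [(nat_lit 15), (nat_lit 23), (nat_lit 27), (nat_lit 29), (nat_lit 31)],
  [(nat_lit 13), (nat_lit 15), (nat_lit 17), (nat_lit 19), (nat_lit 23)],
  [(nat_lit 13), (nat_lit 15), (nat_lit 17), (nat_lit 19), (nat_lit 21), (nat_lit 23)],
  [(nat_lit 13), (nat_lit 15), (nat_lit 17), (nat_lit 19), (nat_lit 21), (nat_lit 23), (nat_lit 27)],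
  [(nat_lit 11), (nat_lit 15), (nat_lit 19)],
  [(nat_lit 11), (nat_lit 15), (nat_lit 19), (nat_lit 23)],
  [(nat_lit 11), (nat_lit 15), (nat_lit 19), (nat_lit 23), (nat_lit 31)],
  [(nat_lit 7), (nat_lit 19), (nat_lit 23), (nat_lit 29)],
  [(nat_lit 7), (nat_lit 15), (nat_lit 17), (nat_lit 23)],
  [(nat_lit 7), (nat_lit 15), (nat_lit 17), (nat_lit 23), (nat_lit 27), (nat_lit 29)],
  [(nat_lit 7), (nat_lit 9), (nat_lit 15), (nat_lit 23)],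
  [(nat_lit 7), (nat_lit 9), (nat_lit 15), (nat_lit 23), (nat_lit 25)],
  [(nat_lit 7), (nat_lit 9), (nat_lit 15), (nat_lit 23), (nat_lit 25), (nat_lit 33)],
  [(nat_lit 5), (nat_lit 9), (nat_lit 17), (nat_lit 31)],
  [(nat_lit 5), (nat_lit 9), (nat_lit 17), (nat_lit 29), (nat_lit 31)],
  [(nat_lit 5), (nat_lit 9), (nat_lit 15)],
  [(nat_lit 1), (nat_lit 5), (nat_lit 17), (nat_lit 27)],
  [(nat_lit 1), (nat_lit 5), (nat_lit 15), (nat_lit 17), (nat_lit 23), (nat_lit 27), (nat_lit 29)],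
  [(nat_lit 1), (nat_lit 5), (nat_lit 15), (nat_lit 17), (nat_lit 21), (nat_lit 23), (nat_lit 27), (nat_lit 29)],
  [(nat_lit 1), (nat_lit 3), (nat_lit 5), (nat_lit 9), (nat_lit 15), (nat_lit 19), (nat_lit 23), (nat_lit 27)],
  [(nat_lit 1), (nat_lit 3), (nat_lit 5), (nat_lit 9), (nat_lit 15), (nat_lit 19), (nat_lit 23), (nat_lit 27), (nat_lit 33)],
  [(nat_lit 1), (nat_lit 3), (nat_lit 5), (nat_lit 9), (nat_lit 15), (nat_lit 19), (nat_lit 23), (nat_lit 27), (nat_lit 31)],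
  [(nat_lit 1), (nat_lit 3), (nat_lit 5), (nat_lit 9), (nat_lit 15), (nat_lit 19), (nat_lit 23), (nat_lit 27), (nat_lit 31), (nat_lit 33)]]
noncomputable def a_E16 : List Ent := [Ent.split [⟨[], (nat_lit 0), []⟩, ⟨[], (nat_lit 1), []⟩],
  Ent.merge [(nat_lit 5)] (nat_lit 1) [] ⟨[], (nat_lit 2), []⟩,
  Ent.merge [(nat_lit 9)] (nat_lit 1) [] ⟨[], (nat_lit 3), []⟩,
  Ent.merge [(nat_lit 11)] (nat_lit 1) [] ⟨[], (nat_lit 4), []⟩,
  Ent.merge [(nat_lit 3)] (nat_lit 1) [] ⟨[], (nat_lit 5), []⟩,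
  Ent.merge [(nat_lit 5)] (nat_lit 1) [] ⟨[], (nat_lit 6), []⟩,
  Ent.merge [(nat_lit 9)] (nat_lit 1) [] ⟨[], (nat_lit 7), []⟩,
  Ent.merge [(nat_lit 11)] (nat_lit 1) [] ⟨[], (nat_lit 8), []⟩,
  Ent.merge [(nat_lit 13)] (nat_lit 1) [] ⟨[], (nat_lit 9), []⟩,
  Ent.split [⟨[], (nat_lit 10), []⟩, ⟨[], (nat_lit 11), []⟩],
  Ent.merge [(nat_lit 3), (nat_lit 9), (nat_lit 13), (nat_lit 15), (nat_lit 17), (nat_lit 19), (nat_lit 21)] (nat_lit 1) [] ⟨[], (nat_lit 12), []⟩,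
  Ent.merge [(nat_lit 11)] (nat_lit 1) [] ⟨[], (nat_lit 13), []⟩,
  Ent.merge [(nat_lit 13)] (nat_lit 1) [] ⟨[], (nat_lit 14), []⟩,
  Ent.merge [(nat_lit 13)] (nat_lit 1) [] ⟨[], (nat_lit 15), []⟩,
  Ent.split [⟨[], (nat_lit 16), []⟩, ⟨[], (nat_lit 17), []⟩],
  Ent.merge [(nat_lit 1), (nat_lit 5), (nat_lit 17), (nat_lit 21), (nat_lit 25), (nat_lit 29), (nat_lit 31)] (nat_lit 1) [] ⟨[], (nat_lit 18), []⟩,
  Ent.split [⟨[], (nat_lit 19), []⟩, ⟨[], (nat_lit 20), []⟩],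
  Ent.split [⟨[], (nat_lit 21), []⟩, ⟨[], (nat_lit 22), []⟩],
  Ent.merge [(nat_lit 1), (nat_lit 5), (nat_lit 7), (nat_lit 11), (nat_lit 17), (nat_lit 21), (nat_lit 25), (nat_lit 29)] (nat_lit 1) [] ⟨[], (nat_lit 23), []⟩,
  Ent.split [⟨[], (nat_lit 24), []⟩, ⟨[], (nat_lit 25), []⟩],
  Ent.merge [(nat_lit 7), (nat_lit 11), (nat_lit 13), (nat_lit 21), (nat_lit 23), (nat_lit 25), (nat_lit 27), (nat_lit 31)] (nat_lit 1) [] ⟨[], (nat_lit 26), []⟩,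
  Ent.split [⟨[], (nat_lit 27), []⟩, ⟨[], (nat_lit 28), []⟩],
  Ent.merge [(nat_lit 5), (nat_lit 9), (nat_lit 11), (nat_lit 13), (nat_lit 15), (nat_lit 17), (nat_lit 19), (nat_lit 23), (nat_lit 25), (nat_lit 27), (nat_lit 29)] (nat_lit 1) [] ⟨[], (nat_lit 29), []⟩,
  Ent.merge [(nat_lit 7), (nat_lit 11), (nat_lit 13), (nat_lit 21), (nat_lit 23), (nat_lit 25), (nat_lit 27), (nat_lit 31)] (nat_lit 1) [] ⟨[], (nat_lit 30), []⟩,
  Ent.merge [(nat_lit 1), (nat_lit 9), (nat_lit 15), (nat_lit 17), (nat_lit 19), (nat_lit 21), (nat_lit 25), (nat_lit 27), (nat_lit 29), (nat_lit 33)] (nat_lit 1) [] ⟨[], (nat_lit 31), []⟩,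
  Ent.merge [(nat_lit 5), (nat_lit 9), (nat_lit 11), (nat_lit 13), (nat_lit 15), (nat_lit 17), (nat_lit 19), (nat_lit 23), (nat_lit 25), (nat_lit 27), (nat_lit 29)] (nat_lit 1) [] ⟨[], (nat_lit 32), []⟩,
  Ent.dead (nat_lit 1) [],
  Ent.merge [(nat_lit 23)] (nat_lit 1) [] ⟨[], (nat_lit 33), []⟩,
  Ent.dead (nat_lit 1) [],
  Ent.merge [(nat_lit 23)] (nat_lit 1) [] ⟨[], (nat_lit 34), []⟩,
  Ent.merge [(nat_lit 23)] (nat_lit 1) [] ⟨[], (nat_lit 35), []⟩,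
  Ent.merge [(nat_lit 27)] (nat_lit 1) [] ⟨[], (nat_lit 36), []⟩,
  Ent.dead (nat_lit 1) [],
  Ent.merge [(nat_lit 27)] (nat_lit 1) [] ⟨[], (nat_lit 37), []⟩,
  Ent.merge [(nat_lit 27)] (nat_lit 1) [] ⟨[], (nat_lit 38), []⟩,
  Ent.dead (nat_lit 1) [],
  Ent.dead (nat_lit 1) [],
  Ent.merge [(nat_lit 29)] (nat_lit 1) [] ⟨[], (nat_lit 39), []⟩,
  Ent.merge [(nat_lit 29)] (nat_lit 1) [] ⟨[], (nat_lit 40), []⟩,
  Ent.dead (nat_lit 1) [],
  Ent.dead (nat_lit 1) [],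
  Ent.merge [(nat_lit 29)] (nat_lit 1) [] ⟨[], (nat_lit 41), []⟩,
  Ent.merge [(nat_lit 3), (nat_lit 9), (nat_lit 13), (nat_lit 15), (nat_lit 17), (nat_lit 19), (nat_lit 21), (nat_lit 23), (nat_lit 27)] (nat_lit 1) [] ⟨[], (nat_lit 42), []⟩,
  Ent.split [⟨[], (nat_lit 43), []⟩, ⟨[], (nat_lit 44), []⟩],
  Ent.dead (nat_lit 1) [],
  Ent.merge [(nat_lit 31)] (nat_lit 1) [] ⟨[], (nat_lit 45), []⟩,
  Ent.dead (nat_lit 1) [],
  Ent.merge [(nat_lit 31)] (nat_lit 1) [] ⟨[], (nat_lit 46), []⟩,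
  Ent.merge [(nat_lit 31)] (nat_lit 1) [] ⟨[], (nat_lit 47), []⟩,
  Ent.dead (nat_lit 1) [],
  Ent.dead (nat_lit 1) [],
  Ent.merge [(nat_lit 27)] (nat_lit 1) [] ⟨[], (nat_lit 48), []⟩,
  Ent.dead (nat_lit 1) [],
  Ent.merge [(nat_lit 27)] (nat_lit 1) [] ⟨[], (nat_lit 49), []⟩,
  Ent.dead (nat_lit 1) [],
  Ent.merge [(nat_lit 27)] (nat_lit 1) [] ⟨[], (nat_lit 50), []⟩,
  Ent.split [⟨[], (nat_lit 51), []⟩, ⟨[], (nat_lit 52), []⟩],
  Ent.split [⟨[], (nat_lit 53), []⟩, ⟨[], (nat_lit 54), []⟩]]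
noncomputable def a_F : List To := [⟨[], (nat_lit 0), []⟩,
  ⟨[(nat_lit 23), (nat_lit 3), (nat_lit 5), (nat_lit 24), (nat_lit 28), (nat_lit 7), (nat_lit 5), (nat_lit 3), (nat_lit 23), (nat_lit 21), (nat_lit 23), (nat_lit 9), (nat_lit 7), (nat_lit 5), (nat_lit 1), (nat_lit 31), (nat_lit 24), (nat_lit 21), (nat_lit 23), (nat_lit 26), (nat_lit 31), (nat_lit 33), (nat_lit 35)], (nat_lit 2), []⟩,
  ⟨[(nat_lit 15), (nat_lit 3), (nat_lit 5), (nat_lit 24), (nat_lit 28), (nat_lit 7), (nat_lit 5), (nat_lit 3), (nat_lit 21), (nat_lit 31), (nat_lit 24), (nat_lit 5), (nat_lit 24), (nat_lit 27), (nat_lit 15), (nat_lit 7), (nat_lit 5), (nat_lit 21), (nat_lit 27), (nat_lit 23), (nat_lit 28), (nat_lit 26), (nat_lit 27), (nat_lit 31), (nat_lit 30)], (nat_lit 2), []⟩,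
  ⟨[(nat_lit 27), (nat_lit 7), (nat_lit 21), (nat_lit 3), (nat_lit 1), (nat_lit 15), (nat_lit 7), (nat_lit 5), (nat_lit 3), (nat_lit 23), (nat_lit 7), (nat_lit 21), (nat_lit 7), (nat_lit 5), (nat_lit 1), (nat_lit 23), (nat_lit 35), (nat_lit 28), (nat_lit 24), (nat_lit 32), (nat_lit 28), (nat_lit 32), (nat_lit 30), (nat_lit 31)], (nat_lit 3), []⟩,
  ⟨[(nat_lit 27), (nat_lit 7), (nat_lit 21), (nat_lit 3), (nat_lit 1), (nat_lit 15), (nat_lit 7), (nat_lit 5), (nat_lit 3), (nat_lit 32), (nat_lit 24), (nat_lit 27), (nat_lit 15), (nat_lit 7), (nat_lit 5), (nat_lit 29), (nat_lit 23), (nat_lit 21), (nat_lit 24), (nat_lit 28), (nat_lit 30), (nat_lit 31), (nat_lit 31), (nat_lit 35)], (nat_lit 3), []⟩,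
  ⟨[(nat_lit 17), (nat_lit 32), (nat_lit 23), (nat_lit 28), (nat_lit 3), (nat_lit 5), (nat_lit 24), (nat_lit 21), (nat_lit 7), (nat_lit 5), (nat_lit 3), (nat_lit 28), (nat_lit 21), (nat_lit 23), (nat_lit 9), (nat_lit 7), (nat_lit 5), (nat_lit 24), (nat_lit 22), (nat_lit 22), (nat_lit 23), (nat_lit 25), (nat_lit 35)], (nat_lit 1), []⟩,
  ⟨[(nat_lit 30), (nat_lit 30), (nat_lit 28), (nat_lit 24), (nat_lit 21), (nat_lit 3), (nat_lit 1), (nat_lit 7), (nat_lit 5), (nat_lit 3), (nat_lit 32), (nat_lit 24), (nat_lit 5), (nat_lit 23), (nat_lit 21), (nat_lit 7), (nat_lit 5), (nat_lit 28), (nat_lit 22), (nat_lit 23), (nat_lit 27), (nat_lit 25), (nat_lit 25), (nat_lit 32)], (nat_lit 3), []⟩,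
  ⟨[(nat_lit 31), (nat_lit 1), (nat_lit 31), (nat_lit 3), (nat_lit 5), (nat_lit 23), (nat_lit 9), (nat_lit 7), (nat_lit 5), (nat_lit 3), (nat_lit 33), (nat_lit 27), (nat_lit 5), (nat_lit 23), (nat_lit 21), (nat_lit 7), (nat_lit 5), (nat_lit 1), (nat_lit 23), (nat_lit 35), (nat_lit 28), (nat_lit 24), (nat_lit 26), (nat_lit 30), (nat_lit 31)], (nat_lit 2), []⟩,
  ⟨[(nat_lit 35), (nat_lit 19), (nat_lit 24), (nat_lit 27), (nat_lit 3), (nat_lit 1), (nat_lit 7), (nat_lit 5), (nat_lit 3), (nat_lit 29), (nat_lit 24), (nat_lit 22), (nat_lit 24), (nat_lit 5), (nat_lit 33), (nat_lit 28), (nat_lit 23), (nat_lit 21), (nat_lit 24), (nat_lit 28), (nat_lit 30), (nat_lit 31), (nat_lit 35)], (nat_lit 2), []⟩,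
  ⟨[(nat_lit 11), (nat_lit 32), (nat_lit 21), (nat_lit 23), (nat_lit 5), (nat_lit 3), (nat_lit 1), (nat_lit 7), (nat_lit 5), (nat_lit 3), (nat_lit 7), (nat_lit 28), (nat_lit 7), (nat_lit 21), (nat_lit 7), (nat_lit 5), (nat_lit 1), (nat_lit 23), (nat_lit 31), (nat_lit 22), (nat_lit 24), (nat_lit 26), (nat_lit 31), (nat_lit 30), (nat_lit 30)], (nat_lit 3), []⟩,
  ⟨[(nat_lit 24), (nat_lit 32), (nat_lit 28), (nat_lit 23), (nat_lit 21), (nat_lit 24), (nat_lit 3), (nat_lit 1), (nat_lit 5), (nat_lit 3), (nat_lit 23), (nat_lit 7), (nat_lit 27), (nat_lit 5), (nat_lit 23), (nat_lit 21), (nat_lit 24), (nat_lit 5), (nat_lit 1), (nat_lit 32), (nat_lit 22), (nat_lit 23), (nat_lit 26), (nat_lit 27), (nat_lit 33), (nat_lit 35)], (nat_lit 3), []⟩,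
  ⟨[(nat_lit 31), (nat_lit 21), (nat_lit 28), (nat_lit 23), (nat_lit 21), (nat_lit 3), (nat_lit 1), (nat_lit 15), (nat_lit 7), (nat_lit 5), (nat_lit 3), (nat_lit 24), (nat_lit 27), (nat_lit 30), (nat_lit 5), (nat_lit 24), (nat_lit 22), (nat_lit 24), (nat_lit 5), (nat_lit 31), (nat_lit 24), (nat_lit 33), (nat_lit 26), (nat_lit 31), (nat_lit 30), (nat_lit 31), (nat_lit 33)], (nat_lit 1), []⟩,
  ⟨[(nat_lit 22), (nat_lit 29), (nat_lit 23), (nat_lit 3), (nat_lit 1), (nat_lit 9), (nat_lit 7), (nat_lit 5), (nat_lit 3), (nat_lit 21), (nat_lit 21), (nat_lit 7), (nat_lit 5), (nat_lit 1), (nat_lit 24), (nat_lit 22), (nat_lit 22), (nat_lit 23), (nat_lit 26), (nat_lit 33), (nat_lit 26), (nat_lit 32), (nat_lit 30), (nat_lit 35)], (nat_lit 2), []⟩,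
  ⟨[(nat_lit 27), (nat_lit 7), (nat_lit 21), (nat_lit 3), (nat_lit 1), (nat_lit 15), (nat_lit 7), (nat_lit 5), (nat_lit 3), (nat_lit 27), (nat_lit 23), (nat_lit 5), (nat_lit 23), (nat_lit 32), (nat_lit 9), (nat_lit 7), (nat_lit 5), (nat_lit 29), (nat_lit 24), (nat_lit 22), (nat_lit 23), (nat_lit 26), (nat_lit 26), (nat_lit 31), (nat_lit 30), (nat_lit 31)], (nat_lit 3), []⟩,
  ⟨[(nat_lit 25), (nat_lit 22), (nat_lit 7), (nat_lit 27), (nat_lit 3), (nat_lit 1), (nat_lit 7), (nat_lit 5), (nat_lit 3), (nat_lit 5), (nat_lit 24), (nat_lit 31), (nat_lit 21), (nat_lit 23), (nat_lit 27), (nat_lit 25), (nat_lit 25), (nat_lit 31), (nat_lit 31), (nat_lit 35)], (nat_lit 3), []⟩,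
  ⟨[(nat_lit 3), (nat_lit 5), (nat_lit 7), (nat_lit 28), (nat_lit 7), (nat_lit 5), (nat_lit 3), (nat_lit 23), (nat_lit 22), (nat_lit 7), (nat_lit 22), (nat_lit 24), (nat_lit 5), (nat_lit 1), (nat_lit 21), (nat_lit 23), (nat_lit 27), (nat_lit 23), (nat_lit 30), (nat_lit 27), (nat_lit 25), (nat_lit 35), (nat_lit 31), (nat_lit 31), (nat_lit 30), (nat_lit 35)], (nat_lit 2), []⟩,
  ⟨[(nat_lit 30), (nat_lit 3), (nat_lit 1), (nat_lit 5), (nat_lit 3), (nat_lit 21), (nat_lit 24), (nat_lit 5), (nat_lit 32), (nat_lit 22), (nat_lit 23), (nat_lit 21), (nat_lit 23), (nat_lit 31), (nat_lit 28), (nat_lit 25), (nat_lit 32), (nat_lit 33), (nat_lit 35)], (nat_lit 2), []⟩,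
  ⟨[(nat_lit 29), (nat_lit 28), (nat_lit 24), (nat_lit 21), (nat_lit 3), (nat_lit 1), (nat_lit 7), (nat_lit 5), (nat_lit 3), (nat_lit 32), (nat_lit 24), (nat_lit 28), (nat_lit 21), (nat_lit 24), (nat_lit 5), (nat_lit 1), (nat_lit 23), (nat_lit 27), (nat_lit 21), (nat_lit 23), (nat_lit 30), (nat_lit 25), (nat_lit 25), (nat_lit 31), (nat_lit 31)], (nat_lit 3), []⟩,
  ⟨[(nat_lit 33), (nat_lit 28), (nat_lit 24), (nat_lit 21), (nat_lit 3), (nat_lit 1), (nat_lit 7), (nat_lit 5), (nat_lit 3), (nat_lit 21), (nat_lit 24), (nat_lit 5), (nat_lit 24), (nat_lit 21), (nat_lit 31), (nat_lit 24), (nat_lit 5), (nat_lit 28), (nat_lit 22), (nat_lit 24), (nat_lit 31), (nat_lit 27), (nat_lit 25), (nat_lit 31), (nat_lit 35)], (nat_lit 3), []⟩,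
  ⟨[(nat_lit 22), (nat_lit 22), (nat_lit 7), (nat_lit 27), (nat_lit 3), (nat_lit 1), (nat_lit 7), (nat_lit 5), (nat_lit 3), (nat_lit 30), (nat_lit 24), (nat_lit 22), (nat_lit 24), (nat_lit 5), (nat_lit 1), (nat_lit 22), (nat_lit 31), (nat_lit 22), (nat_lit 24), (nat_lit 29), (nat_lit 26), (nat_lit 27), (nat_lit 32)], (nat_lit 3), []⟩,
  ⟨[(nat_lit 13), (nat_lit 27), (nat_lit 7), (nat_lit 21), (nat_lit 3), (nat_lit 1), (nat_lit 15), (nat_lit 7), (nat_lit 5), (nat_lit 3), (nat_lit 23), (nat_lit 7), (nat_lit 21), (nat_lit 21), (nat_lit 24), (nat_lit 5), (nat_lit 1), (nat_lit 23), (nat_lit 28), (nat_lit 21), (nat_lit 23), (nat_lit 32), (nat_lit 26), (nat_lit 32), (nat_lit 32)], (nat_lit 3), []⟩,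
  ⟨[(nat_lit 5), (nat_lit 27), (nat_lit 7), (nat_lit 21), (nat_lit 3), (nat_lit 1), (nat_lit 15), (nat_lit 7), (nat_lit 5), (nat_lit 3), (nat_lit 28), (nat_lit 31), (nat_lit 24), (nat_lit 5), (nat_lit 24), (nat_lit 22), (nat_lit 24), (nat_lit 27), (nat_lit 21), (nat_lit 23), (nat_lit 30), (nat_lit 26), (nat_lit 30), (nat_lit 31), (nat_lit 31), (nat_lit 35)], (nat_lit 3), []⟩,
  ⟨[(nat_lit 1), (nat_lit 3), (nat_lit 5), (nat_lit 7), (nat_lit 28), (nat_lit 7), (nat_lit 5), (nat_lit 3), (nat_lit 22), (nat_lit 27), (nat_lit 9), (nat_lit 7), (nat_lit 5), (nat_lit 1), (nat_lit 24), (nat_lit 22), (nat_lit 22), (nat_lit 24), (nat_lit 32), (nat_lit 28), (nat_lit 25), (nat_lit 31), (nat_lit 31), (nat_lit 29), (nat_lit 33), (nat_lit 35)], (nat_lit 2), []⟩,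
  ⟨[(nat_lit 27), (nat_lit 29), (nat_lit 27), (nat_lit 7), (nat_lit 21), (nat_lit 5), (nat_lit 24), (nat_lit 3), (nat_lit 1), (nat_lit 5), (nat_lit 3), (nat_lit 24), (nat_lit 32), (nat_lit 22), (nat_lit 24), (nat_lit 5), (nat_lit 32), (nat_lit 24), (nat_lit 31), (nat_lit 26), (nat_lit 30), (nat_lit 31), (nat_lit 30)], (nat_lit 3), []⟩,
  ⟨[(nat_lit 24), (nat_lit 22), (nat_lit 33), (nat_lit 24), (nat_lit 22), (nat_lit 3), (nat_lit 1), (nat_lit 7), (nat_lit 5), (nat_lit 3), (nat_lit 24), (nat_lit 28), (nat_lit 5), (nat_lit 24), (nat_lit 27), (nat_lit 21), (nat_lit 7), (nat_lit 5), (nat_lit 22), (nat_lit 23), (nat_lit 28), (nat_lit 31), (nat_lit 31), (nat_lit 35)], (nat_lit 2), []⟩,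
  ⟨[(nat_lit 5), (nat_lit 3), (nat_lit 5), (nat_lit 23), (nat_lit 32), (nat_lit 24), (nat_lit 27), (nat_lit 15), (nat_lit 7), (nat_lit 5), (nat_lit 3), (nat_lit 21), (nat_lit 24), (nat_lit 27), (nat_lit 5), (nat_lit 23), (nat_lit 7), (nat_lit 21), (nat_lit 7), (nat_lit 5), (nat_lit 23), (nat_lit 27), (nat_lit 21), (nat_lit 23), (nat_lit 25)], (nat_lit 3), []⟩,
  ⟨[(nat_lit 31), (nat_lit 3), (nat_lit 5), (nat_lit 24), (nat_lit 22), (nat_lit 28), (nat_lit 15), (nat_lit 7), (nat_lit 5), (nat_lit 3), (nat_lit 27), (nat_lit 5), (nat_lit 7), (nat_lit 27), (nat_lit 21), (nat_lit 24), (nat_lit 5), (nat_lit 1), (nat_lit 23), (nat_lit 35), (nat_lit 24), (nat_lit 21), (nat_lit 23), (nat_lit 31), (nat_lit 27), (nat_lit 25), (nat_lit 32)], (nat_lit 3), []⟩,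
  ⟨[(nat_lit 9), (nat_lit 21), (nat_lit 24), (nat_lit 21), (nat_lit 21), (nat_lit 3), (nat_lit 1), (nat_lit 7), (nat_lit 5), (nat_lit 3), (nat_lit 5), (nat_lit 24), (nat_lit 11), (nat_lit 21), (nat_lit 7), (nat_lit 5), (nat_lit 27), (nat_lit 30), (nat_lit 24), (nat_lit 22), (nat_lit 24), (nat_lit 29), (nat_lit 25), (nat_lit 33)], (nat_lit 1), []⟩,
  ⟨[(nat_lit 19), (nat_lit 17), (nat_lit 28), (nat_lit 24), (nat_lit 21), (nat_lit 3), (nat_lit 1), (nat_lit 7), (nat_lit 5), (nat_lit 3), (nat_lit 32), (nat_lit 27), (nat_lit 23), (nat_lit 21), (nat_lit 7), (nat_lit 5), (nat_lit 23), (nat_lit 28), (nat_lit 21), (nat_lit 24), (nat_lit 29), (nat_lit 27), (nat_lit 35)], (nat_lit 3), []⟩,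
  ⟨[(nat_lit 27), (nat_lit 33), (nat_lit 3), (nat_lit 5), (nat_lit 24), (nat_lit 27), (nat_lit 7), (nat_lit 5), (nat_lit 3), (nat_lit 33), (nat_lit 27), (nat_lit 5), (nat_lit 23), (nat_lit 21), (nat_lit 7), (nat_lit 5), (nat_lit 23), (nat_lit 31), (nat_lit 24), (nat_lit 21), (nat_lit 23), (nat_lit 26), (nat_lit 27), (nat_lit 26), (nat_lit 29), (nat_lit 33), (nat_lit 35)], (nat_lit 3), []⟩,
  ⟨[(nat_lit 29), (nat_lit 28), (nat_lit 24), (nat_lit 21), (nat_lit 3), (nat_lit 1), (nat_lit 7), (nat_lit 5), (nat_lit 3), (nat_lit 28), (nat_lit 23), (nat_lit 21), (nat_lit 24), (nat_lit 5), (nat_lit 24), (nat_lit 31), (nat_lit 22), (nat_lit 24), (nat_lit 35), (nat_lit 26), (nat_lit 30), (nat_lit 31), (nat_lit 33)], (nat_lit 3), []⟩,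
  ⟨[(nat_lit 3), (nat_lit 5), (nat_lit 7), (nat_lit 28), (nat_lit 7), (nat_lit 5), (nat_lit 3), (nat_lit 5), (nat_lit 7), (nat_lit 22), (nat_lit 7), (nat_lit 5), (nat_lit 23), (nat_lit 27), (nat_lit 23), (nat_lit 29), (nat_lit 26), (nat_lit 27), (nat_lit 25), (nat_lit 30), (nat_lit 30)], (nat_lit 2), []⟩,
  ⟨[(nat_lit 32), (nat_lit 24), (nat_lit 9), (nat_lit 32), (nat_lit 3), (nat_lit 1), (nat_lit 9), (nat_lit 7), (nat_lit 5), (nat_lit 3), (nat_lit 24), (nat_lit 27), (nat_lit 22), (nat_lit 5), (nat_lit 24), (nat_lit 22), (nat_lit 24), (nat_lit 5), (nat_lit 24), (nat_lit 22), (nat_lit 24), (nat_lit 25), (nat_lit 25), (nat_lit 25), (nat_lit 32), (nat_lit 30)], (nat_lit 3), []⟩,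
  ⟨[(nat_lit 5), (nat_lit 7), (nat_lit 5), (nat_lit 3), (nat_lit 5), (nat_lit 23), (nat_lit 32), (nat_lit 9), (nat_lit 7), (nat_lit 5), (nat_lit 31), (nat_lit 24), (nat_lit 22), (nat_lit 24), (nat_lit 22), (nat_lit 24), (nat_lit 29), (nat_lit 26), (nat_lit 27)], (nat_lit 3), []⟩,
  ⟨[(nat_lit 33), (nat_lit 19), (nat_lit 7), (nat_lit 5), (nat_lit 3), (nat_lit 27), (nat_lit 7), (nat_lit 22), (nat_lit 22), (nat_lit 24), (nat_lit 5), (nat_lit 1), (nat_lit 35), (nat_lit 28), (nat_lit 24), (nat_lit 33), (nat_lit 26), (nat_lit 30), (nat_lit 31), (nat_lit 33)], (nat_lit 3), []⟩,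
  ⟨[(nat_lit 13), (nat_lit 28), (nat_lit 21), (nat_lit 23), (nat_lit 28), (nat_lit 21), (nat_lit 24), (nat_lit 5), (nat_lit 3), (nat_lit 28), (nat_lit 5), (nat_lit 7), (nat_lit 21), (nat_lit 21), (nat_lit 7), (nat_lit 5), (nat_lit 23), (nat_lit 22), (nat_lit 24), (nat_lit 22), (nat_lit 24), (nat_lit 25), (nat_lit 27), (nat_lit 25), (nat_lit 29), (nat_lit 33)], (nat_lit 2), []⟩,
  ⟨[(nat_lit 7), (nat_lit 5), (nat_lit 3), (nat_lit 9), (nat_lit 7), (nat_lit 28), (nat_lit 31), (nat_lit 24), (nat_lit 5), (nat_lit 31), (nat_lit 27), (nat_lit 24), (nat_lit 28), (nat_lit 32), (nat_lit 30), (nat_lit 30), (nat_lit 35)], (nat_lit 3), []⟩,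
  ⟨[(nat_lit 30), (nat_lit 7), (nat_lit 5), (nat_lit 3), (nat_lit 5), (nat_lit 23), (nat_lit 27), (nat_lit 5), (nat_lit 23), (nat_lit 21), (nat_lit 24), (nat_lit 5), (nat_lit 22), (nat_lit 24), (nat_lit 27), (nat_lit 23), (nat_lit 27), (nat_lit 31), (nat_lit 35)], (nat_lit 3), []⟩,
  ⟨[(nat_lit 23), (nat_lit 29), (nat_lit 7), (nat_lit 22), (nat_lit 22), (nat_lit 24), (nat_lit 5), (nat_lit 3), (nat_lit 22), (nat_lit 24), (nat_lit 28), (nat_lit 22), (nat_lit 7), (nat_lit 5), (nat_lit 33), (nat_lit 21), (nat_lit 23), (nat_lit 25), (nat_lit 25)], (nat_lit 2), []⟩,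
  ⟨[(nat_lit 27), (nat_lit 11), (nat_lit 24), (nat_lit 32), (nat_lit 5), (nat_lit 3), (nat_lit 1), (nat_lit 9), (nat_lit 7), (nat_lit 5), (nat_lit 3), (nat_lit 7), (nat_lit 27), (nat_lit 5), (nat_lit 7), (nat_lit 21), (nat_lit 27), (nat_lit 7), (nat_lit 5), (nat_lit 26), (nat_lit 27), (nat_lit 29), (nat_lit 33)], (nat_lit 3), []⟩,
  ⟨[(nat_lit 32), (nat_lit 21), (nat_lit 21), (nat_lit 23), (nat_lit 5), (nat_lit 3), (nat_lit 1), (nat_lit 7), (nat_lit 5), (nat_lit 3), (nat_lit 28), (nat_lit 9), (nat_lit 7), (nat_lit 5), (nat_lit 27), (nat_lit 21), (nat_lit 23), (nat_lit 26), (nat_lit 33), (nat_lit 26), (nat_lit 31)], (nat_lit 3), []⟩,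
  ⟨[(nat_lit 1), (nat_lit 11), (nat_lit 7), (nat_lit 5), (nat_lit 3), (nat_lit 1), (nat_lit 9), (nat_lit 7), (nat_lit 5), (nat_lit 3), (nat_lit 27), (nat_lit 23), (nat_lit 5), (nat_lit 23), (nat_lit 32), (nat_lit 9), (nat_lit 7), (nat_lit 5), (nat_lit 1), (nat_lit 21), (nat_lit 27), (nat_lit 23), (nat_lit 28), (nat_lit 33)], (nat_lit 2), []⟩,
  ⟨[(nat_lit 24), (nat_lit 24), (nat_lit 32), (nat_lit 24), (nat_lit 5), (nat_lit 23), (nat_lit 21), (nat_lit 7), (nat_lit 5), (nat_lit 3), (nat_lit 21), (nat_lit 28), (nat_lit 24), (nat_lit 21), (nat_lit 7), (nat_lit 5), (nat_lit 1), (nat_lit 29), (nat_lit 27), (nat_lit 23), (nat_lit 32), (nat_lit 28), (nat_lit 25), (nat_lit 32), (nat_lit 35)], (nat_lit 3), []⟩,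
  ⟨[(nat_lit 23), (nat_lit 5), (nat_lit 3), (nat_lit 29), (nat_lit 23), (nat_lit 9), (nat_lit 7), (nat_lit 5), (nat_lit 31), (nat_lit 23), (nat_lit 22), (nat_lit 23), (nat_lit 28), (nat_lit 29), (nat_lit 25), (nat_lit 29), (nat_lit 29), (nat_lit 33)], (nat_lit 3), []⟩,
  ⟨[(nat_lit 23), (nat_lit 23), (nat_lit 27), (nat_lit 21), (nat_lit 7), (nat_lit 5), (nat_lit 3), (nat_lit 32), (nat_lit 7), (nat_lit 27), (nat_lit 5), (nat_lit 23), (nat_lit 21), (nat_lit 7), (nat_lit 5), (nat_lit 1), (nat_lit 23), (nat_lit 30), (nat_lit 22), (nat_lit 23), (nat_lit 30), (nat_lit 25), (nat_lit 30), (nat_lit 31), (nat_lit 33)], (nat_lit 2), []⟩,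
  ⟨[(nat_lit 26), (nat_lit 33), (nat_lit 7), (nat_lit 27), (nat_lit 5), (nat_lit 23), (nat_lit 21), (nat_lit 7), (nat_lit 5), (nat_lit 3), (nat_lit 27), (nat_lit 22), (nat_lit 7), (nat_lit 5), (nat_lit 30), (nat_lit 28), (nat_lit 24), (nat_lit 21), (nat_lit 23), (nat_lit 27), (nat_lit 32), (nat_lit 26), (nat_lit 31)], (nat_lit 3), []⟩,
  ⟨[(nat_lit 30), (nat_lit 9), (nat_lit 7), (nat_lit 27), (nat_lit 5), (nat_lit 23), (nat_lit 21), (nat_lit 24), (nat_lit 5), (nat_lit 3), (nat_lit 23), (nat_lit 23), (nat_lit 27), (nat_lit 21), (nat_lit 7), (nat_lit 5), (nat_lit 1), (nat_lit 32), (nat_lit 23), (nat_lit 23), (nat_lit 21), (nat_lit 23), (nat_lit 27), (nat_lit 32), (nat_lit 30)], (nat_lit 2), []⟩,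
  ⟨[(nat_lit 24), (nat_lit 17), (nat_lit 3), (nat_lit 5), (nat_lit 7), (nat_lit 28), (nat_lit 21), (nat_lit 24), (nat_lit 5), (nat_lit 3), (nat_lit 22), (nat_lit 5), (nat_lit 23), (nat_lit 21), (nat_lit 7), (nat_lit 5), (nat_lit 27), (nat_lit 23), (nat_lit 32), (nat_lit 22), (nat_lit 23), (nat_lit 25), (nat_lit 25), (nat_lit 31), (nat_lit 30), (nat_lit 31)], (nat_lit 3), []⟩,
  ⟨[(nat_lit 23), (nat_lit 5), (nat_lit 3), (nat_lit 21), (nat_lit 5), (nat_lit 23), (nat_lit 28), (nat_lit 21), (nat_lit 7), (nat_lit 5), (nat_lit 21), (nat_lit 24), (nat_lit 21), (nat_lit 31), (nat_lit 24), (nat_lit 32), (nat_lit 30), (nat_lit 25), (nat_lit 31), (nat_lit 35)], (nat_lit 3), []⟩,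
  ⟨[(nat_lit 29), (nat_lit 24), (nat_lit 28), (nat_lit 21), (nat_lit 27), (nat_lit 7), (nat_lit 5), (nat_lit 3), (nat_lit 24), (nat_lit 22), (nat_lit 5), (nat_lit 7), (nat_lit 22), (nat_lit 22), (nat_lit 24), (nat_lit 5), (nat_lit 30), (nat_lit 27), (nat_lit 21), (nat_lit 23), (nat_lit 30), (nat_lit 26), (nat_lit 32), (nat_lit 30), (nat_lit 30), (nat_lit 35)], (nat_lit 2), []⟩,
  ⟨[(nat_lit 32), (nat_lit 28), (nat_lit 3), (nat_lit 5), (nat_lit 23), (nat_lit 21), (nat_lit 24), (nat_lit 5), (nat_lit 3), (nat_lit 22), (nat_lit 5), (nat_lit 24), (nat_lit 28), (nat_lit 22), (nat_lit 7), (nat_lit 5), (nat_lit 23), (nat_lit 29), (nat_lit 27), (nat_lit 23), (nat_lit 31), (nat_lit 26), (nat_lit 31), (nat_lit 30), (nat_lit 35)], (nat_lit 3), []⟩,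
  ⟨[(nat_lit 3), (nat_lit 7), (nat_lit 5), (nat_lit 3), (nat_lit 9), (nat_lit 23), (nat_lit 9), (nat_lit 5), (nat_lit 7), (nat_lit 21), (nat_lit 21), (nat_lit 7), (nat_lit 5), (nat_lit 27), (nat_lit 24), (nat_lit 26), (nat_lit 29), (nat_lit 27), (nat_lit 32), (nat_lit 33)], (nat_lit 3), []⟩,
  ⟨[(nat_lit 7), (nat_lit 5), (nat_lit 3), (nat_lit 7), (nat_lit 9), (nat_lit 5), (nat_lit 7), (nat_lit 28), (nat_lit 31), (nat_lit 24), (nat_lit 5), (nat_lit 1), (nat_lit 23), (nat_lit 32), (nat_lit 22), (nat_lit 23), (nat_lit 32), (nat_lit 26), (nat_lit 32), (nat_lit 33), (nat_lit 35)], (nat_lit 3), []⟩,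
  ⟨[(nat_lit 7), (nat_lit 5), (nat_lit 24), (nat_lit 28), (nat_lit 21), (nat_lit 24), (nat_lit 1), (nat_lit 5), (nat_lit 3), (nat_lit 31), (nat_lit 7), (nat_lit 22), (nat_lit 24), (nat_lit 5), (nat_lit 21), (nat_lit 29), (nat_lit 27), (nat_lit 23), (nat_lit 35), (nat_lit 27), (nat_lit 25), (nat_lit 31), (nat_lit 30), (nat_lit 35)], (nat_lit 3), []⟩,
  ⟨[(nat_lit 33), (nat_lit 24), (nat_lit 24), (nat_lit 28), (nat_lit 31), (nat_lit 24), (nat_lit 5), (nat_lit 3), (nat_lit 24), (nat_lit 22), (nat_lit 5), (nat_lit 24), (nat_lit 31), (nat_lit 22), (nat_lit 24), (nat_lit 5), (nat_lit 23), (nat_lit 30), (nat_lit 22), (nat_lit 23), (nat_lit 27), (nat_lit 31), (nat_lit 27), (nat_lit 32), (nat_lit 30), (nat_lit 31)], (nat_lit 2), []⟩]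

theorem a_cen_0 : allFrom (cenAt (eqLq eq0) 2 a_gs a_pc) 0 17 = true := by decide +kernel
theorem a_tor : lall2 (torOK (eqLq eq0) a_gs) a_zs a_zu = true := by decide +kernel
theorem a_u_inc : incOK a_u_pi 3510 420 = true := by decide +kernel
theorem a_u_wf : wfAll a_u_N 420 = true := by decide +kernel
theorem a_u_tab_0 : allFrom (tabOK a_u_N 420 9 9 10 a_u_TT) 0 9 = true := by decide +kernel
theorem a_u_tabs : Tabs a_u_N 420 10 9 a_u_TT 8 :=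
  tabs_of (k := 9) (wf_of_wfAll a_u_wf) (by decide) (by decide) (by decide) (lt_add_all lt_zero_all 9 a_u_tab_0)
theorem a_u_s_0 : allFrom (subT (evT TT (nat_lit 60) (nat_lit 10) (nat_lit 1023) (nat_lit 12) (nat_lit 4095)) (recT a_u_TT (nat_lit 10) (nat_lit 1023) (nat_lit 9) (nat_lit 511)) a_u_pi a_hs (nat_lit 420)) 0 4 = true := by decide +kernel
theorem a_ge : geOK a_u_N 420 (gensW 4) a_c 131072 = true := by decide +kernel
theorem a_mem : memOK (eqLq eq0) a_gs a_hs [[(nat_lit 1)],  [(nat_lit 3)],  [(nat_lit 5)],  [(nat_lit 7)]] = true := by decide +kernel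
theorem a_e0_0 : allFrom (entAt (eqLq eq0) 2 a_gs (lapp a_gs (lapp a_zs [])) 0 a_X0 a_X1 a_E0) 0 1 = true := by decide +kernel
theorem a_e1_0 : allFrom (entAt (eqLq eq0) 2 a_gs (lapp a_gs (lapp a_zs [])) 1 a_X1 a_X2 a_E1) 0 2 = true := by decide +kernel
theorem a_e2_0 : allFrom (entAt (eqLq eq0) 2 a_gs (lapp a_gs (lapp a_zs [])) 2 a_X2 a_X3 a_E2) 0 4 = true := by decide +kernel
theorem a_e3_0 : allFrom (entAt (eqLq eq0) 2 a_gs (lapp a_gs (lapp a_zs [])) 3 a_X3 a_X4 a_E3) 0 8 = true := by decide +kernel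
theorem a_e4_0 : allFrom (entAt (eqLq eq0) 2 a_gs (lapp a_gs (lapp a_zs [])) 4 a_X4 a_X5 a_E4) 0 8 = true := by decide +kernel
theorem a_e5_0 : allFrom (entAt (eqLq eq0) 2 a_gs (lapp a_gs (lapp a_zs [])) 5 a_X5 a_X6 a_E5) 0 11 = true := by decide +kernel
theorem a_e6_0 : allFrom (entAt (eqLq eq0) 2 a_gs (lapp a_gs (lapp a_zs [])) 6 a_X6 a_X7 a_E6) 0 10 = true := by decide +kernel
theorem a_e7_0 : allFrom (entAt (eqLq eq0) 2 a_gs (lapp a_gs (lapp a_zs [])) 7 a_X7 a_X8 a_E7) 0 8 = true := by decide +kernel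
theorem a_e8_0 : allFrom (entAt (eqLq eq0) 2 a_gs (lapp a_gs (lapp a_zs [])) 8 a_X8 a_X9 a_E8) 0 16 = true := by decide +kernel
theorem a_e9_0 : allFrom (entAt (eqLq eq0) 2 a_gs (lapp a_gs (lapp a_zs [])) 9 a_X9 a_X10 a_E9) 0 25 = true := by decide +kernel
theorem a_e10_0 : allFrom (entAt (eqLq eq0) 2 a_gs (lapp a_gs (lapp a_zs [])) 10 a_X10 a_X11 a_E10) 0 33 = true := by decide +kernel
theorem a_e11_0 : allFrom (entAt (eqLq eq0) 2 a_gs (lapp a_gs (lapp a_zs [])) 11 a_X11 a_X12 a_E11) 0 27 = true := by decide +kernel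
theorem a_e12_0 : allFrom (entAt (eqLq eq0) 2 a_gs (lapp a_gs (lapp a_zs [])) 12 a_X12 a_X13 a_E12) 0 47 = true := by decide +kernel
theorem a_e13_0 : allFrom (entAt (eqLq eq0) 2 a_gs (lapp a_gs (lapp a_zs [])) 13 a_X13 a_X14 a_E13) 0 33 = true := by decide +kernel
theorem a_e14_0 : allFrom (entAt (eqLq eq0) 2 a_gs (lapp a_gs (lapp a_zs [])) 14 a_X14 a_X15 a_E14) 0 47 = true := by decide +kernel
theorem a_e15_0 : allFrom (entAt (eqLq eq0) 2 a_gs (lapp a_gs (lapp a_zs [])) 15 a_X15 a_X16 a_E15) 0 60 = true := by decide +kernel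
theorem a_e16_0 : allFrom (entAt (eqLq eq0) 2 a_gs (lapp a_gs (lapp a_zs [])) 16 a_X16 a_X17 a_E16) 0 58 = true := by decide +kernel
theorem a_f_0 : allFrom (finAt (eqLq eq0) a_gs a_X17 [[], j1, j2, j3] a_F) 0 55 = true := by decide +kernel

variable {G : Type*} [Group G] {D : Set G} {E : Dom (Cj G) 3510} {f : ℕ → G} {NN : List Net}

theorem a_u_reps (M : M22 D E f) : Reps (Dom.lst E a_u_pi a_u_inc) a_u_N (evs f a_hs) :=
  Reps.subT M.reps tabs (by decide) (wf_of_wfAll a_u_wf) a_u_tabs (l := 4) (by decide) rfl rfl a_u_inc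
    (by decide) (by decide) (by decide) (by decide) (lt_add_all lt_zero_all 4 a_u_s_0)
theorem a_cens (M : M22 D E f) : CenS f 2 a_gs :=
  have := M.finite
  ⟨M.sm0.eqLq.cenR (l := 17) rfl (lt_add_all lt_zero_all 17 a_cen_0), by norm_num,
    (Reps.card_geT (a_u_reps M) (by decide) rfl a_ge).trans (card_le_of_le (M.sm0.eqLq.le a_mem))⟩
theorem a_cl0 (M : M22 D E f) : Cl f 2 a_gs ⊤ 0 a_X0 := Cl.zero _
theorem a_cl1 (M : M22 D E f) : Cl f 2 a_gs ⊤ 1 a_X1 :=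
  have := M.finite
  (a_cl0 M).step' M.sm0.eqLq (a_cens M) a_tor (l := 1) (by decide +kernel) (lt_add_all lt_zero_all 1 a_e0_0)
theorem a_cl2 (M : M22 D E f) : Cl f 2 a_gs ⊤ 2 a_X2 :=
  have := M.finite
  (a_cl1 M).step' M.sm0.eqLq (a_cens M) a_tor (l := 2) (by decide +kernel) (lt_add_all lt_zero_all 2 a_e1_0)
theorem a_cl3 (M : M22 D E f) : Cl f 2 a_gs ⊤ 3 a_X3 :=
  have := M.finite
  (a_cl2 M).step' M.sm0.eqLq (a_cens M) a_tor (l := 4) (by decide +kernel) (lt_add_all lt_zero_all 4 a_e2_0)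
theorem a_cl4 (M : M22 D E f) : Cl f 2 a_gs ⊤ 4 a_X4 :=
  have := M.finite
  (a_cl3 M).step' M.sm0.eqLq (a_cens M) a_tor (l := 8) (by decide +kernel) (lt_add_all lt_zero_all 8 a_e3_0)
theorem a_cl5 (M : M22 D E f) : Cl f 2 a_gs ⊤ 5 a_X5 :=
  have := M.finite
  (a_cl4 M).step' M.sm0.eqLq (a_cens M) a_tor (l := 8) (by decide +kernel) (lt_add_all lt_zero_all 8 a_e4_0)
theorem a_cl6 (M : M22 D E f) : Cl f 2 a_gs ⊤ 6 a_X6 :=
  have := M.finite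
  (a_cl5 M).step' M.sm0.eqLq (a_cens M) a_tor (l := 11) (by decide +kernel) (lt_add_all lt_zero_all 11 a_e5_0)
theorem a_cl7 (M : M22 D E f) : Cl f 2 a_gs ⊤ 7 a_X7 :=
  have := M.finite
  (a_cl6 M).step' M.sm0.eqLq (a_cens M) a_tor (l := 10) (by decide +kernel) (lt_add_all lt_zero_all 10 a_e6_0)
theorem a_cl8 (M : M22 D E f) : Cl f 2 a_gs ⊤ 8 a_X8 :=
  have := M.finite
  (a_cl7 M).step' M.sm0.eqLq (a_cens M) a_tor (l := 8) (by decide +kernel) (lt_add_all lt_zero_all 8 a_e7_0)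
theorem a_cl9 (M : M22 D E f) : Cl f 2 a_gs ⊤ 9 a_X9 :=
  have := M.finite
  (a_cl8 M).step' M.sm0.eqLq (a_cens M) a_tor (l := 16) (by decide +kernel) (lt_add_all lt_zero_all 16 a_e8_0)
theorem a_cl10 (M : M22 D E f) : Cl f 2 a_gs ⊤ 10 a_X10 :=
  have := M.finite
  (a_cl9 M).step' M.sm0.eqLq (a_cens M) a_tor (l := 25) (by decide +kernel) (lt_add_all lt_zero_all 25 a_e9_0)
theorem a_cl11 (M : M22 D E f) : Cl f 2 a_gs ⊤ 11 a_X11 :=
  have := M.finite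
  (a_cl10 M).step' M.sm0.eqLq (a_cens M) a_tor (l := 33) (by decide +kernel) (lt_add_all lt_zero_all 33 a_e10_0)
theorem a_cl12 (M : M22 D E f) : Cl f 2 a_gs ⊤ 12 a_X12 :=
  have := M.finite
  (a_cl11 M).step' M.sm0.eqLq (a_cens M) a_tor (l := 27) (by decide +kernel) (lt_add_all lt_zero_all 27 a_e11_0)
theorem a_cl13 (M : M22 D E f) : Cl f 2 a_gs ⊤ 13 a_X13 :=
  have := M.finite
  (a_cl12 M).step' M.sm0.eqLq (a_cens M) a_tor (l := 47) (by decide +kernel) (lt_add_all lt_zero_all 47 a_e12_0)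
theorem a_cl14 (M : M22 D E f) : Cl f 2 a_gs ⊤ 14 a_X14 :=
  have := M.finite
  (a_cl13 M).step' M.sm0.eqLq (a_cens M) a_tor (l := 33) (by decide +kernel) (lt_add_all lt_zero_all 33 a_e13_0)
theorem a_cl15 (M : M22 D E f) : Cl f 2 a_gs ⊤ 15 a_X15 :=
  have := M.finite
  (a_cl14 M).step' M.sm0.eqLq (a_cens M) a_tor (l := 47) (by decide +kernel) (lt_add_all lt_zero_all 47 a_e14_0)
theorem a_cl16 (M : M22 D E f) : Cl f 2 a_gs ⊤ 16 a_X16 :=
  have := M.finite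
  (a_cl15 M).step' M.sm0.eqLq (a_cens M) a_tor (l := 60) (by decide +kernel) (lt_add_all lt_zero_all 60 a_e15_0)
theorem a_cl17 (M : M22 D E f) : Cl f 2 a_gs ⊤ 17 a_X17 :=
  have := M.finite
  (a_cl16 M).step' M.sm0.eqLq (a_cens M) a_tor (l := 58) (by decide +kernel) (lt_add_all lt_zero_all 58 a_e16_0)
theorem a_all (M : M22 D E f) : ∀ y : G, y ^ 2 = 1 → ∃ r ∈ [[], j1, j2, j3], IsConj y (ev f r) :=
  have := M.finite
  (a_cl17 M).all M.sm0.eqLq (a_cens M) (l := 55) (m := 492567075) (by decide +kernel) (lt_add_all lt_zero_all 55 a_f_0)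
    (by rw [M.card]; norm_num) (by decide)

theorem invs (M : M22 D E f) (y : G) (hy : orderOf y = 2) : ∃ m, 1 ≤ m ∧ m ≤ 3 ∧ IsConj y (xs f m) := by
  obtain ⟨r, hr, h⟩ := a_all M y (hy ▸ pow_orderOf_eq_one y)
  simp only [List.mem_cons, List.not_mem_nil, or_false] at hr
  rcases hr with rfl | rfl | rfl | rfl
  · rw [ev_nil, isConj_one_left] at h
    rw [h, orderOf_one] at hy
    cases hy
  · exact ⟨1, by decide, by decide, h⟩
  · exact ⟨2, by decide, by decide, h⟩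
  · exact ⟨3, by decide, by decide, h⟩

end CF.Fisch.F22.L2
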