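import Cfsg.Agent.Fisch.F22.Tb
import Cfsg.Agent.Fisch.F22.N3
import Cfsg.Agent.Fisch.St.Pair

set_option autoImplicit false
set_option maxRecDepth 1000000
set_option maxHeartbeats 0
set_option Elab.async false

namespace CF.Fisch.F22.P0

open CF.Comp CF.Fisch CF.Fisch.F22 Subgroup
open scoped Pointwise

noncomputable def pa : List Nat := [(nat_lit 30), (nat_lit 3), (nat_lit 52), (nat_lit 3)]
noncomputable def pd : List Nat := [(nat_lit 3), (nat_lit 53), (nat_lit 1), (nat_lit 3)]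
noncomputable def k_p : List Nat := []
noncomputable def k_ps : List (List Nat) := [[(nat_lit 29), (nat_lit 47), (nat_lit 3)],
  [(nat_lit 24), (nat_lit 44), (nat_lit 3)],
  [(nat_lit 51), (nat_lit 5), (nat_lit 3)],
  [(nat_lit 37), (nat_lit 48), (nat_lit 3)],
  [(nat_lit 5), (nat_lit 48), (nat_lit 3)]]
noncomputable def k_hs : List (List Nat) := [[(nat_lit 1)],
  [(nat_lit 29), (nat_lit 47), (nat_lit 3), (nat_lit 1), (nat_lit 3), (nat_lit 48), (nat_lit 30)],
  [(nat_lit 24), (nat_lit 44), (nat_lit 3), (nat_lit 1), (nat_lit 3), (nat_lit 43), (nat_lit 23)],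
  [(nat_lit 51), (nat_lit 5), (nat_lit 3), (nat_lit 1), (nat_lit 3), (nat_lit 5), (nat_lit 52)],
  [(nat_lit 37), (nat_lit 48), (nat_lit 3), (nat_lit 1), (nat_lit 3), (nat_lit 47), (nat_lit 38)],
  [(nat_lit 5), (nat_lit 48), (nat_lit 3), (nat_lit 1), (nat_lit 3), (nat_lit 47), (nat_lit 5)]]
noncomputable def k_u_N_0 : Net := (Net.cons (nat_lit 2) (nat_lit 0x3100000220000333330000000000000) (Net.cons (nat_lit 4) (nat_lit 0x40000020003000300000000000000) (Net.cons (nat_lit 8) (nat_lit 0x30000000000000000) (Net.cons (nat_lit 16) (nat_lit 0x3000000000000000000) (Net.cons (nat_lit 32) (nat_lit 0x30000000000000000000000) (Net.cons (nat_lit 64) (nat_lit 0x300000000000000) (Net.cons (nat_lit 32) (nat_lit 0x30000000000000000000000) (Net.cons (nat_lit 16) (nat_lit 0x3030000000000000000) (Net.cons (nat_lit 8) (nat_lit 0xc00ff00fc00330030000000000000) (Net.cons (nat_lit 4) (nat_lit 0x30b000001000f0c0f0c000000000000) (Net.cons (nat_lit 2) (nat_lit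 0x3200000110000333330000000000000) (Net.cons (nat_lit 1) (nat_lit 0x1550000555400000001400000000000) Net.nil))))))))))))
noncomputable def k_u_N_1 : Net := (Net.cons (nat_lit 1) (nat_lit 0x15054041054000511040104000010000) (Net.cons (nat_lit 2) (nat_lit 0x2130012001322011110112000000000) (Net.cons (nat_lit 4) (nat_lit 0x30a0004090001080c02040000040900) (Net.cons (nat_lit 8) (nat_lit 0x1000fc00010001004400c000800000) (Net.cons (nat_lit 16) (nat_lit 0x30e8000036030000018700000000) (Net.cons (nat_lit 32) (nat_lit 0x308000080000000000000000) (Net.cons (nat_lit 64) (nat_lit 0x65e832b36d10) (Net.cons (nat_lit 32) (nat_lit 0x3988120a0000000004c00087) (Net.cons (nat_lit 16) (nat_lit 0x30690000b6030000091700000080) (Net.cons (nat_lit 8) (nat_lit 0x3400fc00010003004400e000820000) (Net.cons (nat_lit 4) (nat_lit 0x30a000c090001080c02040000040900) (Net.cons (nat_lit 2) (nat_lit 0x2130012001322011110112000000000) (Net.cons (nat_lit 1) (nat_lit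 0x15054041054000511040104000010000) Net.nil)))))))))))))
noncomputable def k_u_N_2 : Net := (Net.cons (nat_lit 1) (nat_lit 0x1500114001111104040540400000000) (Net.cons (nat_lit 2) (nat_lit 0x2323032012031303021200000120000) (Net.cons (nat_lit 4) (nat_lit 0x10100050400000206000004000000) (Net.cons (nat_lit 8) (nat_lit 0x3b0014005c00750000000900000000) (Net.cons (nat_lit 16) (nat_lit 0x185000041e00000084100008000) (Net.cons (nat_lit 32) (nat_lit 0x9881b00000000000000000) (Net.cons (nat_lit 64) (nat_lit 0x1801148014f8c334) (Net.cons (nat_lit 32) (nat_lit 0x9bc811100000000c2020841) (Net.cons (nat_lit 16) (nat_lit 0x11a700008192000018490000c060) (Net.cons (nat_lit 8) (nat_lit 0x3b0094001c00350042002900c20040) (Net.cons (nat_lit 4) (nat_lit 0x90100050c00080206000804000000) (Net.cons (nat_lit 2) (nat_lit 0x2323033012031303021210000120000) (Net.cons (nat_lit 1) (nat_lit 0x1500114001111104040540400000000) Net.nil)))))))))))))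
noncomputable def k_u_N_3 : Net := (Net.cons (nat_lit 1) (nat_lit 0x511500444114044100444101440010) (Net.cons (nat_lit 2) (nat_lit 0x3311100221000310231000000221000) (Net.cons (nat_lit 4) (nat_lit 0x204080d050a090c00090d0005020000) (Net.cons (nat_lit 8) (nat_lit 0xa004100880066001a002000880000) (Net.cons (nat_lit 16) (nat_lit 0x1b150000b0380000611100000000) (Net.cons (nat_lit 32) (nat_lit 0x55200300000000040000000) (Net.cons (nat_lit 64) (nat_lit 0xb95a162ec42f198) (Net.cons (nat_lit 32) (nat_lit 0x552b224000000001020e401) (Net.cons (nat_lit 16) (nat_lit 0x1b1d0000f0380000211900004000) (Net.cons (nat_lit 8) (nat_lit 0x1a00510098006e001a002000880010) (Net.cons (nat_lit 4) (nat_lit 0x204080d050a090c00090d0005020000) (Net.cons (nat_lit 2) (nat_lit 0x3311100221000310231000000221000) (Net.cons (nat_lit 1) (nat_lit 0x511500444114044100444101440010) Net.nil)))))))))))))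
noncomputable def k_u_N_4 : Net := (Net.cons (nat_lit 1) (nat_lit 0x5040401511000100440445100000000) (Net.cons (nat_lit 2) (nat_lit 0x1112231303011221031120200100000) (Net.cons (nat_lit 4) (nat_lit 0xc090e010209080002080005000000) (Net.cons (nat_lit 8) (nat_lit 0x2a0058009000000091004000d00000) (Net.cons (nat_lit 16) (nat_lit 0x1010000054000000884100000000) (Net.cons (nat_lit 32) (nat_lit 0xa001100000000080000000) (Net.cons (nat_lit 64) (nat_lit 0x144040a8d5a22b1a) (Net.cons (nat_lit 32) (nat_lit 0x4a81150000000008c148041) (Net.cons (nat_lit 16) (nat_lit 0x10130000549000008a4300000000) (Net.cons (nat_lit 8) (nat_lit 0x2a00580090000a0091004000d0000a) (Net.cons (nat_lit 4) (nat_lit 0xc0b0e050609080002080005000000) (Net.cons (nat_lit 2) (nat_lit 0x1112231303011221031120200100000) (Net.cons (nat_lit 1) (nat_lit 0x5040401511000100440445100000000) Net.nil)))))))))))))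
noncomputable def k_u_N_5 : Net := (Net.cons (nat_lit 1) (nat_lit 0x4010414405001411441410544100400) (Net.cons (nat_lit 2) (nat_lit 0x3300121012033121210130200010000) (Net.cons (nat_lit 4) (nat_lit 0x30101020703020007000200000100) (Net.cons (nat_lit 8) (nat_lit 0xf00c1000600720013001000000000) (Net.cons (nat_lit 16) (nat_lit 0x1016000091f2000016100000c000) (Net.cons (nat_lit 32) (nat_lit 0x2a00c8880000000000000000) (Net.cons (nat_lit 64) (nat_lit 0x36c701ba8cd7e901) (Net.cons (nat_lit 32) (nat_lit 0x3e77c8880000000044571610) (Net.cons (nat_lit 16) (nat_lit 0x1006000091f2000006100000c010) (Net.cons (nat_lit 8) (nat_lit 0xf00d1005600660003000000440010) (Net.cons (nat_lit 4) (nat_lit 0x70105020703020407000204040500) (Net.cons (nat_lit 2) (nat_lit 0x3300121112133121210130200010000) (Net.cons (nat_lit 1) (nat_lit 0x4010414405001411441410544100400) Net.nil)))))))))))))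
noncomputable def k_u_N : List Net := [k_u_N_0, k_u_N_1, k_u_N_2, k_u_N_3, k_u_N_4, k_u_N_5]
noncomputable def k_u_pt : BT Nat := (BT.leaf (nat_lit 0xdb6b83b81accacaa18a15a0ea0ca0094894593e93c93089188788587d87286f86e8657d27c87c67be7b37b07af7a672771c71a7107077026f569368868667c67366e6616045f65f45f359058258057f50d50a4b34b046d45945544f42541140d4073e03d03cd3ca3ae39e39b39837d37035734a3032f12e12d72b42b12aa2a82a729f29829728e28d28928728027326125f25e25524724624223c22221120d2041f71f11c61ba08005203202902601701601100e00b009008005004002000))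
noncomputable def k_u_pi : Nat → Nat := BT.record k_u_pt (nat_lit 10) (nat_lit 1023) (nat_lit 12) (nat_lit 4095)
noncomputable def k_u_t0 : BT Nat := (BT.leaf (nat_lit 0x3efcf7ebcf8efdbaf4e7cb8f0dfbb6ecd7ab4e8cf9b2e4c78b0e0bf7aedcb76acd8af5aad4a74a8d09f3a6cc972a4c88f1a2c4870a0c07ef9ebc76e9cb86ed9ab466c98b05eb96ac56a94a84e992a446890a03e78e9c3668c982e58a9426488901e3868c16284880e182840608080))
noncomputable def k_u_t1 : BT Nat := (BT.leaf (nat_lit 0x3dfafbf3a73e5c7879f1dfb75cf9b2e4c78b0e0dfbb6ecd7ab4e8b15eb55a94e95fbd76e5bb5666cc972a8d09f3a3c693220c07efa2c48709cb86ed9ebc76e99b26ad18315cbd6ac56a94a84e992a446890a03e78e9c3668c982e58a9426488901e3868c16284880e182840608080))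
noncomputable def k_u_t2 : BT Nat := (BT.leaf (nat_lit 0x3dfafbf3a73e5c7879f1dfb75cf9b2e4c78b0e0dfbb6ecd7ab4e8b15eb55a94e95fbd76e5bb5666cc972a8d09f3a3c693220c07efa2c48709cb86ed9ebc76e99b26ad18315cbd6ac56a94a84e992a446890a03e78e9c3668c982e58a9426488901e3868c16284880e182840608080))
noncomputable def k_u_t3 : BT Nat := (BT.leaf (nat_lit 0x297ce29bcdfef67aa8c2b3d9fdedb6eca3aac3a3980eada69f9e6f1786dc1537b692958ad4c7f75d09e3ad1121287c88e8c244863209956f813c77a1c9249b80b466698800ebb2727ea94f4c5e92b78c890a0e07b2e736ca0182e5aad726e264b933aec2176c4885e182c506f5ab0))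
noncomputable def k_u_t4 : BT Nat := (BT.leaf (nat_lit 0x297ce29bcdfef67aa8c2b3d9fdedb6eca3aac3a3980eada69f9e6f1786dc1537b692958ad4c7f75d09e3ad1121287c88e8c244863209956f813c77a1c9249b80b466698800ebb2727ea94f4c5e92b78c890a0e07b2e736ca0182e5aad726e264b933aec2176c4885e182c506f5ab0))
noncomputable def k_u_t5 : BT Nat := (BT.leaf (nat_lit 0x2b96c5ea51111dbad3e7c93addf00becd7782682aff29f51ef0ab99aaedcb73acc5fa78e22e8528c10b6875f97e41098f1ac43890a86ecc4c78616e9cb86e65ab4540189a5e9782cc0cd4e3e29972447510a0c958ed536c1b18dbf33d27c4bc107b3468c762a4770ef27e907240b2))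
noncomputable def k_u_t6 : BT Nat := (BT.leaf (nat_lit 0x2b96c5ea51111dbad3e7c93addf00becd7782682aff29f51ef0ab99aaedcb73acc5fa78e22e8528c10b6875f97e41098f1ac43890a86ecc4c78616e9cb86e65ab4540189a5e9782cc0cd4e3e29972447510a0c958ed536c1b18dbf33d27c4bc107b3468c762a4770ef27e907240b2))
noncomputable def k_u_t7 : BT Nat := (BT.leaf (nat_lit 0xb57f6e739e1dda5b3e7c8bc16b8138d423f4b1f2c32e4c78906ebef6eac1968185f846ad4554a8ad8b3844cea564c83a927c4861f82b34faf3c76ebd2324037b4e86746614ba85c814d4a8da992c6708b5e13fe239c36fd918e3f651426deb10d5df65b16bc4cd841ac04b2080b6))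
noncomputable def k_u_t8 : BT Nat := (BT.leaf (nat_lit 0xb57f6e739e1dda5b3e7c8bc16b8138d423f4b1f2c32e4c78906ebef6eac1968185f846ad4554a8ad8b3844cea564c83a927c4861f82b34faf3c76ebd2324037b4e86746614ba85c814d4a8da992c6708b5e13fe239c36fd918e3f651426deb10d5df65b16bc4cd841ac04b2080b6))
noncomputable def k_u_t9 : BT Nat := (BT.leaf (nat_lit 0xad6f74cf67ee13af4c47f8acd519008d7bf4e8f0df2e44dcd3a4397ad41b7762d823f2929f5568d0073869496580bb8fbac8b130ae407e61ebc90e9500cc8c78666c98925e6d6f056e6a28c38d2e06c890ede5e4edf5c68cbe2f2becc26c2b906a3a68c882a1ec0ed02f69e0a4b8))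
noncomputable def k_u_t10 : BT Nat := (BT.leaf (nat_lit 0xad6f74cf67ee13af4c47f8acd519008d7bf4e8f0df2e44dcd3a4397ad41b7762d823f2929f5568d0073869496580bb8fbac8b130ae407e61ebc90e9500cc8c78666c98925e6d6f056e6a28c38d2e06c890ede5e4edf5c68cbe2f2becc26c2b906a3a68c882a1ec0ed02f69e0a4b8))
noncomputable def k_u_t11 : BT Nat := (BT.leaf (nat_lit 0x3efc2497cf8efd9b1b3458acbdfbb6ec7c2b4e8444151e8f8889fa17aed2b631e3452adc27a7728df75387b2e092148c65e2c41b240207fac5d91d3dcd56fd44d8673023010b96acad96ba8a89bd4a479d0c0c190e9ce9ccc988dcb89427ef0e69aee1da7ba9aaf0e182b106080c1))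
noncomputable def k_u_t12 : BT Nat := (BT.leaf (nat_lit 0x3efc2497cf8efd9b1b3458acbdfbb6ec7c2b4e8444151e8f8889fa17aed2b631e3452adc27a7728df75387b2e092148c65e2c41b240207fac5d91d3dcd56fd44d8673023010b96acad96ba8a89bd4a479d0c0c190e9ce9ccc988dcb89427ef0e69aee1da7ba9aaf0e182b106080c1))
noncomputable def k_u_TT : BT (BT Nat) := (BT.node (nat_lit 6) (BT.node (nat_lit 3) (BT.node (nat_lit 1) (BT.leaf k_u_t0) (BT.node (nat_lit 2) (BT.leaf k_u_t1) (BT.leaf k_u_t2))) (BT.node (nat_lit 4) (BT.leaf k_u_t3) (BT.node (nat_lit 5) (BT.leaf k_u_t4) (BT.leaf k_u_t5)))) (BT.node (nat_lit 9) (BT.node (nat_lit 7) (BT.leaf k_u_t6) (BT.node (nat_lit 8) (BT.leaf k_u_t7) (BT.leaf k_u_t8))) (BT.node (nat_lit 11) (BT.node (nat_lit 10) (BT.leaf k_u_t9) (BT.leaf k_u_t10)) (BT.node (nat_lit 12) (BT.leaf k_u_t11) (BT.leaf k_u_t12)))))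
noncomputable def k_u_cg : List Lvl := [⟨(nat_lit 46), [[(nat_lit 7), (nat_lit 5), (nat_lit 1), (nat_lit 11), (nat_lit 9)],
  [(nat_lit 3), (nat_lit 1)]], (nat_lit 8)⟩,
  ⟨(nat_lit 0), [[(nat_lit 5), (nat_lit 7), (nat_lit 3), (nat_lit 9), (nat_lit 1), (nat_lit 5), (nat_lit 11)],
  [(nat_lit 11)]], (nat_lit 9)⟩,
  ⟨(nat_lit 1), [[(nat_lit 11), (nat_lit 3), (nat_lit 11), (nat_lit 5), (nat_lit 1), (nat_lit 7), (nat_lit 3), (nat_lit 1), (nat_lit 5)],
  [(nat_lit 9), (nat_lit 5), (nat_lit 9)]], (nat_lit 5)⟩,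
  ⟨(nat_lit 2), [[(nat_lit 3), (nat_lit 5), (nat_lit 1), (nat_lit 5), (nat_lit 11), (nat_lit 3), (nat_lit 9), (nat_lit 1), (nat_lit 7), (nat_lit 1), (nat_lit 9)],
  [(nat_lit 3), (nat_lit 9), (nat_lit 1), (nat_lit 9), (nat_lit 3)]], (nat_lit 3)⟩,
  ⟨(nat_lit 3), [[(nat_lit 7), (nat_lit 11), (nat_lit 1), (nat_lit 9), (nat_lit 1), (nat_lit 7), (nat_lit 9), (nat_lit 7), (nat_lit 11), (nat_lit 5), (nat_lit 1), (nat_lit 11), (nat_lit 9), (nat_lit 7), (nat_lit 3), (nat_lit 7), (nat_lit 1), (nat_lit 3)]], (nat_lit 2)⟩]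
noncomputable def r_V : List (List Nat) := [[(nat_lit 0x89302dd017809a08132a984d825039a), (nat_lit 0x376cfd22fe87f65f7ecd567b27dafc65), (nat_lit 0)],
  [(nat_lit 0x18205122e22a858a4285aa6ac091d814), (nat_lit 0x6d7aedd09d46824b93a01851e2623aa), (nat_lit 0x21080000140112510440541021480441)],
  [(nat_lit 0x26683cc0054108d40e056392a24aa2a4), (nat_lit 0x812c20de2aee72080009c4158a11c59), (nat_lit 0x118501321810100b71fa002c05144102)],
  [(nat_lit 0x18cadad122446b77300045585400c03), (nat_lit 0x1a0250500c8299088c346a887a0470c4), (nat_lit 0x24710202e159204000cb912200bb8338)],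
  [(nat_lit 0x21054090aca4f041125a74289a326468), (nat_lit 0x1ca0b221101801a4c9a581d024c81a81), (nat_lit 0x25a0d4e43430e1a24000a0741058116)],
  [(nat_lit 0x1652828258b33288aee83001258c1141), (nat_lit 0x202d24088308c9234114455ad012209e), (nat_lit 0x98059752444045410038aa40a61ce20)]]
noncomputable def r_s : Net := (Net.cons (nat_lit 1) (nat_lit 0x454150414044114554540151410100) (Net.cons (nat_lit 2) (nat_lit 0x2132200133322313023323212200000) (Net.cons (nat_lit 4) (nat_lit 0x3030307040f0f06070f070105040208) (Net.cons (nat_lit 8) (nat_lit 0xe000a00cc002a007700ea00e10080) (Net.cons (nat_lit 16) (nat_lit 0x1177000090b200008b2700004000) (Net.cons (nat_lit 32) (nat_lit 0x2134c0470000000040000000) (Net.cons (nat_lit 64) (nat_lit 0x219d3579c2a3f99e) (Net.cons (nat_lit 32) (nat_lit 0x3abf8338000000001136dab4) (Net.cons (nat_lit 16) (nat_lit 0x67800006363000019ca0000c83c) (Net.cons (nat_lit 8) (nat_lit 0x1008e006f009c00cf0049006d003b) (Net.cons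 (nat_lit 4) (nat_lit 0x3010008000b0d09040b05050d000a00) (Net.cons (nat_lit 2) (nat_lit 0x32113133032123321133310233200) (Net.cons (nat_lit 1) (nat_lit 0x15050451151011555115115144510145) Net.nil)))))))))))))
noncomputable def r_As : List (List (List Nat)) := [[[(nat_lit 2), (nat_lit 2), (nat_lit 1), (nat_lit 0), (nat_lit 1), (nat_lit 0)], [(nat_lit 2), (nat_lit 2), (nat_lit 2), (nat_lit 0), (nat_lit 2), (nat_lit 0)], [(nat_lit 1), (nat_lit 2), (nat_lit 2), (nat_lit 0), (nat_lit 1), (nat_lit 0)], [(nat_lit 0), (nat_lit 0), (nat_lit 0), (nat_lit 1), (nat_lit 0), (nat_lit 0)], [(nat_lit 1), (nat_lit 2), (nat_lit 1), (nat_lit 0), (nat_lit 2), (nat_lit 0)], [(nat_lit 0), (nat_lit 0), (nat_lit 0), (nat_lit 0), (nat_lit 0), (nat_lit 1)]],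
  [[(nat_lit 1), (nat_lit 0), (nat_lit 0), (nat_lit 0), (nat_lit 0), (nat_lit 0)], [(nat_lit 0), (nat_lit 2), (nat_lit 2), (nat_lit 2), (nat_lit 0), (nat_lit 2)], [(nat_lit 0), (nat_lit 2), (nat_lit 2), (nat_lit 1), (nat_lit 0), (nat_lit 1)], [(nat_lit 0), (nat_lit 2), (nat_lit 1), (nat_lit 2), (nat_lit 0), (nat_lit 1)], [(nat_lit 0), (nat_lit 0), (nat_lit 0), (nat_lit 0), (nat_lit 1), (nat_lit 0)], [(nat_lit 0), (nat_lit 2), (nat_lit 1), (nat_lit 1), (nat_lit 0), (nat_lit 2)]],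
  [[(nat_lit 1), (nat_lit 0), (nat_lit 0), (nat_lit 0), (nat_lit 0), (nat_lit 0)], [(nat_lit 0), (nat_lit 2), (nat_lit 2), (nat_lit 1), (nat_lit 0), (nat_lit 1)], [(nat_lit 0), (nat_lit 2), (nat_lit 2), (nat_lit 2), (nat_lit 0), (nat_lit 2)], [(nat_lit 0), (nat_lit 1), (nat_lit 2), (nat_lit 2), (nat_lit 0), (nat_lit 1)], [(nat_lit 0), (nat_lit 0), (nat_lit 0), (nat_lit 0), (nat_lit 1), (nat_lit 0)], [(nat_lit 0), (nat_lit 1), (nat_lit 2), (nat_lit 1), (nat_lit 0), (nat_lit 2)]],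
  [[(nat_lit 2), (nat_lit 2), (nat_lit 0), (nat_lit 1), (nat_lit 2), (nat_lit 0)], [(nat_lit 2), (nat_lit 2), (nat_lit 0), (nat_lit 2), (nat_lit 1), (nat_lit 0)], [(nat_lit 0), (nat_lit 0), (nat_lit 1), (nat_lit 0), (nat_lit 0), (nat_lit 0)], [(nat_lit 1), (nat_lit 2), (nat_lit 0), (nat_lit 2), (nat_lit 2), (nat_lit 0)], [(nat_lit 2), (nat_lit 1), (nat_lit 0), (nat_lit 2), (nat_lit 2), (nat_lit 0)], [(nat_lit 0), (nat_lit 0), (nat_lit 0), (nat_lit 0), (nat_lit 0), (nat_lit 1)]],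
  [[(nat_lit 2), (nat_lit 1), (nat_lit 2), (nat_lit 0), (nat_lit 0), (nat_lit 2)], [(nat_lit 1), (nat_lit 2), (nat_lit 2), (nat_lit 0), (nat_lit 0), (nat_lit 2)], [(nat_lit 2), (nat_lit 2), (nat_lit 2), (nat_lit 0), (nat_lit 0), (nat_lit 1)], [(nat_lit 0), (nat_lit 0), (nat_lit 0), (nat_lit 1), (nat_lit 0), (nat_lit 0)], [(nat_lit 0), (nat_lit 0), (nat_lit 0), (nat_lit 0), (nat_lit 1), (nat_lit 0)], [(nat_lit 2), (nat_lit 2), (nat_lit 1), (nat_lit 0), (nat_lit 0), (nat_lit 2)]],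
  [[(nat_lit 1), (nat_lit 0), (nat_lit 0), (nat_lit 0), (nat_lit 0), (nat_lit 0)], [(nat_lit 0), (nat_lit 2), (nat_lit 1), (nat_lit 0), (nat_lit 1), (nat_lit 1)], [(nat_lit 0), (nat_lit 1), (nat_lit 2), (nat_lit 0), (nat_lit 1), (nat_lit 1)], [(nat_lit 0), (nat_lit 0), (nat_lit 0), (nat_lit 1), (nat_lit 0), (nat_lit 0)], [(nat_lit 0), (nat_lit 1), (nat_lit 1), (nat_lit 0), (nat_lit 2), (nat_lit 1)], [(nat_lit 0), (nat_lit 1), (nat_lit 1), (nat_lit 0), (nat_lit 1), (nat_lit 2)]]]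
noncomputable def r_C : List (List Nat) := [[(nat_lit 0), (nat_lit 0x215353b1608aaa80173ffffffffffe), (nat_lit 0x3fdeacac4e9f75557fe8c00000000001)],
  [(nat_lit 0), (nat_lit 0x37ecfd22fed7ffdf7eddd67f6fdbffed), (nat_lit 0x81302dd012800208122298090240012)],
  [(nat_lit 0), (nat_lit 0x376dfd32fec7ffdf7feff67befdffeef), (nat_lit 0x89202cd013800208010098410200110)],
  [(nat_lit 0), (nat_lit 0x8ef437da63fdf3a5993e76c99bd4e5e), (nat_lit 0x3710bc8259c020c5a66c18936642b1a1)],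
  [(nat_lit 0), (nat_lit 0x2ffb0bb5490b4b85ad1ef9366ea954f7), (nat_lit 0x1004f44ab6f4b47a52e106c99156ab08)],
  [(nat_lit 0), (nat_lit 0x3fecff3ffeaff7dfffcff77bf7defdff), (nat_lit 0x1300c0015008200030088408210200)]]
noncomputable def r_vs : List (List Nat) := [[(nat_lit 1), (nat_lit 2), (nat_lit 1), (nat_lit 0), (nat_lit 1), (nat_lit 0)],
  [(nat_lit 0), (nat_lit 1), (nat_lit 2), (nat_lit 2), (nat_lit 0), (nat_lit 2)],
  [(nat_lit 0), (nat_lit 1), (nat_lit 2), (nat_lit 1), (nat_lit 0), (nat_lit 1)],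
  [(nat_lit 1), (nat_lit 2), (nat_lit 0), (nat_lit 1), (nat_lit 2), (nat_lit 0)],
  [(nat_lit 1), (nat_lit 1), (nat_lit 2), (nat_lit 0), (nat_lit 0), (nat_lit 2)],
  [(nat_lit 0), (nat_lit 1), (nat_lit 1), (nat_lit 0), (nat_lit 1), (nat_lit 1)]]
noncomputable def n_q : List Nat := [(nat_lit 29), (nat_lit 47), (nat_lit 3)]
noncomputable def n_ps : List (List Nat) := [[(nat_lit 3), (nat_lit 41), (nat_lit 1), (nat_lit 3)],
  [(nat_lit 19), (nat_lit 3), (nat_lit 52), (nat_lit 3)],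
  [(nat_lit 32), (nat_lit 3), (nat_lit 44), (nat_lit 3)],
  [(nat_lit 51), (nat_lit 3), (nat_lit 44), (nat_lit 3)],
  [(nat_lit 38), (nat_lit 3), (nat_lit 5), (nat_lit 1), (nat_lit 3)]]

theorem pn : comB N Q pa pd = false := by decide +kernel
theorem px : eq0 (lapp (rw w0 pa) (rw w0 pd)) L3.x0 = true := by decide +kernel
theorem k_tr : trOK N w0 k_p k_ps 4 L3.v0 = true := by decide +kernel
theorem k_hq : lall2 eq0 k_hs (rws w0 (k_p :: k_ps)) = true := by decide +kernel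
theorem k_u_inc : incOK k_u_pi 3510 126 = true := by decide +kernel
theorem k_u_wf : wfAll k_u_N 126 = true := by decide +kernel
theorem k_u_tab_0 : allFrom (tabOK k_u_N 126 7 7 10 k_u_TT) 0 13 = true := by decide +kernel
theorem k_u_tabs : Tabs k_u_N 126 10 7 k_u_TT 12 :=
  tabs_of (k := 7) (wf_of_wfAll k_u_wf) (by decide) (by decide) (by decide) (lt_add_all lt_zero_all 13 k_u_tab_0)
theorem k_u_s_0 : allFrom (subT (evT TT (nat_lit 60) (nat_lit 10) (nat_lit 1023) (nat_lit 12) (nat_lit 4095)) (recT k_u_TT (nat_lit 10) (nat_lit 1023) (nat_lit 7) (nat_lit 127)) k_u_pi k_hs (nat_lit 126)) 0 6 = true := by decide +kernel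
theorem k_in : ptsIn k_u_pi L3.v0 126 = true := by decide +kernel
theorem k_u_cgok : cgOK k_u_N 126 k_u_cg 6531840 = true := by decide +kernel
theorem r_la : linAll (tabP 3) 126 6 r_V r_As k_u_N r_C 6 = true := by decide +kernel
theorem r_lin : LinOK (tabP 3) 126 6 6 r_V r_As k_u_N :=
  ⟨⟨r_s, by decide +kernel⟩, by decide +kernel, k_u_wf, rfl,
    r_C, by decide +kernel, rfl, linAll_iff.1 r_la⟩
theorem r_eq : Nonempty (PG k_u_N ≃* PRefl 6) :=
  PG.equiv (LinOK.hasPRefl r_lin (by decide) (vs := r_vs) (by decide +kernel)) (by decide) k_u_cgok card_PRefl6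
theorem n_ok : npOK N Q w0 k_p n_q n_ps 5 L3.v0 = true := by decide +kernel
theorem n_in : inB N L3.v0 n_q = true := by decide +kernel
theorem n_nc : comB N Q k_p n_q = false := by decide +kernel

variable {G : Type*} [Group G] {D : Set G} {E : Dom (Cj G) 3510} {f : ℕ → G} {NN : List Net}

open Cfsg Matrix

theorem k_u_reps (M : M22 D E f) : Reps (Dom.lst E k_u_pi k_u_inc) k_u_N (evs f k_hs) :=
  Reps.subT M.reps tabs (by decide) (wf_of_wfAll k_u_wf) k_u_tabs (l := 6) (by decide) rfl rfl k_u_inc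
    (by decide) (by decide) (by decide) (by decide) (lt_add_all lt_zero_all 6 k_u_s_0)

theorem pair (M : M22 D E f) : cw0 f w0 pa * cw0 f w0 pd = ev f L3.x0 := M.sm0.mul_eq px

theorem nc (M : M22 D E f) : ¬ Commute (cw0 f w0 pa) (cw0 f w0 pd) := fun c => by simpa [M.comB_iff.2 c] using pn

theorem py (M : M22 D E f) : PY D (cw0 f w0 pa) (cw0 f w0 pd) = sv E L3.v0 := by
  rw [← py_eq M.grp.1 (M.cw0_mem _) (M.cw0_mem _) (nc M), pair M, L3.fix0 M]

theorem le (M : M22 D E f) : Nat.card (normalizer (zpowers (cw0 f w0 pa * cw0 f w0 pd) : Set G)) ≤ 6 * 6531840 :=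
  pair M ▸ N3.le0 M

theorem le' (M : M22 D E f) : Nat.card (closure (sv E L3.v0)) ≤ 6531840 :=
  have := M.finite
  py M ▸ py_card_le M.grp.1 (M.cw0_mem _) (M.cw0_mem _) (nc M) (le M)

theorem wd (M : M22 D E f) : wdC D (zpowers (cw0 f w0 pa * cw0 f w0 pd)) = 6 := pair M ▸ L3.wd0 M

theorem pick (M : M22 D E f) {a d : G} (ha : a ∈ D) (hd : d ∈ D) (hn : ¬ Commute a d) :
    ∃ E' f', M22 D E' f' ∧ a = cw0 f' w0 pa ∧ d = cw0 f' w0 pd := by
  have := M.finite
  obtain ⟨g, rfl, rfl⟩ := M.npair M.primTT pn ha hd hn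
  exact ⟨_, _, M.conj g, cw0_cj g f _ _, cw0_cj g f _ _⟩

theorem kk (M : M22 D E f) : Nonempty (closure (sv E L3.v0) ≃* PG k_u_N) ∧ center (closure (sv E L3.v0)) = ⊥ ∧
    6531840 ≤ Nat.card (closure (sv E L3.v0)) :=
  have := M.finite
  Reps.equiv_lst (k_u_reps M) (by decide) k_u_cgok k_in ((M.sm0.clo_eq k_hq).trans (M.tr k_tr).1) (le' M)

theorem refl (M : M22 D E f) : IsProjReflectionGroupModThree (closure (sv E L3.v0)) 6 1 (-1) :=
  isPRefl_of ⟨(kk M).1.some.trans r_eq.some⟩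

theorem loc (M : M22 D E f) : IsProjReflectionGroupModThree
    (Loc (Dd D (cw0 f w0 pa) ∩ Dd D (cw0 f w0 pd))) 6 1 (-1) := by
  rw [py_Dd, py M]
  exact isPRefl_of ⟨(quotCenter (kk M).2.1).trans ((kk M).1.some.trans r_eq.some)⟩

end CF.Fisch.F22.P0
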