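import Mathlib
import Cfsg.Agent.Fisch.Chart
import Cfsg.Agent.Fisch.F22.Model

set_option autoImplicit false
set_option maxRecDepth 1000000
set_option maxHeartbeats 0

namespace CF.Fisch.F22

open CF.Comp CF.Fisch

noncomputable def T0 : Nat := (nat_lit 0x7e000000000000005ffec000000000000036fffb800000000001affff8000000000fffffc000003fffc0003ffc01fc0f8c8)
noncomputable def T1 : Nat := (nat_lit 0x4100000400800200204240008442400800440510002888a00481130400080984740306200088001b18826202e0800080184441000452002400600810003003000c04000b0c088401ec90cde0de1e68)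
noncomputable def T2 : Nat := (nat_lit 0x1000000081040000000000020240890020000000045208d4008000000000c60111650140000000033a1012ec3100000077a1197e64000007fc97d00047da708af64de4f8c8)
noncomputable def Ts : List Nat := [T0, T1, T2]
noncomputable def al1 : Net := (Net.cons (nat_lit 1) (nat_lit 0x1404405450040144515451015000450000104154555005515104015054151150555010150115555001511045110510150005514110005141451401445000455405401541455050510441551444514040150151100100) (Net.cons (nat_lit 2) (nat_lit 0x3131002232232033201122201123001302001223112112323122121100310303112023011102303301230110010131003201233203203132110312132222011322310211122121222302203220002220011100220000) (Net.cons (nat_lit 4) (nat_lit 0x808000e000000000c060e030e0801000b050206060607070308060002050d09050900030a00080a060f0f0f0f0c01060a0a02090a0e08080f06010b0f0a0e02080d090508040d03010e070b02040904090f06070000) (Net.cons (nat_lit 8) (nat_lit 0xc8008200c2003000440014007e007600ec0010004100ba002a007200ab0080004f009d007100d400c400cc00350058008300c0002600ac004b0008009000dd00e4000c002000d90053008b00f4002800e000210000)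 (Net.cons (nat_lit 16) (nat_lit 0x4c81000048880000881b000088540000475c0000ff02000064eb0000697500009022000078a10000f2e40000161700000c5200006c0600002b1a00001cde00006dab0000f66400008c250000a44000000000) (Net.cons (nat_lit 32) (nat_lit 0x1124800000000ca90cd1300000000894915310000000081319780000000002b927d0b000000006f2ec4c100000000dea32823000000008c92b00800000000458039020000000090ae84a00000000000000000) (Net.cons (nat_lit 64) (nat_lit 0x201512cace9419d200000000000000001cbd05eb3813ac1500000000000000005c1016e04497822900000000000000000e1048050021871000000000000000000001000082000000) (Net.cons (nat_lit 128) (nat_lit 0x1c00010060a48400000000000000000000000000000000b98043446ba085ac8e025c20405c4aa70000000000000000000000000000000000010000840410c02100000000000000) (Net.cons (nat_lit 256) (nat_lit 0x1800000060248060040080421409922140202200000001) (Net.cons (nat_lit 512) (nat_lit 0x1c00010060a48460051080c61419d22140202200000001) (Net.cons (nat_lit 256) (nat_lit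 0x958b000c21d2a1ee9fa95a2f5b1c6b37281efb40ce630dd1010b242408000001) (Net.cons (nat_lit 128) (nat_lit 0x1d12498ae0a584000000000000000000000000000000001a81557e2fc148e80f052cf031304fb6000000000000000000000000000000004e134ac9c6e91610f06e0400e180c4a0) (Net.cons (nat_lit 64) (nat_lit 0x6a05dfd9efbd0bf200000000000000001d38c0b94013a01000000000000000007c1526e285a38f1a0000000000000000eee81d9f0d34f6090000000000000000316f1014ae20a120) (Net.cons (nat_lit 32) (nat_lit 0x15ec8000000008a98cd3300000000a97c40240000000044b5efc800000000e4b276fe000000009daa491e000000002deb8109000000008dcbf03a00000000597d428300000000a8c1a6f10000000051c844a0) (Net.cons (nat_lit 16) (nat_lit 0x4ce900005d8a00008cb300004859000053ce0000d46a000031ae00001afb0000cd2100006eed000072fc0000228c00004d1d0000ea6c0000d34a00004a7c0000b6cc00007205000093af000057f6000060a0) (Net.cons (nat_lit 8) (nat_lit 0xc9008200db00310040002d003500c7002f002500ea001100fc00d400f400b1007e002500a7005c002d00d1003d00b4000a0054008100f100b8005d00f9004900a400a100fa007700930077004c00c30050000900a0)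 (Net.cons (nat_lit 4) (nat_lit 0x108000e0100080e0f060e020d0d0a010c0005040a040f0202070b0b0d0301000b040c05000d05080a08080d050401090706040f090407070b060d0c0b05070e0101000f0b0806070c0a04050c0c070c0f0b0d0f0000) (Net.cons (nat_lit 2) (nat_lit 0x3101002212013000201101023012212010210022021332003300321210210003221232030031100232131332312330132123013011300132133103031021101120121010111230033300033110301133131023222020) (Net.cons (nat_lit 1) (nat_lit 0x1504401451004105405540011151550401555554051511410050504104551510145550104551454055441541040410515540055555111114511455515150405400541114140000041514550500104154011111040100) Net.nil)))))))))))))))))))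
noncomputable def al2 : Net := (Net.cons (nat_lit 1) (nat_lit 0x1504401451004101405540011551550401515554051511410050504104551510145550104551454055441541040410515540055554511114511455515150405400541100145000040514550500104154001111040100) (Net.cons (nat_lit 2) (nat_lit 0x3101002212012002201323223213212001103001312000130131012122303110130310212323323101303110121002201002102230223010310331212203232213213300020311310032301223130122103211030000) (Net.cons (nat_lit 4) (nat_lit 0x1080004080a0306040e0d0202070d020b0d020f0d0300000c0e08020c0102020d0a09090f0a0a0a00090d000a0303040d030b0b03030d040f030a01090a0e01050d08040d0b000c01000b010e0004030a0d04080000) (Net.cons (nat_lit 8) (nat_lit 0xc800a00059008d00e4001400bc00e800c1006b00e4006e00530069009200f2006c005400c200bf0005006d009100e60033005a00400056001a00c7008200550080009100de009c00ef004f001400ef00c700800000) (Net.cons (nat_lit 16) (nat_lit 0x5dd0000040800000bebb0000346b000017f400005229000011ca000088db000073ee00004156000066320000cdc20000496700000861000009620000aa1b0000979b0000ac640000cc060000081000000000)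 (Net.cons (nat_lit 32) (nat_lit 0x10002000000000f3a939db0000000098f963440000000051e682d300000000224ca1b5000000009e5471ba000000004f00c077000000000478bb2000000000aaa30dfd00000000100150200000000000000000) (Net.cons (nat_lit 64) (nat_lit 0xa506270b5e8805b000000000000000054e1929f010008b00000000000000000e3683f8f751840fa00000000000000008e62204534100d1000000000000000000000000000000000) (Net.cons (nat_lit 128) (nat_lit 0x15440010000000000000000000000000000000000000c3468b913b6022aa7612340400280980000000000000000000000000000000008000000950000482c00000000000000) (Net.cons (nat_lit 256) (nat_lit 0x4400000000085060021428000b0600000000000184) (Net.cons (nat_lit 512) (nat_lit 0x154400100000c5062029568805b3ea0000000000184) (Net.cons (nat_lit 256) (nat_lit 0xefcc9ed56b7520a814227a3d4fecada6b5863161d28c0693aa51c1820200184) (Net.cons (nat_lit 128) (nat_lit 0x100174f189004800000000000000000000000000000000af348f284493c218d7fe324f9a63c01900000000000000000000000000000000fcf62ed7a930db7e2c811e000800c400)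 (Net.cons (nat_lit 64) (nat_lit 0x8f9fbabf5f8a67b0000000000000000f4a3250f510008b40000000000000000436c168e353800f80000000000000000d5f6fdd57b4c200400000000000000005322d600399181a0) (Net.cons (nat_lit 32) (nat_lit 0x104ca000000000b3a999db000000004c99720400000000e35375d200000000b73a0d42000000009876e06c00000000a13048bb00000000936c7da2000000006a6c2cbd000000000c75c23000000000d0b3e000) (Net.cons (nat_lit 16) (nat_lit 0xdd92000051860000308b00003e6b00001d60000028910000c39b00006026000036a8000063880000843200002636000008690000622900003c8900007d9b000021450000cc27000012e40000ec9700006180) (Net.cons (nat_lit 8) (nat_lit 0xc900a000d8008d00e0009d00040069005300ab00ac00a8009a00b600b90027001c004b006100e300f600dc000100c2003c003d00f100a5005e00590062000f0001004c00100003003b00d600360033005300b00020) (Net.cons (nat_lit 4) (nat_lit 0x8080004080b0b09060e0d08090f07030f0e0a0f0a000a0b0c0d030000060608060c0a0c0c0e09050308000005090b010b080d060604090b0c090e04090a0201080f0f080101070c070c0a000e0404040e0d0a0a0000)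 (Net.cons (nat_lit 2) (nat_lit 0x3131002232233013201322201022211110123210201220010200302211221211020302320030131032312332323302211110020231330223323020211111222110032013311213033031020102330210113323032020) (Net.cons (nat_lit 1) (nat_lit 0x1404405450040154515451015400450000144154555005515104015054151150555010150115555001511045110510151005514111405141451401445000455405401555455150510441551444514140150151140100) Net.nil)))))))))))))))))))
noncomputable def P1 : List (List Nat) := [[(nat_lit 3), (nat_lit 5), (nat_lit 1), (nat_lit 3)],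
  [(nat_lit 5), (nat_lit 7), (nat_lit 3), (nat_lit 5), (nat_lit 1), (nat_lit 3)],
  [(nat_lit 7), (nat_lit 9), (nat_lit 5), (nat_lit 7), (nat_lit 3), (nat_lit 5), (nat_lit 1), (nat_lit 3)],
  [(nat_lit 9), (nat_lit 11), (nat_lit 7), (nat_lit 9), (nat_lit 5), (nat_lit 7), (nat_lit 3), (nat_lit 5), (nat_lit 1), (nat_lit 3)],
  [(nat_lit 11), (nat_lit 13), (nat_lit 9), (nat_lit 11), (nat_lit 7), (nat_lit 9), (nat_lit 5), (nat_lit 7), (nat_lit 3), (nat_lit 5), (nat_lit 1), (nat_lit 3)],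
  [(nat_lit 7), (nat_lit 9), (nat_lit 11), (nat_lit 5), (nat_lit 7), (nat_lit 9), (nat_lit 3), (nat_lit 5), (nat_lit 7), (nat_lit 15), (nat_lit 13), (nat_lit 11), (nat_lit 9), (nat_lit 7), (nat_lit 5), (nat_lit 3)],
  [(nat_lit 15), (nat_lit 17), (nat_lit 7), (nat_lit 15), (nat_lit 5), (nat_lit 7), (nat_lit 3), (nat_lit 5), (nat_lit 1), (nat_lit 3)],
  [(nat_lit 7), (nat_lit 15), (nat_lit 9), (nat_lit 11), (nat_lit 7), (nat_lit 9), (nat_lit 3), (nat_lit 5), (nat_lit 7), (nat_lit 15), (nat_lit 13), (nat_lit 11), (nat_lit 9), (nat_lit 7), (nat_lit 5), (nat_lit 3)]]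
noncomputable def P2 : List (List Nat) := [[(nat_lit 3), (nat_lit 5), (nat_lit 1), (nat_lit 3)],
  [(nat_lit 5), (nat_lit 7), (nat_lit 3), (nat_lit 5), (nat_lit 1), (nat_lit 3)],
  [(nat_lit 7), (nat_lit 9), (nat_lit 5), (nat_lit 7), (nat_lit 3), (nat_lit 5), (nat_lit 1), (nat_lit 3)],
  [(nat_lit 9), (nat_lit 11), (nat_lit 7), (nat_lit 9), (nat_lit 5), (nat_lit 7), (nat_lit 3), (nat_lit 5), (nat_lit 1), (nat_lit 3)],
  [(nat_lit 11), (nat_lit 13), (nat_lit 9), (nat_lit 11), (nat_lit 7), (nat_lit 9), (nat_lit 5), (nat_lit 7), (nat_lit 3), (nat_lit 5), (nat_lit 1), (nat_lit 3)],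
  [(nat_lit 7), (nat_lit 15), (nat_lit 9), (nat_lit 11), (nat_lit 7), (nat_lit 9), (nat_lit 3), (nat_lit 5), (nat_lit 7), (nat_lit 15), (nat_lit 13), (nat_lit 11), (nat_lit 9), (nat_lit 7), (nat_lit 5), (nat_lit 3)],
  [(nat_lit 15), (nat_lit 17), (nat_lit 7), (nat_lit 15), (nat_lit 5), (nat_lit 7), (nat_lit 3), (nat_lit 5), (nat_lit 1), (nat_lit 3)],
  [(nat_lit 7), (nat_lit 15), (nat_lit 5), (nat_lit 7), (nat_lit 3), (nat_lit 5), (nat_lit 1), (nat_lit 3)]]
noncomputable def wsU : List (List Nat) := [[(nat_lit 3), (nat_lit 5), (nat_lit 7), (nat_lit 15), (nat_lit 9), (nat_lit 7), (nat_lit 5), (nat_lit 3), (nat_lit 1), (nat_lit 4), (nat_lit 6), (nat_lit 8), (nat_lit 10), (nat_lit 16), (nat_lit 8), (nat_lit 6), (nat_lit 4)],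
  [(nat_lit 3), (nat_lit 5), (nat_lit 7), (nat_lit 15), (nat_lit 11), (nat_lit 9), (nat_lit 7), (nat_lit 5), (nat_lit 3), (nat_lit 1), (nat_lit 4), (nat_lit 6), (nat_lit 8), (nat_lit 10), (nat_lit 12), (nat_lit 16), (nat_lit 8), (nat_lit 6), (nat_lit 4)],
  [(nat_lit 17), (nat_lit 3), (nat_lit 5), (nat_lit 7), (nat_lit 15), (nat_lit 9), (nat_lit 7), (nat_lit 5), (nat_lit 3), (nat_lit 1), (nat_lit 4), (nat_lit 6), (nat_lit 8), (nat_lit 10), (nat_lit 16), (nat_lit 8), (nat_lit 6), (nat_lit 4), (nat_lit 18)],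
  [(nat_lit 3), (nat_lit 5), (nat_lit 7), (nat_lit 15), (nat_lit 13), (nat_lit 11), (nat_lit 9), (nat_lit 7), (nat_lit 5), (nat_lit 3), (nat_lit 1), (nat_lit 4), (nat_lit 6), (nat_lit 8), (nat_lit 10), (nat_lit 12), (nat_lit 14), (nat_lit 16), (nat_lit 8), (nat_lit 6), (nat_lit 4)],
  [(nat_lit 9), (nat_lit 7), (nat_lit 15), (nat_lit 11), (nat_lit 9), (nat_lit 7), (nat_lit 3), (nat_lit 5), (nat_lit 1), (nat_lit 3), (nat_lit 1), (nat_lit 4), (nat_lit 2), (nat_lit 6), (nat_lit 4), (nat_lit 8), (nat_lit 10), (nat_lit 12), (nat_lit 16), (nat_lit 8), (nat_lit 10)]]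
noncomputable def wsL : List (List Nat) := [[(nat_lit 5)],
  [(nat_lit 9)],
  [(nat_lit 11)],
  [(nat_lit 13)],
  [(nat_lit 15)],
  [(nat_lit 17)],
  [(nat_lit 59)],
  [(nat_lit 7), (nat_lit 5), (nat_lit 59), (nat_lit 7), (nat_lit 9), (nat_lit 15), (nat_lit 7), (nat_lit 59), (nat_lit 17), (nat_lit 5), (nat_lit 7), (nat_lit 15)]]
noncomputable def cs : List LC := [⟨[(nat_lit 7), (nat_lit 9), (nat_lit 5), (nat_lit 7), (nat_lit 3), (nat_lit 5), (nat_lit 1), (nat_lit 3)], [(nat_lit 11), (nat_lit 13), (nat_lit 9), (nat_lit 11), (nat_lit 7), (nat_lit 9), (nat_lit 5), (nat_lit 7), (nat_lit 3), (nat_lit 5), (nat_lit 1), (nat_lit 3)], [[(nat_lit 7), (nat_lit 9), (nat_lit 5), (nat_lit 7), (nat_lit 3), (nat_lit 5), (nat_lit 1), (nat_lit 3)],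
  [(nat_lit 7), (nat_lit 15), (nat_lit 5), (nat_lit 7), (nat_lit 3), (nat_lit 5), (nat_lit 1), (nat_lit 3)],
  [(nat_lit 17), (nat_lit 7), (nat_lit 15), (nat_lit 5), (nat_lit 7), (nat_lit 3), (nat_lit 5), (nat_lit 1), (nat_lit 3)]]⟩, ⟨[(nat_lit 3), (nat_lit 5), (nat_lit 7), (nat_lit 15), (nat_lit 9), (nat_lit 7), (nat_lit 5), (nat_lit 3)], [(nat_lit 3), (nat_lit 5), (nat_lit 7), (nat_lit 15), (nat_lit 9), (nat_lit 7), (nat_lit 5), (nat_lit 3)], [[(nat_lit 7), (nat_lit 9), (nat_lit 5), (nat_lit 7), (nat_lit 3), (nat_lit 5), (nat_lit 1), (nat_lit 3)],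
  [(nat_lit 17), (nat_lit 3), (nat_lit 5), (nat_lit 7), (nat_lit 15), (nat_lit 11), (nat_lit 9), (nat_lit 7), (nat_lit 5), (nat_lit 3)],
  [(nat_lit 7), (nat_lit 15), (nat_lit 5), (nat_lit 7), (nat_lit 3), (nat_lit 5), (nat_lit 1), (nat_lit 3)]]⟩]
noncomputable def pc : List Nat := [(nat_lit 3), (nat_lit 5), (nat_lit 1), (nat_lit 3)]
noncomputable def py : List Nat := [(nat_lit 7), (nat_lit 15), (nat_lit 9), (nat_lit 7), (nat_lit 3), (nat_lit 5), (nat_lit 1), (nat_lit 3)]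

variable {G : Type*} [Group G] {D : Set G} {E : Dom (Cj G) 3510} {f : ℕ → G} (M : M22 D E f)
include M

noncomputable def a1u : Nat := nat_lit 0
noncomputable def a2u : Nat := (nat_lit 8)
noncomputable def a3u : Nat := (nat_lit 0x800000000000000000000000000000000000000000000000000000000000000000000000000000000000000000000000008)
noncomputable def a4u : Nat := (nat_lit 0x800000000040000000002000000000000000000000000000000000000000000000000000000000000000000000000000008)
noncomputable def a5u : Nat := (nat_lit 0x4000000000000000000400000000000000000000000000000000800000000040000000002000020000000000000000000040000000000000000000000000000000000000000008000800008)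
noncomputable def a6u : Nat := (nat_lit 0x1000004000000000000400000400000000000000000000000000000000800000400040000000003000060000000000000040000040000000000000000000000000000080000000080808000800008)
noncomputable def a7u : Nat := (nat_lit 0x10000040000020020004000044000000044040000008000008000000008000004000420008000030000600040800000000401000410000400400810000000000c00000a00008000e080c040800008)
noncomputable def a8u : Nat := (nat_lit 0x4100000400800200204240008442400800440510002888a00481130400080984740306200088001b18826202e0800080184441000452002400600810003003000c04000b0c088401ec90cde0de1e68)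
theorem a8 : Goal 1 (sv E Q) (Concl (sv E Q) (Ts.map (sv E))) (sv E a8u) :=
  M.goal_done M.hH (T := T1) (by simp [Ts]) [] (by decide +kernel) (by decide +kernel)
noncomputable def a9u : Nat := (nat_lit 0x3ffffffffffffffffffffffffffffffffffffffffffffffffffffffffffffffffffffffffffffffffffffffffffffffffffffffffffffffffffffffffffffffffffffffffffffffffffffffffffffffffffffffffffffe)
theorem a9 : Goal 1 (sv E Q) (Concl (sv E Q) (Ts.map (sv E))) (sv E a9u) :=
  M.goal_absurd [[(nat_lit 3), (nat_lit 5), (nat_lit 1), (nat_lit 3)]] [(nat_lit 9), (nat_lit 11), (nat_lit 7), (nat_lit 9), (nat_lit 5), (nat_lit 7), (nat_lit 3), (nat_lit 5), (nat_lit 1), (nat_lit 3)] [(nat_lit 13), (nat_lit 11), (nat_lit 7), (nat_lit 9), (nat_lit 5), (nat_lit 7), (nat_lit 3), (nat_lit 5), (nat_lit 1), (nat_lit 3)] (by decide +kernel) (by decide +kernel) (by decide +kernel) (by decide +kernel) (by decide +kernel) (by decide +kernel)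
noncomputable def a10u : Nat := (nat_lit 0x80000101809210801000094bc000389a080500004482a0400460c000000c04009a004001008002a0e901470a08000034000f4c040a0c10000040b100510009c01402991000000801c00800a0020a200e0e1c042800008)
theorem a10 : Goal 1 (sv E Q) (Concl (sv E Q) (Ts.map (sv E))) (sv E a10u) :=
  M.goal_done M.hH (T := T2) (by simp [Ts]) [(nat_lit 9), (nat_lit 11), (nat_lit 7), (nat_lit 9), (nat_lit 5), (nat_lit 7), (nat_lit 59), (nat_lit 17), (nat_lit 15), (nat_lit 7), (nat_lit 5)] (by decide +kernel) (by decide +kernel)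
noncomputable def a11u : Nat := (nat_lit 0x30018c10000408001730004000012002800ec5004c000c300c404084800900020c00000000fe0000400042810c4a04304406000508b0800001431840414820444440c14000200318d00008a0204800ae080e240a00008)
theorem a11 : Goal 1 (sv E Q) (Concl (sv E Q) (Ts.map (sv E))) (sv E a11u) :=
  M.goal_done M.hH (T := T0) (by simp [Ts]) [(nat_lit 59), (nat_lit 17), (nat_lit 7), (nat_lit 59), (nat_lit 13), (nat_lit 11), (nat_lit 9), (nat_lit 7), (nat_lit 5)] (by decide +kernel) (by decide +kernel)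
theorem a7 : Goal 1 (sv E Q) (Concl (sv E Q) (Ts.map (sv E))) (sv E a7u) :=
  M.goal_line M.hY (inv_concl _ _) M.hH [[(nat_lit 17), (nat_lit 15), (nat_lit 7), (nat_lit 9), (nat_lit 3), (nat_lit 5), (nat_lit 7), (nat_lit 15), (nat_lit 13), (nat_lit 11), (nat_lit 9), (nat_lit 7), (nat_lit 5), (nat_lit 3)]] [(nat_lit 7), (nat_lit 15), (nat_lit 5), (nat_lit 7), (nat_lit 9), (nat_lit 3), (nat_lit 5), (nat_lit 7), (nat_lit 15), (nat_lit 13), (nat_lit 11), (nat_lit 9), (nat_lit 7), (nat_lit 5), (nat_lit 3)] [[(nat_lit 9), (nat_lit 5), (nat_lit 7), (nat_lit 3), (nat_lit 5), (nat_lit 1), (nat_lit 3)], [(nat_lit 13), (nat_lit 11), (nat_lit 9), (nat_lit 5), (nat_lit 7), (nat_lit 3), (nat_lit 5), (nat_lit 1), (nat_lit 3)], [(nat_lit 7), (nat_lit 15), (nat_lit 17), (nat_lit 3), (nat_lit 5), (nat_lit 7), (nat_lit 15), (nat_lit 9), (nat_lit 7), (nat_lit 5), (nat_lit 3)]] [] (nat_lit 0) [[(nat_lit 11), (nat_lit 7), (nat_lit 9), (nat_lit 5), (nat_lit 7), (nat_lit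 15), (nat_lit 17), (nat_lit 15), (nat_lit 9), (nat_lit 11), (nat_lit 7), (nat_lit 9), (nat_lit 3), (nat_lit 5), (nat_lit 7), (nat_lit 15), (nat_lit 13), (nat_lit 11), (nat_lit 9), (nat_lit 7), (nat_lit 5), (nat_lit 3)], [(nat_lit 7), (nat_lit 15), (nat_lit 5), (nat_lit 7), (nat_lit 9), (nat_lit 3), (nat_lit 5), (nat_lit 7), (nat_lit 15), (nat_lit 13), (nat_lit 11), (nat_lit 9), (nat_lit 7), (nat_lit 5), (nat_lit 3)], [(nat_lit 11), (nat_lit 9), (nat_lit 7), (nat_lit 15), (nat_lit 17), (nat_lit 11), (nat_lit 7), (nat_lit 9), (nat_lit 3), (nat_lit 5), (nat_lit 7), (nat_lit 15), (nat_lit 13), (nat_lit 11), (nat_lit 9), (nat_lit 7), (nat_lit 5), (nat_lit 3)], [(nat_lit 7), (nat_lit 15), (nat_lit 17), (nat_lit 7), (nat_lit 9), (nat_lit 11), (nat_lit 5), (nat_lit 7), (nat_lit 9), (nat_lit 3), (nat_lit 5), (nat_lit 7), (nat_lit 15), (nat_lit 13), (nat_lit 11), (nat_lit 9), (nat_lit 7), (nat_lit 5), (nat_lit 3)]] (by decide +kernel) (by decide +kernel)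 (by decide +kernel) (by decide +kernel) (by decide +kernel) (by decide +kernel) (by decide +kernel)
    (List.forall_mem_cons.2 ⟨M.goal_close [[(nat_lit 5), (nat_lit 7), (nat_lit 3), (nat_lit 5), (nat_lit 1), (nat_lit 3)], [(nat_lit 5), (nat_lit 7), (nat_lit 15), (nat_lit 17), (nat_lit 11), (nat_lit 9), (nat_lit 7), (nat_lit 15), (nat_lit 13), (nat_lit 11), (nat_lit 9), (nat_lit 7), (nat_lit 3), (nat_lit 5), (nat_lit 1), (nat_lit 3)], [(nat_lit 13), (nat_lit 11), (nat_lit 7), (nat_lit 9), (nat_lit 5), (nat_lit 7), (nat_lit 15), (nat_lit 17), (nat_lit 9), (nat_lit 11), (nat_lit 5), (nat_lit 7), (nat_lit 9), (nat_lit 3), (nat_lit 5), (nat_lit 7), (nat_lit 15), (nat_lit 13), (nat_lit 11), (nat_lit 9), (nat_lit 7), (nat_lit 5), (nat_lit 3)], [(nat_lit 13), (nat_lit 11), (nat_lit 7), (nat_lit 9), (nat_lit 5), (nat_lit 7), (nat_lit 15), (nat_lit 17), (nat_lit 9), (nat_lit 11), (nat_lit 7), (nat_lit 9), (nat_lit 3), (nat_lit 5), (nat_lit 7), (nat_lit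 15), (nat_lit 13), (nat_lit 11), (nat_lit 9), (nat_lit 7), (nat_lit 5), (nat_lit 3)], [(nat_lit 15), (nat_lit 17), (nat_lit 7), (nat_lit 15), (nat_lit 5), (nat_lit 7), (nat_lit 3), (nat_lit 5), (nat_lit 1), (nat_lit 3)], [(nat_lit 17), (nat_lit 15), (nat_lit 11), (nat_lit 7), (nat_lit 9), (nat_lit 3), (nat_lit 5), (nat_lit 7), (nat_lit 15), (nat_lit 13), (nat_lit 11), (nat_lit 9), (nat_lit 7), (nat_lit 5), (nat_lit 3)], [(nat_lit 11), (nat_lit 7), (nat_lit 9), (nat_lit 5), (nat_lit 7), (nat_lit 15), (nat_lit 17), (nat_lit 15), (nat_lit 9), (nat_lit 11), (nat_lit 7), (nat_lit 9), (nat_lit 3), (nat_lit 5), (nat_lit 7), (nat_lit 15), (nat_lit 13), (nat_lit 11), (nat_lit 9), (nat_lit 7), (nat_lit 5), (nat_lit 3)]] (nat_lit 1) (a8 M) (by decide +kernel) (by decide +kernel),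
    List.forall_mem_cons.2 ⟨M.goal_close [[(nat_lit 5), (nat_lit 7), (nat_lit 3), (nat_lit 5), (nat_lit 1), (nat_lit 3)], [(nat_lit 5), (nat_lit 7), (nat_lit 15), (nat_lit 17), (nat_lit 11), (nat_lit 9), (nat_lit 7), (nat_lit 15), (nat_lit 13), (nat_lit 11), (nat_lit 9), (nat_lit 7), (nat_lit 3), (nat_lit 5), (nat_lit 1), (nat_lit 3)], [(nat_lit 13), (nat_lit 11), (nat_lit 7), (nat_lit 9), (nat_lit 5), (nat_lit 7), (nat_lit 15), (nat_lit 17), (nat_lit 9), (nat_lit 11), (nat_lit 5), (nat_lit 7), (nat_lit 9), (nat_lit 3), (nat_lit 5), (nat_lit 7), (nat_lit 15), (nat_lit 13), (nat_lit 11), (nat_lit 9), (nat_lit 7), (nat_lit 5), (nat_lit 3)], [(nat_lit 13), (nat_lit 11), (nat_lit 7), (nat_lit 9), (nat_lit 5), (nat_lit 7), (nat_lit 15), (nat_lit 17), (nat_lit 9), (nat_lit 11), (nat_lit 7), (nat_lit 9), (nat_lit 3), (nat_lit 5), (nat_lit 7), (nat_lit 15), (nat_lit 13), (nat_lit 11), (nat_lit 9), (nat_lit 7), (nat_lit 5), (nat_lit 3)], [(nat_lit 15),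 (nat_lit 17), (nat_lit 7), (nat_lit 15), (nat_lit 5), (nat_lit 7), (nat_lit 3), (nat_lit 5), (nat_lit 1), (nat_lit 3)], [(nat_lit 17), (nat_lit 15), (nat_lit 11), (nat_lit 7), (nat_lit 9), (nat_lit 3), (nat_lit 5), (nat_lit 7), (nat_lit 15), (nat_lit 13), (nat_lit 11), (nat_lit 9), (nat_lit 7), (nat_lit 5), (nat_lit 3)], [(nat_lit 7), (nat_lit 15), (nat_lit 5), (nat_lit 7), (nat_lit 9), (nat_lit 3), (nat_lit 5), (nat_lit 7), (nat_lit 15), (nat_lit 13), (nat_lit 11), (nat_lit 9), (nat_lit 7), (nat_lit 5), (nat_lit 3)]] (nat_lit 3) (a9 M) (by decide +kernel) (by decide +kernel),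
    List.forall_mem_cons.2 ⟨M.goal_close [[(nat_lit 5), (nat_lit 7), (nat_lit 3), (nat_lit 5), (nat_lit 1), (nat_lit 3)], [(nat_lit 5), (nat_lit 7), (nat_lit 15), (nat_lit 17), (nat_lit 11), (nat_lit 9), (nat_lit 7), (nat_lit 15), (nat_lit 13), (nat_lit 11), (nat_lit 9), (nat_lit 7), (nat_lit 3), (nat_lit 5), (nat_lit 1), (nat_lit 3)], [(nat_lit 13), (nat_lit 11), (nat_lit 7), (nat_lit 9), (nat_lit 5), (nat_lit 7), (nat_lit 15), (nat_lit 17), (nat_lit 9), (nat_lit 11), (nat_lit 5), (nat_lit 7), (nat_lit 9), (nat_lit 3), (nat_lit 5), (nat_lit 7), (nat_lit 15), (nat_lit 13), (nat_lit 11), (nat_lit 9), (nat_lit 7), (nat_lit 5), (nat_lit 3)], [(nat_lit 13), (nat_lit 11), (nat_lit 7), (nat_lit 9), (nat_lit 5), (nat_lit 7), (nat_lit 15), (nat_lit 17), (nat_lit 9), (nat_lit 11), (nat_lit 7), (nat_lit 9), (nat_lit 3), (nat_lit 5), (nat_lit 7), (nat_lit 15), (nat_lit 13), (nat_lit 11), (nat_lit 9), (nat_lit 7), (nat_lit 5), (nat_lit 3)], [(nat_lit 15),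 (nat_lit 17), (nat_lit 7), (nat_lit 15), (nat_lit 5), (nat_lit 7), (nat_lit 3), (nat_lit 5), (nat_lit 1), (nat_lit 3)], [(nat_lit 17), (nat_lit 15), (nat_lit 11), (nat_lit 7), (nat_lit 9), (nat_lit 3), (nat_lit 5), (nat_lit 7), (nat_lit 15), (nat_lit 13), (nat_lit 11), (nat_lit 9), (nat_lit 7), (nat_lit 5), (nat_lit 3)], [(nat_lit 11), (nat_lit 9), (nat_lit 7), (nat_lit 15), (nat_lit 17), (nat_lit 11), (nat_lit 7), (nat_lit 9), (nat_lit 3), (nat_lit 5), (nat_lit 7), (nat_lit 15), (nat_lit 13), (nat_lit 11), (nat_lit 9), (nat_lit 7), (nat_lit 5), (nat_lit 3)]] (nat_lit 2) (a10 M) (by decide +kernel) (by decide +kernel),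
    List.forall_mem_cons.2 ⟨M.goal_close [[(nat_lit 5), (nat_lit 7), (nat_lit 3), (nat_lit 5), (nat_lit 1), (nat_lit 3)], [(nat_lit 5), (nat_lit 7), (nat_lit 15), (nat_lit 17), (nat_lit 11), (nat_lit 9), (nat_lit 7), (nat_lit 15), (nat_lit 13), (nat_lit 11), (nat_lit 9), (nat_lit 7), (nat_lit 3), (nat_lit 5), (nat_lit 1), (nat_lit 3)], [(nat_lit 13), (nat_lit 11), (nat_lit 7), (nat_lit 9), (nat_lit 5), (nat_lit 7), (nat_lit 15), (nat_lit 17), (nat_lit 9), (nat_lit 11), (nat_lit 5), (nat_lit 7), (nat_lit 9), (nat_lit 3), (nat_lit 5), (nat_lit 7), (nat_lit 15), (nat_lit 13), (nat_lit 11), (nat_lit 9), (nat_lit 7), (nat_lit 5), (nat_lit 3)], [(nat_lit 13), (nat_lit 11), (nat_lit 7), (nat_lit 9), (nat_lit 5), (nat_lit 7), (nat_lit 15), (nat_lit 17), (nat_lit 9), (nat_lit 11), (nat_lit 7), (nat_lit 9), (nat_lit 3), (nat_lit 5), (nat_lit 7), (nat_lit 15), (nat_lit 13), (nat_lit 11), (nat_lit 9), (nat_lit 7), (nat_lit 5), (nat_lit 3)], [(nat_lit 15),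 (nat_lit 17), (nat_lit 7), (nat_lit 15), (nat_lit 5), (nat_lit 7), (nat_lit 3), (nat_lit 5), (nat_lit 1), (nat_lit 3)], [(nat_lit 17), (nat_lit 15), (nat_lit 11), (nat_lit 7), (nat_lit 9), (nat_lit 3), (nat_lit 5), (nat_lit 7), (nat_lit 15), (nat_lit 13), (nat_lit 11), (nat_lit 9), (nat_lit 7), (nat_lit 5), (nat_lit 3)], [(nat_lit 7), (nat_lit 15), (nat_lit 17), (nat_lit 7), (nat_lit 9), (nat_lit 11), (nat_lit 5), (nat_lit 7), (nat_lit 9), (nat_lit 3), (nat_lit 5), (nat_lit 7), (nat_lit 15), (nat_lit 13), (nat_lit 11), (nat_lit 9), (nat_lit 7), (nat_lit 5), (nat_lit 3)]] (nat_lit 2) (a11 M) (by decide +kernel) (by decide +kernel),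
    List.forall_mem_nil _⟩⟩⟩⟩)
noncomputable def a12u : Nat := (nat_lit 0x3ffffffffffffffffffffffffffffffffffffffffffffffffffffffffffffffffffffffffffffffffffffffffffffffffffffffffffffffffffffffffffffffffffffffffffffffffffffffffffffffffffffffffffffe)
theorem a12 : Goal 1 (sv E Q) (Concl (sv E Q) (Ts.map (sv E))) (sv E a12u) :=
  M.goal_absurd [[(nat_lit 3), (nat_lit 5), (nat_lit 1), (nat_lit 3)]] [(nat_lit 9), (nat_lit 11), (nat_lit 7), (nat_lit 9), (nat_lit 5), (nat_lit 7), (nat_lit 3), (nat_lit 5), (nat_lit 1), (nat_lit 3)] [(nat_lit 13), (nat_lit 11), (nat_lit 7), (nat_lit 9), (nat_lit 5), (nat_lit 7), (nat_lit 3), (nat_lit 5), (nat_lit 1), (nat_lit 3)] (by decide +kernel) (by decide +kernel) (by decide +kernel) (by decide +kernel) (by decide +kernel) (by decide +kernel)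
noncomputable def a13u : Nat := (nat_lit 0x3ffffffffffffffffffffffffffffffffffffffffffffffffffffffffffffffffffffffffffffffffffffffffffffffffffffffffffffffffffffffffffffffffffffffffffffffffffffffffffffffffffffffffffffe)
theorem a13 : Goal 1 (sv E Q) (Concl (sv E Q) (Ts.map (sv E))) (sv E a13u) :=
  M.goal_absurd [[(nat_lit 3), (nat_lit 5), (nat_lit 1), (nat_lit 3)]] [(nat_lit 9), (nat_lit 11), (nat_lit 7), (nat_lit 9), (nat_lit 5), (nat_lit 7), (nat_lit 3), (nat_lit 5), (nat_lit 1), (nat_lit 3)] [(nat_lit 13), (nat_lit 11), (nat_lit 7), (nat_lit 9), (nat_lit 5), (nat_lit 7), (nat_lit 3), (nat_lit 5), (nat_lit 1), (nat_lit 3)] (by decide +kernel) (by decide +kernel) (by decide +kernel) (by decide +kernel) (by decide +kernel) (by decide +kernel)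
noncomputable def a14u : Nat := (nat_lit 0x3ffffffffffffffffffffffffffffffffffffffffffffffffffffffffffffffffffffffffffffffffffffffffffffffffffffffffffffffffffffffffffffffffffffffffffffffffffffffffffffffffffffffffffffe)
theorem a14 : Goal 1 (sv E Q) (Concl (sv E Q) (Ts.map (sv E))) (sv E a14u) :=
  M.goal_absurd [[(nat_lit 3), (nat_lit 5), (nat_lit 1), (nat_lit 3)]] [(nat_lit 9), (nat_lit 11), (nat_lit 7), (nat_lit 9), (nat_lit 5), (nat_lit 7), (nat_lit 3), (nat_lit 5), (nat_lit 1), (nat_lit 3)] [(nat_lit 13), (nat_lit 11), (nat_lit 7), (nat_lit 9), (nat_lit 5), (nat_lit 7), (nat_lit 3), (nat_lit 5), (nat_lit 1), (nat_lit 3)] (by decide +kernel) (by decide +kernel) (by decide +kernel) (by decide +kernel) (by decide +kernel) (by decide +kernel)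
theorem a6 : Goal 1 (sv E Q) (Concl (sv E Q) (Ts.map (sv E))) (sv E a6u) :=
  M.goal_line M.hY (inv_concl _ _) M.hH [[(nat_lit 13), (nat_lit 11), (nat_lit 7), (nat_lit 9), (nat_lit 5), (nat_lit 7), (nat_lit 15), (nat_lit 17), (nat_lit 9), (nat_lit 11), (nat_lit 5), (nat_lit 7), (nat_lit 9), (nat_lit 3), (nat_lit 5), (nat_lit 7), (nat_lit 15), (nat_lit 13), (nat_lit 11), (nat_lit 9), (nat_lit 7), (nat_lit 5), (nat_lit 3)]] [(nat_lit 17), (nat_lit 15), (nat_lit 11), (nat_lit 7), (nat_lit 9), (nat_lit 3), (nat_lit 5), (nat_lit 7), (nat_lit 15), (nat_lit 13), (nat_lit 11), (nat_lit 9), (nat_lit 7), (nat_lit 5), (nat_lit 3)] [[(nat_lit 11), (nat_lit 9), (nat_lit 5), (nat_lit 7), (nat_lit 3), (nat_lit 5), (nat_lit 1), (nat_lit 3)], [(nat_lit 17), (nat_lit 15), (nat_lit 13), (nat_lit 11), (nat_lit 9), (nat_lit 7), (nat_lit 3), (nat_lit 5), (nat_lit 1), (nat_lit 3)], [(nat_lit 17), (nat_lit 9), (nat_lit 3), (nat_lit 5), (nat_lit 7), (nat_lit 15), (nat_lit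 13), (nat_lit 11), (nat_lit 9), (nat_lit 7), (nat_lit 5), (nat_lit 3)]] [] (nat_lit 0) [[(nat_lit 17), (nat_lit 15), (nat_lit 11), (nat_lit 7), (nat_lit 9), (nat_lit 3), (nat_lit 5), (nat_lit 7), (nat_lit 15), (nat_lit 13), (nat_lit 11), (nat_lit 9), (nat_lit 7), (nat_lit 5), (nat_lit 3)], [(nat_lit 13), (nat_lit 11), (nat_lit 9), (nat_lit 7), (nat_lit 15), (nat_lit 17), (nat_lit 3), (nat_lit 5), (nat_lit 7), (nat_lit 15), (nat_lit 13), (nat_lit 11), (nat_lit 9), (nat_lit 7), (nat_lit 5), (nat_lit 3)], [(nat_lit 13), (nat_lit 9), (nat_lit 11), (nat_lit 7), (nat_lit 9), (nat_lit 5), (nat_lit 7), (nat_lit 15), (nat_lit 17), (nat_lit 15), (nat_lit 7), (nat_lit 9), (nat_lit 3), (nat_lit 5), (nat_lit 7), (nat_lit 15), (nat_lit 13), (nat_lit 11), (nat_lit 9), (nat_lit 7), (nat_lit 5), (nat_lit 3)], [(nat_lit 17), (nat_lit 15), (nat_lit 11), (nat_lit 7), (nat_lit 9), (nat_lit 5), (nat_lit 7), (nat_lit 15), (nat_lit 17), (nat_lit 11), (nat_lit 7),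 (nat_lit 9), (nat_lit 3), (nat_lit 5), (nat_lit 7), (nat_lit 15), (nat_lit 13), (nat_lit 11), (nat_lit 9), (nat_lit 7), (nat_lit 5), (nat_lit 3)]] (by decide +kernel) (by decide +kernel) (by decide +kernel) (by decide +kernel) (by decide +kernel) (by decide +kernel) (by decide +kernel)
    (List.forall_mem_cons.2 ⟨M.goal_close [[(nat_lit 5), (nat_lit 7), (nat_lit 3), (nat_lit 5), (nat_lit 1), (nat_lit 3)], [(nat_lit 5), (nat_lit 7), (nat_lit 15), (nat_lit 17), (nat_lit 11), (nat_lit 9), (nat_lit 7), (nat_lit 15), (nat_lit 13), (nat_lit 11), (nat_lit 9), (nat_lit 7), (nat_lit 3), (nat_lit 5), (nat_lit 1), (nat_lit 3)], [(nat_lit 13), (nat_lit 11), (nat_lit 7), (nat_lit 9), (nat_lit 5), (nat_lit 7), (nat_lit 15), (nat_lit 17), (nat_lit 9), (nat_lit 11), (nat_lit 5), (nat_lit 7), (nat_lit 9), (nat_lit 3), (nat_lit 5), (nat_lit 7), (nat_lit 15), (nat_lit 13), (nat_lit 11), (nat_lit 9), (nat_lit 7), (nat_lit 5), (nat_lit 3)], [(nat_lit 13), (nat_lit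 11), (nat_lit 7), (nat_lit 9), (nat_lit 5), (nat_lit 7), (nat_lit 15), (nat_lit 17), (nat_lit 9), (nat_lit 11), (nat_lit 7), (nat_lit 9), (nat_lit 3), (nat_lit 5), (nat_lit 7), (nat_lit 15), (nat_lit 13), (nat_lit 11), (nat_lit 9), (nat_lit 7), (nat_lit 5), (nat_lit 3)], [(nat_lit 15), (nat_lit 17), (nat_lit 7), (nat_lit 15), (nat_lit 5), (nat_lit 7), (nat_lit 3), (nat_lit 5), (nat_lit 1), (nat_lit 3)], [(nat_lit 17), (nat_lit 15), (nat_lit 11), (nat_lit 7), (nat_lit 9), (nat_lit 3), (nat_lit 5), (nat_lit 7), (nat_lit 15), (nat_lit 13), (nat_lit 11), (nat_lit 9), (nat_lit 7), (nat_lit 5), (nat_lit 3)]] (nat_lit 2) (a7 M) (by decide +kernel) (by decide +kernel),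
    List.forall_mem_cons.2 ⟨M.goal_close [[(nat_lit 5), (nat_lit 7), (nat_lit 3), (nat_lit 5), (nat_lit 1), (nat_lit 3)], [(nat_lit 5), (nat_lit 7), (nat_lit 15), (nat_lit 17), (nat_lit 11), (nat_lit 9), (nat_lit 7), (nat_lit 15), (nat_lit 13), (nat_lit 11), (nat_lit 9), (nat_lit 7), (nat_lit 3), (nat_lit 5), (nat_lit 1), (nat_lit 3)], [(nat_lit 13), (nat_lit 11), (nat_lit 7), (nat_lit 9), (nat_lit 5), (nat_lit 7), (nat_lit 15), (nat_lit 17), (nat_lit 9), (nat_lit 11), (nat_lit 5), (nat_lit 7), (nat_lit 9), (nat_lit 3), (nat_lit 5), (nat_lit 7), (nat_lit 15), (nat_lit 13), (nat_lit 11), (nat_lit 9), (nat_lit 7), (nat_lit 5), (nat_lit 3)], [(nat_lit 13), (nat_lit 11), (nat_lit 7), (nat_lit 9), (nat_lit 5), (nat_lit 7), (nat_lit 15), (nat_lit 17), (nat_lit 9), (nat_lit 11), (nat_lit 7), (nat_lit 9), (nat_lit 3), (nat_lit 5), (nat_lit 7), (nat_lit 15), (nat_lit 13), (nat_lit 11), (nat_lit 9), (nat_lit 7), (nat_lit 5), (nat_lit 3)], [(nat_lit 15),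 (nat_lit 17), (nat_lit 7), (nat_lit 15), (nat_lit 5), (nat_lit 7), (nat_lit 3), (nat_lit 5), (nat_lit 1), (nat_lit 3)], [(nat_lit 13), (nat_lit 11), (nat_lit 9), (nat_lit 7), (nat_lit 15), (nat_lit 17), (nat_lit 3), (nat_lit 5), (nat_lit 7), (nat_lit 15), (nat_lit 13), (nat_lit 11), (nat_lit 9), (nat_lit 7), (nat_lit 5), (nat_lit 3)]] (nat_lit 4) (a12 M) (by decide +kernel) (by decide +kernel),
    List.forall_mem_cons.2 ⟨M.goal_close [[(nat_lit 5), (nat_lit 7), (nat_lit 3), (nat_lit 5), (nat_lit 1), (nat_lit 3)], [(nat_lit 5), (nat_lit 7), (nat_lit 15), (nat_lit 17), (nat_lit 11), (nat_lit 9), (nat_lit 7), (nat_lit 15), (nat_lit 13), (nat_lit 11), (nat_lit 9), (nat_lit 7), (nat_lit 3), (nat_lit 5), (nat_lit 1), (nat_lit 3)], [(nat_lit 13), (nat_lit 11), (nat_lit 7), (nat_lit 9), (nat_lit 5), (nat_lit 7), (nat_lit 15), (nat_lit 17), (nat_lit 9), (nat_lit 11), (nat_lit 5), (nat_lit 7), (nat_lit 9), (nat_lit 3), (nat_lit 5), (nat_lit 7), (nat_lit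 15), (nat_lit 13), (nat_lit 11), (nat_lit 9), (nat_lit 7), (nat_lit 5), (nat_lit 3)], [(nat_lit 13), (nat_lit 11), (nat_lit 7), (nat_lit 9), (nat_lit 5), (nat_lit 7), (nat_lit 15), (nat_lit 17), (nat_lit 9), (nat_lit 11), (nat_lit 7), (nat_lit 9), (nat_lit 3), (nat_lit 5), (nat_lit 7), (nat_lit 15), (nat_lit 13), (nat_lit 11), (nat_lit 9), (nat_lit 7), (nat_lit 5), (nat_lit 3)], [(nat_lit 15), (nat_lit 17), (nat_lit 7), (nat_lit 15), (nat_lit 5), (nat_lit 7), (nat_lit 3), (nat_lit 5), (nat_lit 1), (nat_lit 3)], [(nat_lit 13), (nat_lit 9), (nat_lit 11), (nat_lit 7), (nat_lit 9), (nat_lit 5), (nat_lit 7), (nat_lit 15), (nat_lit 17), (nat_lit 15), (nat_lit 7), (nat_lit 9), (nat_lit 3), (nat_lit 5), (nat_lit 7), (nat_lit 15), (nat_lit 13), (nat_lit 11), (nat_lit 9), (nat_lit 7), (nat_lit 5), (nat_lit 3)]] (nat_lit 3) (a13 M) (by decide +kernel) (by decide +kernel),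
    List.forall_mem_cons.2 ⟨M.goal_close [[(nat_lit 5), (nat_lit 7), (nat_lit 3), (nat_lit 5), (nat_lit 1), (nat_lit 3)], [(nat_lit 5), (nat_lit 7), (nat_lit 15), (nat_lit 17), (nat_lit 11), (nat_lit 9), (nat_lit 7), (nat_lit 15), (nat_lit 13), (nat_lit 11), (nat_lit 9), (nat_lit 7), (nat_lit 3), (nat_lit 5), (nat_lit 1), (nat_lit 3)], [(nat_lit 13), (nat_lit 11), (nat_lit 7), (nat_lit 9), (nat_lit 5), (nat_lit 7), (nat_lit 15), (nat_lit 17), (nat_lit 9), (nat_lit 11), (nat_lit 5), (nat_lit 7), (nat_lit 9), (nat_lit 3), (nat_lit 5), (nat_lit 7), (nat_lit 15), (nat_lit 13), (nat_lit 11), (nat_lit 9), (nat_lit 7), (nat_lit 5), (nat_lit 3)], [(nat_lit 13), (nat_lit 11), (nat_lit 7), (nat_lit 9), (nat_lit 5), (nat_lit 7), (nat_lit 15), (nat_lit 17), (nat_lit 9), (nat_lit 11), (nat_lit 7), (nat_lit 9), (nat_lit 3), (nat_lit 5), (nat_lit 7), (nat_lit 15), (nat_lit 13), (nat_lit 11), (nat_lit 9), (nat_lit 7), (nat_lit 5), (nat_lit 3)], [(nat_lit 15),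 (nat_lit 17), (nat_lit 7), (nat_lit 15), (nat_lit 5), (nat_lit 7), (nat_lit 3), (nat_lit 5), (nat_lit 1), (nat_lit 3)], [(nat_lit 17), (nat_lit 15), (nat_lit 11), (nat_lit 7), (nat_lit 9), (nat_lit 5), (nat_lit 7), (nat_lit 15), (nat_lit 17), (nat_lit 11), (nat_lit 7), (nat_lit 9), (nat_lit 3), (nat_lit 5), (nat_lit 7), (nat_lit 15), (nat_lit 13), (nat_lit 11), (nat_lit 9), (nat_lit 7), (nat_lit 5), (nat_lit 3)]] (nat_lit 3) (a14 M) (by decide +kernel) (by decide +kernel),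
    List.forall_mem_nil _⟩⟩⟩⟩)
theorem a5 : Goal 1 (sv E Q) (Concl (sv E Q) (Ts.map (sv E))) (sv E a5u) :=
  M.goal_line M.hY (inv_concl _ _) M.hH [[(nat_lit 5), (nat_lit 7), (nat_lit 15), (nat_lit 17), (nat_lit 11), (nat_lit 9), (nat_lit 7), (nat_lit 15), (nat_lit 13), (nat_lit 11), (nat_lit 9), (nat_lit 7), (nat_lit 3), (nat_lit 5), (nat_lit 1), (nat_lit 3)]] [(nat_lit 9), (nat_lit 7), (nat_lit 3), (nat_lit 5), (nat_lit 1), (nat_lit 3)] [[(nat_lit 5), (nat_lit 7), (nat_lit 3), (nat_lit 5), (nat_lit 1), (nat_lit 3)], [(nat_lit 11), (nat_lit 9), (nat_lit 5), (nat_lit 7), (nat_lit 3), (nat_lit 5), (nat_lit 1), (nat_lit 3)], [(nat_lit 9), (nat_lit 7), (nat_lit 3), (nat_lit 5), (nat_lit 1), (nat_lit 3)]] [[(nat_lit 9), (nat_lit 7), (nat_lit 5), (nat_lit 11), (nat_lit 9), (nat_lit 15), (nat_lit 17), (nat_lit 59), (nat_lit 7), (nat_lit 15), (nat_lit 17), (nat_lit 5), (nat_lit 7), (nat_lit 15), (nat_lit 9), (nat_lit 11), (nat_lit 7), (nat_lit 9)],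 [(nat_lit 9), (nat_lit 7), (nat_lit 5), (nat_lit 11), (nat_lit 9), (nat_lit 15), (nat_lit 7), (nat_lit 17), (nat_lit 15), (nat_lit 7), (nat_lit 59), (nat_lit 17), (nat_lit 7), (nat_lit 15), (nat_lit 9), (nat_lit 11), (nat_lit 7), (nat_lit 9)]] (nat_lit 1) [[(nat_lit 15), (nat_lit 17), (nat_lit 7), (nat_lit 15), (nat_lit 5), (nat_lit 7), (nat_lit 3), (nat_lit 5), (nat_lit 1), (nat_lit 3)]] (by decide +kernel) (by decide +kernel) (by decide +kernel) (by decide +kernel) (by decide +kernel) (by decide +kernel) (by decide +kernel)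
    (List.forall_mem_cons.2 ⟨M.goal_close [[(nat_lit 5), (nat_lit 7), (nat_lit 3), (nat_lit 5), (nat_lit 1), (nat_lit 3)], [(nat_lit 5), (nat_lit 7), (nat_lit 15), (nat_lit 17), (nat_lit 11), (nat_lit 9), (nat_lit 7), (nat_lit 15), (nat_lit 13), (nat_lit 11), (nat_lit 9), (nat_lit 7), (nat_lit 3), (nat_lit 5), (nat_lit 1), (nat_lit 3)], [(nat_lit 13), (nat_lit 11), (nat_lit 7), (nat_lit 9), (nat_lit 5), (nat_lit 7), (nat_lit 15), (nat_lit 17), (nat_lit 9), (nat_lit 11), (nat_lit 5), (nat_lit 7), (nat_lit 9), (nat_lit 3), (nat_lit 5), (nat_lit 7), (nat_lit 15), (nat_lit 13), (nat_lit 11), (nat_lit 9), (nat_lit 7), (nat_lit 5), (nat_lit 3)], [(nat_lit 13), (nat_lit 11), (nat_lit 7), (nat_lit 9), (nat_lit 5), (nat_lit 7), (nat_lit 15), (nat_lit 17), (nat_lit 9), (nat_lit 11), (nat_lit 7), (nat_lit 9), (nat_lit 3), (nat_lit 5), (nat_lit 7), (nat_lit 15), (nat_lit 13), (nat_lit 11), (nat_lit 9), (nat_lit 7), (nat_lit 5), (nat_lit 3)], [(nat_lit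 15), (nat_lit 17), (nat_lit 7), (nat_lit 15), (nat_lit 5), (nat_lit 7), (nat_lit 3), (nat_lit 5), (nat_lit 1), (nat_lit 3)]] (nat_lit 1) (a6 M) (by decide +kernel) (by decide +kernel),
    List.forall_mem_nil _⟩)
theorem a4 : Goal 1 (sv E Q) (Concl (sv E Q) (Ts.map (sv E))) (sv E a4u) :=
  M.goal_line M.hY (inv_concl _ _) M.hH [[(nat_lit 5), (nat_lit 7), (nat_lit 15), (nat_lit 17), (nat_lit 11), (nat_lit 9), (nat_lit 7), (nat_lit 15), (nat_lit 13), (nat_lit 11), (nat_lit 9), (nat_lit 7), (nat_lit 3), (nat_lit 5), (nat_lit 1), (nat_lit 3)]] [(nat_lit 13), (nat_lit 11), (nat_lit 7), (nat_lit 9), (nat_lit 5), (nat_lit 7), (nat_lit 15), (nat_lit 17), (nat_lit 15), (nat_lit 7), (nat_lit 9), (nat_lit 3), (nat_lit 5), (nat_lit 7), (nat_lit 15), (nat_lit 13), (nat_lit 11), (nat_lit 9), (nat_lit 7), (nat_lit 5), (nat_lit 3)] [[(nat_lit 15), (nat_lit 5), (nat_lit 7), (nat_lit 3), (nat_lit 5), (nat_lit 1), (nat_lit 3)], [(nat_lit 5), (nat_lit 7), (nat_lit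 15), (nat_lit 17), (nat_lit 11), (nat_lit 9), (nat_lit 3), (nat_lit 5), (nat_lit 7), (nat_lit 15), (nat_lit 13), (nat_lit 11), (nat_lit 9), (nat_lit 7), (nat_lit 5), (nat_lit 3)], [(nat_lit 11), (nat_lit 9), (nat_lit 5), (nat_lit 7), (nat_lit 3), (nat_lit 5), (nat_lit 1), (nat_lit 3)]] [[(nat_lit 5), (nat_lit 7), (nat_lit 59), (nat_lit 7), (nat_lit 5), (nat_lit 9), (nat_lit 7), (nat_lit 17), (nat_lit 59), (nat_lit 7), (nat_lit 9), (nat_lit 5), (nat_lit 7), (nat_lit 15), (nat_lit 17), (nat_lit 59), (nat_lit 7), (nat_lit 5)], [(nat_lit 5), (nat_lit 7), (nat_lit 5), (nat_lit 9), (nat_lit 7), (nat_lit 5), (nat_lit 15), (nat_lit 7), (nat_lit 9), (nat_lit 59), (nat_lit 7), (nat_lit 15), (nat_lit 17), (nat_lit 15), (nat_lit 7), (nat_lit 59), (nat_lit 9), (nat_lit 7), (nat_lit 15), (nat_lit 17)]] (nat_lit 1) [[(nat_lit 13), (nat_lit 11), (nat_lit 7), (nat_lit 9), (nat_lit 5), (nat_lit 7), (nat_lit 15), (nat_lit 17), (nat_lit 9), (nat_lit 11), (nat_lit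 7), (nat_lit 9), (nat_lit 3), (nat_lit 5), (nat_lit 7), (nat_lit 15), (nat_lit 13), (nat_lit 11), (nat_lit 9), (nat_lit 7), (nat_lit 5), (nat_lit 3)]] (by decide +kernel) (by decide +kernel) (by decide +kernel) (by decide +kernel) (by decide +kernel) (by decide +kernel) (by decide +kernel)
    (List.forall_mem_cons.2 ⟨M.goal_close [[(nat_lit 5), (nat_lit 7), (nat_lit 3), (nat_lit 5), (nat_lit 1), (nat_lit 3)], [(nat_lit 5), (nat_lit 7), (nat_lit 15), (nat_lit 17), (nat_lit 11), (nat_lit 9), (nat_lit 7), (nat_lit 15), (nat_lit 13), (nat_lit 11), (nat_lit 9), (nat_lit 7), (nat_lit 3), (nat_lit 5), (nat_lit 1), (nat_lit 3)], [(nat_lit 13), (nat_lit 11), (nat_lit 7), (nat_lit 9), (nat_lit 5), (nat_lit 7), (nat_lit 15), (nat_lit 17), (nat_lit 9), (nat_lit 11), (nat_lit 5), (nat_lit 7), (nat_lit 9), (nat_lit 3), (nat_lit 5), (nat_lit 7), (nat_lit 15), (nat_lit 13), (nat_lit 11), (nat_lit 9), (nat_lit 7), (nat_lit 5), (nat_lit 3)], [(nat_lit 13),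 (nat_lit 11), (nat_lit 7), (nat_lit 9), (nat_lit 5), (nat_lit 7), (nat_lit 15), (nat_lit 17), (nat_lit 9), (nat_lit 11), (nat_lit 7), (nat_lit 9), (nat_lit 3), (nat_lit 5), (nat_lit 7), (nat_lit 15), (nat_lit 13), (nat_lit 11), (nat_lit 9), (nat_lit 7), (nat_lit 5), (nat_lit 3)]] (nat_lit 1) (a5 M) (by decide +kernel) (by decide +kernel),
    List.forall_mem_nil _⟩)
theorem a3 : Goal 1 (sv E Q) (Concl (sv E Q) (Ts.map (sv E))) (sv E a3u) :=
  M.goal_line M.hY (inv_concl _ _) M.hH [[(nat_lit 5), (nat_lit 7), (nat_lit 15), (nat_lit 17), (nat_lit 11), (nat_lit 9), (nat_lit 7), (nat_lit 15), (nat_lit 13), (nat_lit 11), (nat_lit 9), (nat_lit 7), (nat_lit 3), (nat_lit 5), (nat_lit 1), (nat_lit 3)]] [(nat_lit 15), (nat_lit 11), (nat_lit 7), (nat_lit 9), (nat_lit 5), (nat_lit 7), (nat_lit 15), (nat_lit 17), (nat_lit 7), (nat_lit 9), (nat_lit 3), (nat_lit 5), (nat_lit 7), (nat_lit 15), (nat_lit 13), (nat_lit 11), (nat_lit 9), (nat_lit 7), (nat_lit 5),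 (nat_lit 3)] [[(nat_lit 11), (nat_lit 9), (nat_lit 5), (nat_lit 7), (nat_lit 3), (nat_lit 5), (nat_lit 1), (nat_lit 3)], [(nat_lit 5), (nat_lit 7), (nat_lit 15), (nat_lit 17), (nat_lit 11), (nat_lit 7), (nat_lit 9), (nat_lit 3), (nat_lit 5), (nat_lit 7), (nat_lit 15), (nat_lit 13), (nat_lit 11), (nat_lit 9), (nat_lit 7), (nat_lit 5), (nat_lit 3)], [(nat_lit 17), (nat_lit 15), (nat_lit 5), (nat_lit 7), (nat_lit 3), (nat_lit 5), (nat_lit 1), (nat_lit 3)]] [[(nat_lit 5), (nat_lit 7), (nat_lit 9), (nat_lit 17), (nat_lit 7), (nat_lit 5)], [(nat_lit 9), (nat_lit 7), (nat_lit 5), (nat_lit 15), (nat_lit 17), (nat_lit 59), (nat_lit 17), (nat_lit 15), (nat_lit 7), (nat_lit 9)]] (nat_lit 1) [[(nat_lit 13), (nat_lit 11), (nat_lit 7), (nat_lit 9), (nat_lit 5), (nat_lit 7), (nat_lit 15), (nat_lit 17), (nat_lit 9), (nat_lit 11), (nat_lit 5), (nat_lit 7), (nat_lit 9), (nat_lit 3), (nat_lit 5), (nat_lit 7), (nat_lit 15), (nat_lit 13), (nat_lit 11), (nat_lit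 9), (nat_lit 7), (nat_lit 5), (nat_lit 3)]] (by decide +kernel) (by decide +kernel) (by decide +kernel) (by decide +kernel) (by decide +kernel) (by decide +kernel) (by decide +kernel)
    (List.forall_mem_cons.2 ⟨M.goal_close [[(nat_lit 5), (nat_lit 7), (nat_lit 3), (nat_lit 5), (nat_lit 1), (nat_lit 3)], [(nat_lit 5), (nat_lit 7), (nat_lit 15), (nat_lit 17), (nat_lit 11), (nat_lit 9), (nat_lit 7), (nat_lit 15), (nat_lit 13), (nat_lit 11), (nat_lit 9), (nat_lit 7), (nat_lit 3), (nat_lit 5), (nat_lit 1), (nat_lit 3)], [(nat_lit 13), (nat_lit 11), (nat_lit 7), (nat_lit 9), (nat_lit 5), (nat_lit 7), (nat_lit 15), (nat_lit 17), (nat_lit 9), (nat_lit 11), (nat_lit 5), (nat_lit 7), (nat_lit 9), (nat_lit 3), (nat_lit 5), (nat_lit 7), (nat_lit 15), (nat_lit 13), (nat_lit 11), (nat_lit 9), (nat_lit 7), (nat_lit 5), (nat_lit 3)]] (nat_lit 1) (a4 M) (by decide +kernel) (by decide +kernel),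
    List.forall_mem_nil _⟩)
theorem a2 : Goal 1 (sv E Q) (Concl (sv E Q) (Ts.map (sv E))) (sv E a2u) :=
  M.goal_line M.hY (inv_concl _ _) M.hH [[(nat_lit 5), (nat_lit 7), (nat_lit 3), (nat_lit 5), (nat_lit 1), (nat_lit 3)]] [(nat_lit 15), (nat_lit 17), (nat_lit 7), (nat_lit 15), (nat_lit 9), (nat_lit 7), (nat_lit 3), (nat_lit 5), (nat_lit 1), (nat_lit 3)] [[(nat_lit 9), (nat_lit 7), (nat_lit 3), (nat_lit 5), (nat_lit 1), (nat_lit 3)], [(nat_lit 15), (nat_lit 11), (nat_lit 9), (nat_lit 5), (nat_lit 7), (nat_lit 3), (nat_lit 5), (nat_lit 1), (nat_lit 3)], [(nat_lit 17), (nat_lit 15), (nat_lit 11), (nat_lit 9), (nat_lit 5), (nat_lit 7), (nat_lit 3), (nat_lit 5), (nat_lit 1), (nat_lit 3)]] [[(nat_lit 59), (nat_lit 7), (nat_lit 5), (nat_lit 15), (nat_lit 7), (nat_lit 59)], [(nat_lit 5), (nat_lit 7), (nat_lit 15), (nat_lit 59), (nat_lit 7), (nat_lit 5)]] (nat_lit 1) [[(nat_lit 5), (nat_lit 7), (nat_lit 15), (nat_lit 17), (nat_lit 11), (nat_lit 9),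 (nat_lit 7), (nat_lit 15), (nat_lit 13), (nat_lit 11), (nat_lit 9), (nat_lit 7), (nat_lit 3), (nat_lit 5), (nat_lit 1), (nat_lit 3)]] (by decide +kernel) (by decide +kernel) (by decide +kernel) (by decide +kernel) (by decide +kernel) (by decide +kernel) (by decide +kernel)
    (List.forall_mem_cons.2 ⟨M.goal_close [[(nat_lit 5), (nat_lit 7), (nat_lit 3), (nat_lit 5), (nat_lit 1), (nat_lit 3)], [(nat_lit 5), (nat_lit 7), (nat_lit 15), (nat_lit 17), (nat_lit 11), (nat_lit 9), (nat_lit 7), (nat_lit 15), (nat_lit 13), (nat_lit 11), (nat_lit 9), (nat_lit 7), (nat_lit 3), (nat_lit 5), (nat_lit 1), (nat_lit 3)]] (nat_lit 0) (a3 M) (by decide +kernel) (by decide +kernel),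
    List.forall_mem_nil _⟩)
theorem a1 : Goal 1 (sv E Q) (Concl (sv E Q) (Ts.map (sv E))) (sv E a1u) :=
  M.goal_pt M.hY (inv_concl _ _) M.hH [] [[(nat_lit 5)], [(nat_lit 7)], [(nat_lit 9)], [(nat_lit 11)], [(nat_lit 13)], [(nat_lit 15)], [(nat_lit 17)], [(nat_lit 59)]] (nat_lit 4) [[(nat_lit 5), (nat_lit 7), (nat_lit 3), (nat_lit 5), (nat_lit 1), (nat_lit 3)]] (by decide +kernel) (by decide +kernel) (by decide +kernel) (by decide +kernel) (by decide +kernel)
    (List.forall_mem_cons.2 ⟨M.goal_close [[(nat_lit 5), (nat_lit 7), (nat_lit 3), (nat_lit 5), (nat_lit 1), (nat_lit 3)]] (nat_lit 0) (a2 M) (by decide +kernel) (by decide +kernel),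
    List.forall_mem_nil _⟩)

theorem M22.c21 : Goal 1 (sv E Q) (Concl (sv E Q) (Ts.map (sv E))) ∅ := (a1 M).mono (sv_zero E).le

theorem M22.norm21 : Norm 1 (sv E Q) (sv E T0) := by
  refine norm_of_goal M.hY M.c21 fun U hU => ?_
  simp only [Ts, List.map_cons, List.map_nil, List.mem_cons, List.not_mem_nil, or_false] at hU
  rcases hU with rfl | rfl | rfl
  · exact ⟨id, QIso.refl M.hY, fun _ h => h⟩
  · obtain ⟨θ, h1, h2⟩ := M.exists_aut (k := 12) (by decide) M.hY al1 (by decide +kernel) (by decide +kernel)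
      (ps := PX) (ps' := P1) (by decide +kernel) (r := 4) (by decide +kernel)
    exact ⟨θ, h1, fun x hx => sv_mono E (by decide +kernel) (h2 T0 x hx)⟩
  · obtain ⟨θ, h1, h2⟩ := M.exists_aut (k := 12) (by decide) M.hY al2 (by decide +kernel) (by decide +kernel)
      (ps := PX) (ps' := P2) (by decide +kernel) (r := 4) (by decide +kernel)
    exact ⟨θ, h1, fun x hx => sv_mono E (by decide +kernel) (h2 T0 x hx)⟩

theorem M22.all21 : Goal 1 (sv E Q) (fun _ => False) (sv E Q) :=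
  M.goal_absurd [[(nat_lit 3), (nat_lit 5), (nat_lit 1), (nat_lit 3)]] [(nat_lit 9), (nat_lit 11), (nat_lit 7), (nat_lit 9), (nat_lit 5), (nat_lit 7), (nat_lit 3), (nat_lit 5), (nat_lit 1), (nat_lit 3)] [(nat_lit 13), (nat_lit 11), (nat_lit 7), (nat_lit 9), (nat_lit 5), (nat_lit 7), (nat_lit 3), (nat_lit 5), (nat_lit 1), (nat_lit 3)] (by decide +kernel) (by decide +kernel) (by decide +kernel) (by decide +kernel) (by decide +kernel) (by decide +kernel)

theorem M22.exc : Goal 1 (sv E Q) (fun _ => False) (sv E (Nat.lor T0 (pw N pc))) :=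
  M.goal_close [[(nat_lit 5), (nat_lit 7), (nat_lit 3), (nat_lit 5), (nat_lit 1), (nat_lit 3)], [(nat_lit 7), (nat_lit 9), (nat_lit 5), (nat_lit 7), (nat_lit 3), (nat_lit 5), (nat_lit 1), (nat_lit 3)], [(nat_lit 9), (nat_lit 11), (nat_lit 7), (nat_lit 9), (nat_lit 5), (nat_lit 7), (nat_lit 3), (nat_lit 5), (nat_lit 1), (nat_lit 3)], [(nat_lit 11), (nat_lit 13), (nat_lit 9), (nat_lit 11), (nat_lit 7), (nat_lit 9), (nat_lit 5), (nat_lit 7), (nat_lit 3), (nat_lit 5), (nat_lit 1), (nat_lit 3)], [(nat_lit 7), (nat_lit 15), (nat_lit 5), (nat_lit 7), (nat_lit 3), (nat_lit 5), (nat_lit 1), (nat_lit 3)], [(nat_lit 15), (nat_lit 17), (nat_lit 7), (nat_lit 15), (nat_lit 5), (nat_lit 7), (nat_lit 3), (nat_lit 5), (nat_lit 1), (nat_lit 3)], [(nat_lit 7), (nat_lit 9), (nat_lit 11), (nat_lit 5), (nat_lit 7), (nat_lit 9), (nat_lit 3), (nat_lit 5), (nat_lit 7), (nat_lit 15), (nat_lit 13), (nat_lit 11), (nat_lit 9), (nat_lit 7), (nat_lit 5), (nat_lit 3)], [(nat_lit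 3), (nat_lit 5), (nat_lit 1), (nat_lit 3)]] 3 M.all21 (by decide +kernel) (by decide +kernel)

theorem M22.exy : Goal 1 (sv E Q) (fun _ => False) (sv E (Nat.lor T0 (pw N py))) :=
  M.goal_close [[(nat_lit 5), (nat_lit 7), (nat_lit 3), (nat_lit 5), (nat_lit 1), (nat_lit 3)], [(nat_lit 7), (nat_lit 9), (nat_lit 5), (nat_lit 7), (nat_lit 3), (nat_lit 5), (nat_lit 1), (nat_lit 3)], [(nat_lit 9), (nat_lit 11), (nat_lit 7), (nat_lit 9), (nat_lit 5), (nat_lit 7), (nat_lit 3), (nat_lit 5), (nat_lit 1), (nat_lit 3)], [(nat_lit 11), (nat_lit 13), (nat_lit 9), (nat_lit 11), (nat_lit 7), (nat_lit 9), (nat_lit 5), (nat_lit 7), (nat_lit 3), (nat_lit 5), (nat_lit 1), (nat_lit 3)], [(nat_lit 7), (nat_lit 15), (nat_lit 5), (nat_lit 7), (nat_lit 3), (nat_lit 5), (nat_lit 1), (nat_lit 3)], [(nat_lit 15), (nat_lit 17), (nat_lit 7), (nat_lit 15), (nat_lit 5), (nat_lit 7), (nat_lit 3), (nat_lit 5), (nat_lit 1), (nat_lit 3)], [(nat_lit 7), (nat_lit 9), (nat_lit 11),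 (nat_lit 5), (nat_lit 7), (nat_lit 9), (nat_lit 3), (nat_lit 5), (nat_lit 7), (nat_lit 15), (nat_lit 13), (nat_lit 11), (nat_lit 9), (nat_lit 7), (nat_lit 5), (nat_lit 3)], [(nat_lit 7), (nat_lit 15), (nat_lit 9), (nat_lit 7), (nat_lit 3), (nat_lit 5), (nat_lit 1), (nat_lit 3)]] 2 M.all21 (by decide +kernel) (by decide +kernel)

theorem M22.lp21 : LP 0 (sv E Q) :=
  M.lp_of M.hY M.hH [(nat_lit 3), (nat_lit 5), (nat_lit 1), (nat_lit 3)] [(nat_lit 5), (nat_lit 7), (nat_lit 3), (nat_lit 5), (nat_lit 1), (nat_lit 3)] wsL 4 3 (by decide +kernel) (by decide +kernel) (by decide +kernel) (by decide +kernel) (by decide +kernel)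
    (M.lineCond wsU 4 cs (by decide +kernel) (by decide +kernel) (by decide +kernel) (by decide +kernel))

end CF.Fisch.F22
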