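import Cfsg.Agent.Fisch.F22.Tb
import Cfsg.Agent.Fisch.F22.I8
import Cfsg.Agent.Fisch.FA.L2

set_option autoImplicit false
set_option maxRecDepth 1000000
set_option maxHeartbeats 0
set_option Elab.async false

namespace CF.Fisch.F22.A2

open CF.Comp CF.Fisch CF.Fisch.F22 Subgroup
open scoped Pointwise

noncomputable def c_ps : List (List Nat) := [[(nat_lit 5), (nat_lit 3)],
  [(nat_lit 7), (nat_lit 39), (nat_lit 3)],
  [(nat_lit 19), (nat_lit 39), (nat_lit 3)],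
  [(nat_lit 21), (nat_lit 53), (nat_lit 3)],
  [(nat_lit 43), (nat_lit 50), (nat_lit 1), (nat_lit 3)],
  [(nat_lit 19), (nat_lit 11), (nat_lit 39), (nat_lit 3)],
  [(nat_lit 49), (nat_lit 44), (nat_lit 1), (nat_lit 3)]]
noncomputable def c_hs : List (List Nat) := [[(nat_lit 3)],
  [(nat_lit 5), (nat_lit 3), (nat_lit 1), (nat_lit 3), (nat_lit 5)],
  [(nat_lit 7), (nat_lit 39), (nat_lit 3), (nat_lit 1), (nat_lit 3), (nat_lit 40), (nat_lit 7)],
  [(nat_lit 28), (nat_lit 52), (nat_lit 3), (nat_lit 51), (nat_lit 27)],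
  [(nat_lit 21), (nat_lit 53), (nat_lit 3), (nat_lit 1), (nat_lit 3), (nat_lit 53), (nat_lit 22)],
  [(nat_lit 43), (nat_lit 50), (nat_lit 3), (nat_lit 49), (nat_lit 44)],
  [(nat_lit 27), (nat_lit 48), (nat_lit 39), (nat_lit 3), (nat_lit 40), (nat_lit 47), (nat_lit 28)],
  [(nat_lit 49), (nat_lit 44), (nat_lit 3), (nat_lit 43), (nat_lit 50)]]
noncomputable def c_N_0 : Net := Net.nil
noncomputable def c_N_1 : Net := (Net.cons (nat_lit 1) (nat_lit 0x1440400040001000) (Net.cons (nat_lit 2) (nat_lit 0x3000002000) (Net.cons (nat_lit 4) (nat_lit 0x10c000c00070300) (Net.cons (nat_lit 8) (nat_lit 0xc00000000) (Net.cons (nat_lit 16) (nat_lit 32768) (Net.cons (nat_lit 32) (nat_lit 35840) (Net.cons (nat_lit 16) (nat_lit 0x40000a070) (Net.cons (nat_lit 8) (nat_lit 0x18000c00000003) (Net.cons (nat_lit 4) (nat_lit 0x30e000c00070300) (Net.cons (nat_lit 2) (nat_lit 0x1000003010002000) (Net.cons (nat_lit 1) (nat_lit 0x1440400040001000)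 Net.nil)))))))))))
noncomputable def c_N_2 : Net := (Net.cons (nat_lit 1) (nat_lit 0x1400015050000) (Net.cons (nat_lit 2) (nat_lit 0x1001003130200) (Net.cons (nat_lit 4) (nat_lit 134676480) (Net.cons (nat_lit 8) (nat_lit 0xc0011009c0000) (Net.cons (nat_lit 16) (nat_lit 0x100000000000) (Net.cons (nat_lit 32) (nat_lit 268435720) (Net.cons (nat_lit 16) (nat_lit 0x1c00000008f4) (Net.cons (nat_lit 8) (nat_lit 0xc0011009d0000) (Net.cons (nat_lit 4) (nat_lit 134676480) (Net.cons (nat_lit 2) (nat_lit 0x131101003130200) (Net.cons (nat_lit 1) (nat_lit 0x1400015050000) Net.nil)))))))))))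
noncomputable def c_N_3 : Net := (Net.cons (nat_lit 1) (nat_lit 0x1004400011011000) (Net.cons (nat_lit 2) (nat_lit 0x1001030021210000) (Net.cons (nat_lit 4) (nat_lit 0x500000105010200) (Net.cons (nat_lit 8) (nat_lit 0x7008000400000) (Net.cons (nat_lit 16) (nat_lit 0x8000000000) (Net.cons (nat_lit 32) (nat_lit 8391696) (Net.cons (nat_lit 16) (nat_lit 0x738400000145) (Net.cons (nat_lit 8) (nat_lit 0x7008000600002) (Net.cons (nat_lit 4) (nat_lit 0x500000105010200) (Net.cons (nat_lit 2) (nat_lit 0x1101130021210000) (Net.cons (nat_lit 1) (nat_lit 0x1004410011011400) Net.nil)))))))))))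
noncomputable def c_N_4 : Net := (Net.cons (nat_lit 1) (nat_lit 0x500044100400000) (Net.cons (nat_lit 2) (nat_lit 0x200100030000000) (Net.cons (nat_lit 4) (nat_lit 0x108010c00000000) (Net.cons (nat_lit 8) (nat_lit 0x800a800000000) (Net.cons (nat_lit 16) (nat_lit 0x86000000000) (Net.cons (nat_lit 32) (nat_lit 2086666240) (Net.cons (nat_lit 16) (nat_lit 0x9e900000000) (Net.cons (nat_lit 8) (nat_lit 0xa00a800000000) (Net.cons (nat_lit 4) (nat_lit 0x108050c00080000) (Net.cons (nat_lit 2) (nat_lit 0x230100030000000) (Net.cons (nat_lit 1) (nat_lit 0x550044100400000) Net.nil)))))))))))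
noncomputable def c_N_5 : Net := (Net.cons (nat_lit 1) (nat_lit 0x510410141004000) (Net.cons (nat_lit 2) (nat_lit 0x202011101002000) (Net.cons (nat_lit 4) (nat_lit 0x701040004080c00) (Net.cons (nat_lit 8) (nat_lit 0x19004000000000) (Net.cons (nat_lit 16) (nat_lit 0x40000000000) (Net.cons (nat_lit 32) (nat_lit 84410594) (Net.cons (nat_lit 16) (nat_lit 0x41000004000) (Net.cons (nat_lit 8) (nat_lit 0x5b004100000018) (Net.cons (nat_lit 4) (nat_lit 0x70104000c080e00) (Net.cons (nat_lit 2) (nat_lit 0x202013101002020) (Net.cons (nat_lit 1) (nat_lit 0x510410141004000) Net.nil)))))))))))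
noncomputable def c_N_6 : Net := (Net.cons (nat_lit 1) (nat_lit 0x414004000005040) (Net.cons (nat_lit 2) (nat_lit 0x200001002200100) (Net.cons (nat_lit 4) (nat_lit 0x204080200000400) (Net.cons (nat_lit 8) (nat_lit 0x4800c800010000) (Net.cons (nat_lit 16) (nat_lit 32768) (Net.cons (nat_lit 32) (nat_lit 1115736592) (Net.cons (nat_lit 16) (nat_lit 0x202800008001) (Net.cons (nat_lit 8) (nat_lit 0x6800e8000100a4) (Net.cons (nat_lit 4) (nat_lit 0x204080200000400) (Net.cons (nat_lit 2) (nat_lit 0x200001002200100) (Net.cons (nat_lit 1) (nat_lit 0x415004000005040) Net.nil)))))))))))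
noncomputable def c_N_7 : Net := (Net.cons (nat_lit 1) (nat_lit 0x1000140444000000) (Net.cons (nat_lit 2) (nat_lit 0x102200100210000) (Net.cons (nat_lit 4) (nat_lit 0x4010009020000) (Net.cons (nat_lit 8) (nat_lit 0x48004000c00000) (Net.cons (nat_lit 16) (nat_lit 0xe0000000000) (Net.cons (nat_lit 32) (nat_lit 1610632960) (Net.cons (nat_lit 16) (nat_lit 0xe31000000c0) (Net.cons (nat_lit 8) (nat_lit 0x48004000c30000) (Net.cons (nat_lit 4) (nat_lit 0x4030009020000) (Net.cons (nat_lit 2) (nat_lit 0x102210100210000) (Net.cons (nat_lit 1) (nat_lit 0x1000140444000000) Net.nil)))))))))))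
noncomputable def c_N : List Net := [c_N_0, c_N_1, c_N_2, c_N_3, c_N_4, c_N_5, c_N_6, c_N_7]
noncomputable def c_pt : BT Nat := (BT.leaf (nat_lit 0xdb6a759038dc8d47dc7bb7aa74764f63863561f5db59d54654453f53a5354d44b64a648e47c41440a4033f53f33f13ee3ab39e39235a35935034f34e34c33e30b3042fd2f12ef2e82da2d92bd2b81471450f207d07004c04a04704404302e007))
noncomputable def c_pi : Nat → Nat := BT.record c_pt (nat_lit 10) (nat_lit 1023) (nat_lit 12) (nat_lit 4095)
noncomputable def c_t0 : BT Nat := (BT.leaf (nat_lit 0x3ef7cefae78df6d74cf2c70beeb6caeaa689e69648e28607de75c6da6585d65544d24503ce34c2ca2481c61440c2040))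
noncomputable def c_t1 : BT Nat := (BT.leaf (nat_lit 0x3ef7cefae78df6d74cf2c70beeb6caeaa689e69648e28607de75c6da6585d65544d24503ce34c2ca2481c61440c2040))
noncomputable def c_t2 : BT Nat := (BT.leaf (nat_lit 0x3ef7cefae78df6d74cf2c70beeb6caeaa689e69648e28607de75c6da6585d65544d24503ce34c2ca2481c61440c2040))
noncomputable def c_t3 : BT Nat := (BT.leaf (nat_lit 0x3dfb9ef6f34abac78cf2d70bdeb6caf7a689e62ca8e286072e25f6da6585d65544c614404e00c9647481d24500c23cd))
noncomputable def c_t4 : BT Nat := (BT.leaf (nat_lit 0x3dfb9ef6f34abac78cf2d70bdeb6caf7a689e62ca8e286072e25f6da6585d65544c614404e00c9647481d24500c23cd))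
noncomputable def c_t5 : BT Nat := (BT.leaf (nat_lit 0x3ef7cef8e7ad74df6af2ab0b2eb6fcf1a689d39640e28487de11c59a0875db5549851893ce34c2ca42061149d8d9040))
noncomputable def c_t6 : BT Nat := (BT.leaf (nat_lit 0x3ef7cef8e7ad74df6af2ab0b2eb6fcf1a689d39640e28487de11c59a0875db5549851893ce34c2ca42061149d8d9040))
noncomputable def c_t7 : BT Nat := (BT.leaf (nat_lit 0x3e8adeece6fdf6d74ab2af0e15f3ac7328b9e69648fd8445de21c6da1987d6b804d20903ce341a2925d1d91600d1314))
noncomputable def c_t8 : BT Nat := (BT.leaf (nat_lit 0x3e8adeece6fdf6d74ab2af0e15f3ac7328b9e69648fd8445de21c6da1987d6b804d20903ce341a2925d1d91600d1314))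
noncomputable def c_t9 : BT Nat := (BT.leaf (nat_lit 0x1c7ee6b17aad35db7bf2ea1cfc56bb38a689db9648d7c20f7977e9bb658893b545924503ce34c2ca2481c61440c2040))
noncomputable def c_t10 : BT Nat := (BT.leaf (nat_lit 0x1c7ee6b17aad35db7bf2ea1cfc56bb38a689db9648d7c20f7977e9bb658893b545924503ce34c2ca2481c61440c2040))
noncomputable def c_t11 : BT Nat := (BT.leaf (nat_lit 0x3ecfcdba997dfb6b4f72c707eeb6cae21a81791e48ea841bdb75c7b5298e165544d24503c90c42d93889699cc342800))
noncomputable def c_t12 : BT Nat := (BT.leaf (nat_lit 0x3ecfcdba997dfb6b4f72c707eeb6cae21a81791e48ea841bdb75c7b5298e165544d24503c90c42d93889699cc342800))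
noncomputable def c_t13 : BT Nat := (BT.leaf (nat_lit 0x3e6fcee1bf8576d6d7b2c31e6ed2caea26811f9482e2ea09b375cf5a6405d6dd44d24500863458caa641ce3270cf058))
noncomputable def c_t14 : BT Nat := (BT.leaf (nat_lit 0x3e6fcee1bf8576d6d7b2c31e6ed2caea26811f9482e2ea09b375cf5a6405d6dd44d24500863458caa641ce3270cf058))
noncomputable def c_t15 : BT Nat := (BT.leaf (nat_lit 0x3ef5defa24adf6964cd62e3a6e22ca2abeb9ced74c2286019ef126c75d86725544dc4503e634cc78e6d69f1440c2040))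
noncomputable def c_t16 : BT Nat := (BT.leaf (nat_lit 0x3ef5defa24adf6964cd62e3a6e22ca2abeb9ced74c2286019ef126c75d86725544dc4503e634cc78e6d69f1440c2040))
noncomputable def c_TT : BT (BT Nat) := (BT.node (nat_lit 8) (BT.node (nat_lit 4) (BT.node (nat_lit 2) (BT.node (nat_lit 1) (BT.leaf c_t0) (BT.leaf c_t1)) (BT.node (nat_lit 3) (BT.leaf c_t2) (BT.leaf c_t3))) (BT.node (nat_lit 6) (BT.node (nat_lit 5) (BT.leaf c_t4) (BT.leaf c_t5)) (BT.node (nat_lit 7) (BT.leaf c_t6) (BT.leaf c_t7)))) (BT.node (nat_lit 12) (BT.node (nat_lit 10) (BT.node (nat_lit 9) (BT.leaf c_t8) (BT.leaf c_t9)) (BT.node (nat_lit 11) (BT.leaf c_t10) (BT.leaf c_t11))) (BT.node (nat_lit 14) (BT.node (nat_lit 13) (BT.leaf c_t12) (BT.leaf c_t13)) (BT.node (nat_lit 15) (BT.leaf c_t14) (BT.node (nat_lit 16) (BT.leaf c_t15) (BT.leaf c_t16))))))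
noncomputable def c_cg : List Lvl := [⟨(nat_lit 0), [[(nat_lit 9), (nat_lit 15), (nat_lit 9), (nat_lit 7), (nat_lit 5), (nat_lit 13), (nat_lit 15), (nat_lit 11), (nat_lit 7), (nat_lit 5), (nat_lit 13), (nat_lit 11), (nat_lit 3)],
  [(nat_lit 5), (nat_lit 13)]], (nat_lit 7)⟩,
  ⟨(nat_lit 2), [[(nat_lit 15), (nat_lit 5), (nat_lit 3), (nat_lit 7), (nat_lit 3)],
  [(nat_lit 9), (nat_lit 15), (nat_lit 5), (nat_lit 13), (nat_lit 11), (nat_lit 3), (nat_lit 13)]], (nat_lit 4)⟩,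
  ⟨(nat_lit 19), [[(nat_lit 15), (nat_lit 9)],
  [(nat_lit 3), (nat_lit 13), (nat_lit 5), (nat_lit 13), (nat_lit 3)],
  [(nat_lit 7), (nat_lit 3), (nat_lit 11), (nat_lit 5), (nat_lit 11), (nat_lit 3), (nat_lit 7)]], (nat_lit 2)⟩,
  ⟨(nat_lit 1), [[(nat_lit 11)],
  [(nat_lit 7), (nat_lit 13), (nat_lit 7)],
  [(nat_lit 9), (nat_lit 3), (nat_lit 13), (nat_lit 15), (nat_lit 5), (nat_lit 15), (nat_lit 13), (nat_lit 3), (nat_lit 9)]], (nat_lit 1)⟩,
  ⟨(nat_lit 6), [[(nat_lit 15)],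
  [(nat_lit 13), (nat_lit 11), (nat_lit 7), (nat_lit 13), (nat_lit 9), (nat_lit 15), (nat_lit 3), (nat_lit 7), (nat_lit 3), (nat_lit 5), (nat_lit 13), (nat_lit 11), (nat_lit 3), (nat_lit 7), (nat_lit 13), (nat_lit 5), (nat_lit 15), (nat_lit 9)]], (nat_lit 1)⟩,
  ⟨(nat_lit 3), [[(nat_lit 15), (nat_lit 5), (nat_lit 11), (nat_lit 15), (nat_lit 5), (nat_lit 7), (nat_lit 13), (nat_lit 7), (nat_lit 11), (nat_lit 5), (nat_lit 11), (nat_lit 15), (nat_lit 5)]], (nat_lit 1)⟩]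
noncomputable def d_V : List (List Nat) := [[(nat_lit 0x350efcbc81a5e2a8), (nat_lit 0x4af103437e5a1d57)],
  [(nat_lit 0x1e667a594f259452), (nat_lit 0x619985a6b0da6bad)],
  [(nat_lit 0x7f59095822a9761d), (nat_lit 0xa6f6a7dd5689e2)],
  [(nat_lit 0x23653d2ac1782776), (nat_lit 0x5c9ac2d53e87d889)],
  [(nat_lit 0x3052965277bc68b6), (nat_lit 0x4fad69ad88439749)],
  [(nat_lit 0x613b70b84e9b1db0), (nat_lit 0x1ec48f47b164e24f)]]
noncomputable def d_s : Net := (Net.cons (nat_lit 1) (nat_lit 0x1004550144514011) (Net.cons (nat_lit 2) (nat_lit 0x1230032323132000) (Net.cons (nat_lit 4) (nat_lit 0x8080c0d020500) (Net.cons (nat_lit 8) (nat_lit 0x74000a001e0000) (Net.cons (nat_lit 16) (nat_lit 0x225c00000000) (Net.cons (nat_lit 32) (nat_lit 1480959640) (Net.cons (nat_lit 16) (nat_lit 0x1504000047e9) (Net.cons (nat_lit 8) (nat_lit 0x7400480024003f) (Net.cons (nat_lit 4) (nat_lit 0x300030e08090502) (Net.cons (nat_lit 2) (nat_lit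 0x323033030322021) (Net.cons (nat_lit 1) (nat_lit 0x410554011011511) Net.nil)))))))))))
noncomputable def d_As : List (List (List Nat)) := [[[(nat_lit 1), (nat_lit 0), (nat_lit 0), (nat_lit 0), (nat_lit 0), (nat_lit 0)], [(nat_lit 0), (nat_lit 1), (nat_lit 0), (nat_lit 0), (nat_lit 0), (nat_lit 0)], [(nat_lit 0), (nat_lit 0), (nat_lit 1), (nat_lit 0), (nat_lit 0), (nat_lit 0)], [(nat_lit 0), (nat_lit 0), (nat_lit 0), (nat_lit 1), (nat_lit 0), (nat_lit 0)], [(nat_lit 0), (nat_lit 0), (nat_lit 0), (nat_lit 0), (nat_lit 1), (nat_lit 0)], [(nat_lit 0), (nat_lit 0), (nat_lit 0), (nat_lit 0), (nat_lit 0), (nat_lit 1)]],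
  [[(nat_lit 0), (nat_lit 1), (nat_lit 0), (nat_lit 1), (nat_lit 0), (nat_lit 0)], [(nat_lit 0), (nat_lit 1), (nat_lit 0), (nat_lit 0), (nat_lit 0), (nat_lit 0)], [(nat_lit 0), (nat_lit 0), (nat_lit 1), (nat_lit 0), (nat_lit 0), (nat_lit 0)], [(nat_lit 1), (nat_lit 1), (nat_lit 0), (nat_lit 0), (nat_lit 0), (nat_lit 0)], [(nat_lit 1), (nat_lit 1), (nat_lit 0), (nat_lit 1), (nat_lit 1), (nat_lit 0)], [(nat_lit 0), (nat_lit 0), (nat_lit 0), (nat_lit 0), (nat_lit 0), (nat_lit 1)]],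
  [[(nat_lit 1), (nat_lit 0), (nat_lit 0), (nat_lit 0), (nat_lit 0), (nat_lit 0)], [(nat_lit 1), (nat_lit 1), (nat_lit 1), (nat_lit 0), (nat_lit 1), (nat_lit 0)], [(nat_lit 0), (nat_lit 0), (nat_lit 1), (nat_lit 0), (nat_lit 0), (nat_lit 0)], [(nat_lit 1), (nat_lit 0), (nat_lit 1), (nat_lit 1), (nat_lit 1), (nat_lit 0)], [(nat_lit 0), (nat_lit 0), (nat_lit 0), (nat_lit 0), (nat_lit 1), (nat_lit 0)], [(nat_lit 1), (nat_lit 0), (nat_lit 1), (nat_lit 0), (nat_lit 1), (nat_lit 1)]],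
  [[(nat_lit 1), (nat_lit 0), (nat_lit 0), (nat_lit 0), (nat_lit 0), (nat_lit 0)], [(nat_lit 0), (nat_lit 1), (nat_lit 0), (nat_lit 0), (nat_lit 0), (nat_lit 0)], [(nat_lit 1), (nat_lit 1), (nat_lit 0), (nat_lit 0), (nat_lit 0), (nat_lit 1)], [(nat_lit 1), (nat_lit 1), (nat_lit 1), (nat_lit 1), (nat_lit 0), (nat_lit 1)], [(nat_lit 1), (nat_lit 1), (nat_lit 1), (nat_lit 0), (nat_lit 1), (nat_lit 1)], [(nat_lit 1), (nat_lit 1), (nat_lit 1), (nat_lit 0), (nat_lit 0), (nat_lit 0)]],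
  [[(nat_lit 1), (nat_lit 0), (nat_lit 0), (nat_lit 0), (nat_lit 0), (nat_lit 0)], [(nat_lit 0), (nat_lit 1), (nat_lit 0), (nat_lit 0), (nat_lit 0), (nat_lit 0)], [(nat_lit 0), (nat_lit 1), (nat_lit 0), (nat_lit 0), (nat_lit 0), (nat_lit 1)], [(nat_lit 0), (nat_lit 0), (nat_lit 0), (nat_lit 1), (nat_lit 0), (nat_lit 0)], [(nat_lit 0), (nat_lit 1), (nat_lit 1), (nat_lit 0), (nat_lit 1), (nat_lit 1)], [(nat_lit 0), (nat_lit 1), (nat_lit 1), (nat_lit 0), (nat_lit 0), (nat_lit 0)]],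
  [[(nat_lit 1), (nat_lit 0), (nat_lit 0), (nat_lit 0), (nat_lit 0), (nat_lit 0)], [(nat_lit 0), (nat_lit 1), (nat_lit 0), (nat_lit 0), (nat_lit 0), (nat_lit 0)], [(nat_lit 0), (nat_lit 0), (nat_lit 1), (nat_lit 0), (nat_lit 0), (nat_lit 0)], [(nat_lit 1), (nat_lit 1), (nat_lit 0), (nat_lit 1), (nat_lit 0), (nat_lit 0)], [(nat_lit 1), (nat_lit 1), (nat_lit 0), (nat_lit 0), (nat_lit 1), (nat_lit 0)], [(nat_lit 0), (nat_lit 0), (nat_lit 0), (nat_lit 0), (nat_lit 0), (nat_lit 1)]],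
  [[(nat_lit 0), (nat_lit 1), (nat_lit 0), (nat_lit 1), (nat_lit 1), (nat_lit 1)], [(nat_lit 1), (nat_lit 0), (nat_lit 0), (nat_lit 1), (nat_lit 1), (nat_lit 1)], [(nat_lit 1), (nat_lit 1), (nat_lit 1), (nat_lit 1), (nat_lit 1), (nat_lit 1)], [(nat_lit 1), (nat_lit 1), (nat_lit 0), (nat_lit 0), (nat_lit 1), (nat_lit 1)], [(nat_lit 1), (nat_lit 1), (nat_lit 0), (nat_lit 1), (nat_lit 0), (nat_lit 1)], [(nat_lit 0), (nat_lit 0), (nat_lit 0), (nat_lit 0), (nat_lit 0), (nat_lit 1)]],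
  [[(nat_lit 1), (nat_lit 0), (nat_lit 0), (nat_lit 1), (nat_lit 1), (nat_lit 0)], [(nat_lit 0), (nat_lit 1), (nat_lit 0), (nat_lit 1), (nat_lit 1), (nat_lit 0)], [(nat_lit 0), (nat_lit 0), (nat_lit 1), (nat_lit 0), (nat_lit 0), (nat_lit 0)], [(nat_lit 0), (nat_lit 0), (nat_lit 0), (nat_lit 1), (nat_lit 0), (nat_lit 0)], [(nat_lit 0), (nat_lit 0), (nat_lit 0), (nat_lit 0), (nat_lit 1), (nat_lit 0)], [(nat_lit 0), (nat_lit 0), (nat_lit 0), (nat_lit 0), (nat_lit 0), (nat_lit 1)]]]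
noncomputable def d_C : List (List Nat) := [[(nat_lit 0), (nat_lit 0x7fffffffffffffff)],
  [(nat_lit 0), (nat_lit 0x7fffffffffffffff)],
  [(nat_lit 0), (nat_lit 0x7fffffffffffffff)],
  [(nat_lit 0), (nat_lit 0x7fffffffffffffff)],
  [(nat_lit 0), (nat_lit 0x7fffffffffffffff)],
  [(nat_lit 0), (nat_lit 0x7fffffffffffffff)],
  [(nat_lit 0), (nat_lit 0x7fffffffffffffff)],
  [(nat_lit 0), (nat_lit 0x7fffffffffffffff)]]
noncomputable def v2 : Nat := (nat_lit 0x200000000000000000000000000000000000000000000000000000000000000000000000000000000000000000000800000000101000000000000000000000000000000000000000000000000000000000000010000000080004000000000000000000000000800000000000000000000000000000000000000000000000000000000000008000012000008000000000000000080000000000000020000000000000000000005084200000000000000000000000100000004000400000400010000000000000000000000000100408002a4000000000000000080040040000000000000601d000400000000000081020028100060000002180000000000000000000000000000000000000000000000000000000000000000000000000000000000000000000a000000000000000000004000000000000000000000000000020010000000014980000400000000080)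
noncomputable def zs : List (List Nat) := [[(nat_lit 5), (nat_lit 3)],
  [(nat_lit 38), (nat_lit 5), (nat_lit 3)],
  [(nat_lit 7), (nat_lit 39), (nat_lit 3)],
  [(nat_lit 19), (nat_lit 39), (nat_lit 3)],
  [(nat_lit 43), (nat_lit 50), (nat_lit 1), (nat_lit 3)],
  [(nat_lit 49), (nat_lit 44), (nat_lit 1), (nat_lit 3)]]
noncomputable def n_as : List (List Nat) := []
noncomputable def n_ns : List (List Nat) := []
noncomputable def n_kg : List (List Nat) := [[(nat_lit 1), (nat_lit 3), (nat_lit 1), (nat_lit 3), (nat_lit 1)],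
  [(nat_lit 27), (nat_lit 44), (nat_lit 3), (nat_lit 1), (nat_lit 3), (nat_lit 43), (nat_lit 28)],
  [(nat_lit 7), (nat_lit 39), (nat_lit 3), (nat_lit 1), (nat_lit 3), (nat_lit 40), (nat_lit 7)],
  [(nat_lit 21), (nat_lit 53), (nat_lit 3), (nat_lit 1), (nat_lit 3), (nat_lit 53), (nat_lit 22)],
  [(nat_lit 5), (nat_lit 3), (nat_lit 1), (nat_lit 3), (nat_lit 5)],
  [(nat_lit 49), (nat_lit 44), (nat_lit 1), (nat_lit 3), (nat_lit 1), (nat_lit 3), (nat_lit 1), (nat_lit 43), (nat_lit 50)],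
  [(nat_lit 9), (nat_lit 41), (nat_lit 5), (nat_lit 3), (nat_lit 1), (nat_lit 3), (nat_lit 5), (nat_lit 42), (nat_lit 9)],
  [(nat_lit 21), (nat_lit 7), (nat_lit 39), (nat_lit 3), (nat_lit 1), (nat_lit 3), (nat_lit 40), (nat_lit 7), (nat_lit 22)],
  [(nat_lit 22), (nat_lit 42), (nat_lit 5), (nat_lit 3), (nat_lit 1), (nat_lit 3), (nat_lit 5), (nat_lit 41), (nat_lit 21)],
  [(nat_lit 30), (nat_lit 44), (nat_lit 1), (nat_lit 3), (nat_lit 1), (nat_lit 3), (nat_lit 1), (nat_lit 43), (nat_lit 29)],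
  [(nat_lit 49), (nat_lit 28), (nat_lit 50), (nat_lit 3), (nat_lit 1), (nat_lit 3), (nat_lit 49), (nat_lit 27), (nat_lit 50)],
  [(nat_lit 22), (nat_lit 38), (nat_lit 39), (nat_lit 3), (nat_lit 1), (nat_lit 3), (nat_lit 40), (nat_lit 37), (nat_lit 21)],
  [(nat_lit 59), (nat_lit 47), (nat_lit 5), (nat_lit 3), (nat_lit 7), (nat_lit 22), (nat_lit 50), (nat_lit 27), (nat_lit 19), (nat_lit 46), (nat_lit 59), (nat_lit 22)],
  [(nat_lit 39), (nat_lit 31), (nat_lit 43), (nat_lit 1), (nat_lit 3), (nat_lit 1), (nat_lit 3), (nat_lit 1), (nat_lit 44), (nat_lit 32), (nat_lit 40)],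
  [(nat_lit 52), (nat_lit 3), (nat_lit 47), (nat_lit 3), (nat_lit 7), (nat_lit 19), (nat_lit 48), (nat_lit 51), (nat_lit 22), (nat_lit 59), (nat_lit 7), (nat_lit 22)],
  [(nat_lit 52), (nat_lit 15), (nat_lit 3), (nat_lit 43), (nat_lit 3), (nat_lit 1), (nat_lit 3), (nat_lit 44), (nat_lit 3), (nat_lit 15), (nat_lit 51)],
  [(nat_lit 49), (nat_lit 28), (nat_lit 3), (nat_lit 47), (nat_lit 3), (nat_lit 1), (nat_lit 3), (nat_lit 48), (nat_lit 3), (nat_lit 27), (nat_lit 50)]]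
noncomputable def n_x0 : Nat := (nat_lit 0x1000000000000208c000000000000840020060008000040001000000000000000080000000190000041410082000000000000000080000000010000100000000000000000000000000000002000000000000000000000000000002000000000000000000000000000000000000000000000000000800200000000000000000000000004000000000000000000000000000001000000000000000000000000000000000000000000000000000000000080000000000000000000000000000000000000000000000000000000000000000000000000000000000000000000000000000000000000000008000000000000000080000000000000000000000000000000000005004200000000000000000000c30100000000000400000400010000000000000000000000000100000002a4000000000000000000000000000000000000201d0004000000000000810200000000200000001800000000000000000000000000000000000000000000000000000000000000000000000000000000000000c18000000000000000000000000000000000000000000000000000020010000000000180000000000000000)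
noncomputable def n_xs : List Nat := [n_x0]
noncomputable def n_iv : List PS := [⟨[(nat_lit 695), (nat_lit 1244), (nat_lit 779)], (nat_lit 0xc02020000800000000000000010000000000000004000880140000000008000100100001000000000000000140400000180000800000000000000000000200000000000010008000000000a2000020000000000200002020000000000000000000000080000020000000000000820000100800004000100104080000000000000000000800000000000000200000000000000100000000000000000000000000000010000800000800080004000000400a800000000000008000000000008000000000010100000000000000000000000800100000080000000000040000080080000400040000000040000000000000000000402000000060002098000800000000000900000000000000000000000000000280000000280000000000000800800000000000009000000010000300200004000000000000000000000000000000002000000002000002000000000000000000000601080000000000900000000000000000000040000000000000000000000000008020000008400000000088040020004000200000002000000000000000000000000000000200100000400000000000004000000000002000000000000200200200)⟩]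
noncomputable def n_ivg : List (List Nat) := [[(nat_lit 1), (nat_lit 3), (nat_lit 51), (nat_lit 28), (nat_lit 21), (nat_lit 45), (nat_lit 41), (nat_lit 9), (nat_lit 22)]]
noncomputable def n_lf : List PS := [⟨[(nat_lit 67), (nat_lit 718), (nat_lit 809), (nat_lit 29), (nat_lit 777), (nat_lit 198), (nat_lit 339), (nat_lit 696), (nat_lit 2897)], (nat_lit 1)⟩]
noncomputable def n_lfw : List (List (List Nat)) := [[[(nat_lit 52), (nat_lit 15), (nat_lit 3), (nat_lit 43), (nat_lit 3)],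
  [(nat_lit 49), (nat_lit 5), (nat_lit 3)],
  [(nat_lit 53), (nat_lit 41), (nat_lit 3)],
  [(nat_lit 29), (nat_lit 3), (nat_lit 51), (nat_lit 3)],
  [(nat_lit 41), (nat_lit 40), (nat_lit 41), (nat_lit 3)],
  [(nat_lit 31), (nat_lit 3), (nat_lit 43), (nat_lit 3)],
  [(nat_lit 27), (nat_lit 3), (nat_lit 44), (nat_lit 3)],
  [(nat_lit 5), (nat_lit 3)],
  [(nat_lit 31), (nat_lit 50), (nat_lit 41), (nat_lit 3)]]]
noncomputable def n_d : Sd := ⟨(nat_lit 3510), (nat_lit 12), Q, w0, n_as, n_as, n_ns, n_ns, n_xs, n_xs, n_kg, n_iv, n_lf, []⟩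
noncomputable def n_T : Sr := (Sr.cst (nat_lit 0) (Sr.sym [[(nat_lit 1)], [(nat_lit 3)], [(nat_lit 5)], [(nat_lit 7)], [(nat_lit 9)], [(nat_lit 11)], [(nat_lit 13)]] (Sr.focus (nat_lit 695) (nat_lit 0) (Sr.cons (nat_lit 695) (nat_lit 4) (nat_lit 46080) (Sr.perp [(nat_lit 1), (nat_lit 3)] [(nat_lit 1), (nat_lit 3)] (nat_lit 0) (Sr.dif (nat_lit 2) (nat_lit 0) (Sr.sym [[(nat_lit 1)], [(nat_lit 9)], [(nat_lit 5)], [(nat_lit 11)], [(nat_lit 7)], [(nat_lit 13)]] (Sr.focus (nat_lit 1244) (nat_lit 0) (Sr.cons (nat_lit 1244) (nat_lit 3) (nat_lit 1152) (Sr.and (nat_lit 4) (nat_lit 2) (Sr.perp [(nat_lit 27), (nat_lit 44), (nat_lit 3)] [(nat_lit 27), (nat_lit 44), (nat_lit 3)] (nat_lit 1) (Sr.and (nat_lit 1) (nat_lit 0) (Sr.sym [[(nat_lit 13)], [(nat_lit 15)], [(nat_lit 17)], [(nat_lit 19)], [(nat_lit 21)], [(nat_lit 23)], [(nat_lit 25)]] (Sr.focus (nat_lit 779) (nat_lit 0) (Sr.cons (nat_lit 779) (nat_lit 1) (nat_lit 96)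 (Sr.dif (nat_lit 3) (nat_lit 2) (Sr.perp [(nat_lit 9), (nat_lit 41), (nat_lit 5), (nat_lit 3)] [(nat_lit 9), (nat_lit 41), (nat_lit 5), (nat_lit 3)] (nat_lit 1) (Sr.dif (nat_lit 1) (nat_lit 0) (Sr.sym [[(nat_lit 13)], [(nat_lit 27)], [(nat_lit 17)], [(nat_lit 19)]] (Sr.focus (nat_lit 1499) (nat_lit 0) (Sr.cons (nat_lit 1499) (nat_lit 1) (nat_lit 8) (Sr.and (nat_lit 5) (nat_lit 2) (Sr.perp [(nat_lit 21), (nat_lit 53), (nat_lit 3)] [(nat_lit 21), (nat_lit 53), (nat_lit 3)] (nat_lit 1) (Sr.and (nat_lit 1) (nat_lit 0) (Sr.sym [[(nat_lit 29)]] (Sr.focus (nat_lit 67) (nat_lit 0) (Sr.cons (nat_lit 67) (nat_lit 1) (nat_lit 4) (Sr.and (nat_lit 11) (nat_lit 6) (Sr.dif (nat_lit 0) (nat_lit 3) (Sr.perp [(nat_lit 52), (nat_lit 15), (nat_lit 3), (nat_lit 43), (nat_lit 3)] [(nat_lit 52), (nat_lit 15), (nat_lit 3), (nat_lit 43), (nat_lit 3)] (nat_lit 2) (Sr.dif (nat_lit 1) (nat_lit 0) (Sr.sym [[(nat_lit 31)], [(nat_lit 33)]]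 (Sr.focus (nat_lit 844) (nat_lit 0) (Sr.cons (nat_lit 844) (nat_lit 1) (nat_lit 1) (Sr.and (nat_lit 15) (nat_lit 11) (Sr.dif (nat_lit 7) (nat_lit 6) (Sr.perp [(nat_lit 49), (nat_lit 28), (nat_lit 3), (nat_lit 47), (nat_lit 3)] [(nat_lit 49), (nat_lit 28), (nat_lit 3), (nat_lit 47), (nat_lit 3)] (nat_lit 0) (Sr.and (nat_lit 2) (nat_lit 0) (Sr.and (nat_lit 8) (nat_lit 11) (Sr.and (nat_lit 0) (nat_lit 7) (Sr.dif (nat_lit 0) (nat_lit 26) (Sr.dif (nat_lit 0) (nat_lit 22) (Sr.perp [(nat_lit 5), (nat_lit 3)] [(nat_lit 5), (nat_lit 3)] (nat_lit 0) (Sr.and (nat_lit 5) (nat_lit 0) (Sr.perp [(nat_lit 22), (nat_lit 42), (nat_lit 5), (nat_lit 3)] [(nat_lit 22), (nat_lit 42), (nat_lit 5), (nat_lit 3)] (nat_lit 10) (Sr.and (nat_lit 1) (nat_lit 0) (Sr.inv (nat_lit 0) [] [(nat_lit 32), (nat_lit 29), (nat_lit 25)] (Sr.and (nat_lit 0) (nat_lit 20) (Sr.and (nat_lit 0) (nat_lit 16) (Sr.and (nat_lit 0) (nat_lit 4) (Sr.perp [(nat_lit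 30), (nat_lit 32), (nat_lit 50), (nat_lit 3)] [(nat_lit 30), (nat_lit 32), (nat_lit 50), (nat_lit 3)] (nat_lit 0) (Sr.and (nat_lit 5) (nat_lit 0) (Sr.dif (nat_lit 0) (nat_lit 20) (Sr.refl [(nat_lit 9), (nat_lit 41), (nat_lit 5), (nat_lit 3)] [(nat_lit 9), (nat_lit 41), (nat_lit 5), (nat_lit 3)] (nat_lit 32) (nat_lit 28) (Sr.perp [(nat_lit 28), (nat_lit 15), (nat_lit 44), (nat_lit 1), (nat_lit 3)] [(nat_lit 28), (nat_lit 15), (nat_lit 44), (nat_lit 1), (nat_lit 3)] (nat_lit 0) (Sr.and (nat_lit 0) (nat_lit 23) (Sr.and (nat_lit 0) (nat_lit 13) (Sr.and (nat_lit 0) (nat_lit 12) (Sr.and (nat_lit 0) (nat_lit 7) (Sr.dif (nat_lit 0) (nat_lit 40) (Sr.dif (nat_lit 0) (nat_lit 33) (Sr.and (nat_lit 35) (nat_lit 29) (Sr.dif (nat_lit 0) (nat_lit 41) (Sr.dif (nat_lit 0) (nat_lit 36) (Sr.perp [(nat_lit 39), (nat_lit 31), (nat_lit 43), (nat_lit 1), (nat_lit 3)] [(nat_lit 39), (nat_lit 31), (nat_lit 43), (nat_lit 1), (nat_lit 3)]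 (nat_lit 0) (Sr.dif (nat_lit 4) (nat_lit 0) (Sr.and (nat_lit 31) (nat_lit 39) (Sr.and (nat_lit 0) (nat_lit 24) (Sr.and (nat_lit 20) (nat_lit 31) (Sr.and (nat_lit 0) (nat_lit 24) (Sr.perp [(nat_lit 31), (nat_lit 50), (nat_lit 41), (nat_lit 3)] [(nat_lit 31), (nat_lit 50), (nat_lit 41), (nat_lit 3)] (nat_lit 0) (Sr.and (nat_lit 3) (nat_lit 0) (Sr.dif (nat_lit 0) (nat_lit 40) (Sr.refl [(nat_lit 27), (nat_lit 44), (nat_lit 3)] [(nat_lit 27), (nat_lit 44), (nat_lit 3)] (nat_lit 56) (nat_lit 48) (Sr.refl [(nat_lit 1), (nat_lit 3)] [(nat_lit 1), (nat_lit 3)] (nat_lit 60) (nat_lit 0) (Sr.perp [(nat_lit 59), (nat_lit 22), (nat_lit 44), (nat_lit 3)] [(nat_lit 59), (nat_lit 22), (nat_lit 44), (nat_lit 3)] (nat_lit 0) (Sr.and (nat_lit 29) (nat_lit 0) (Sr.and (nat_lit 0) (nat_lit 45) (Sr.and (nat_lit 0) (nat_lit 35) (Sr.dif (nat_lit 0) (nat_lit 28) (Sr.and (nat_lit 45) (nat_lit 48) (Sr.and (nat_lit 0) (nat_lit 38) (Sr.and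 (nat_lit 0) (nat_lit 37) (Sr.dif (nat_lit 0) (nat_lit 46) (Sr.dif (nat_lit 0) (nat_lit 33) (Sr.refl [(nat_lit 1), (nat_lit 3)] [(nat_lit 1), (nat_lit 3)] (nat_lit 71) (nat_lit 68) (Sr.det (nat_lit 2897) (nat_lit 16) (Sr.det (nat_lit 696) (nat_lit 44) (Sr.det (nat_lit 339) (nat_lit 0) (Sr.det (nat_lit 198) (nat_lit 1) (Sr.det (nat_lit 777) (nat_lit 6) (Sr.det (nat_lit 29) (nat_lit 13) (Sr.det (nat_lit 809) (nat_lit 20) (Sr.det (nat_lit 718) (nat_lit 33) (Sr.leaf (nat_lit 0))))))))))))))))))))))))))))))))))))))))))))))))))))))))))))))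
 Sr.nil)))))))
 Sr.nil))))))
 Sr.nil))))))
 Sr.nil))))))
 Sr.nil)))))
 Sr.nil))))
noncomputable def a_gs : List (List Nat) := [[(nat_lit 1), (nat_lit 21), (nat_lit 32), (nat_lit 15), (nat_lit 11), (nat_lit 5)],
  [(nat_lit 51), (nat_lit 3), (nat_lit 41), (nat_lit 39), (nat_lit 3), (nat_lit 7), (nat_lit 39), (nat_lit 33), (nat_lit 49), (nat_lit 30), (nat_lit 45)],
  [(nat_lit 3), (nat_lit 5), (nat_lit 1), (nat_lit 3), (nat_lit 1), (nat_lit 21), (nat_lit 13), (nat_lit 9), (nat_lit 22), (nat_lit 5)],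
  [(nat_lit 52), (nat_lit 3), (nat_lit 47), (nat_lit 3), (nat_lit 5), (nat_lit 45), (nat_lit 37), (nat_lit 44), (nat_lit 29), (nat_lit 27), (nat_lit 43)],
  [(nat_lit 51), (nat_lit 3), (nat_lit 41), (nat_lit 39), (nat_lit 3), (nat_lit 23), (nat_lit 46), (nat_lit 40), (nat_lit 30), (nat_lit 40), (nat_lit 43), (nat_lit 11)],
  [(nat_lit 1), (nat_lit 5), (nat_lit 27), (nat_lit 9), (nat_lit 31), (nat_lit 21), (nat_lit 13)]]
noncomputable def a_pc : List PcS := [⟨(nat_lit 2), [], []⟩,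
  ⟨(nat_lit 2), [], [[]]⟩,
  ⟨(nat_lit 2), [], [[],
  []]⟩,
  ⟨(nat_lit 2), [], [[],
  [],
  []]⟩,
  ⟨(nat_lit 2), [], [[],
  [],
  [],
  []]⟩,
  ⟨(nat_lit 2), [], [[],
  [],
  [],
  [],
  []]⟩]
noncomputable def a_hs : List (List Nat) := [[(nat_lit 1), (nat_lit 21), (nat_lit 32), (nat_lit 15), (nat_lit 11), (nat_lit 5)],
  [(nat_lit 51), (nat_lit 3), (nat_lit 41), (nat_lit 39), (nat_lit 3), (nat_lit 7), (nat_lit 39), (nat_lit 33), (nat_lit 49), (nat_lit 30), (nat_lit 45)],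
  [(nat_lit 3), (nat_lit 5), (nat_lit 1), (nat_lit 3), (nat_lit 1), (nat_lit 21), (nat_lit 13), (nat_lit 9), (nat_lit 22), (nat_lit 5)],
  [(nat_lit 52), (nat_lit 3), (nat_lit 47), (nat_lit 3), (nat_lit 5), (nat_lit 45), (nat_lit 37), (nat_lit 44), (nat_lit 29), (nat_lit 27), (nat_lit 43)],
  [(nat_lit 51), (nat_lit 3), (nat_lit 41), (nat_lit 39), (nat_lit 3), (nat_lit 23), (nat_lit 46), (nat_lit 40), (nat_lit 30), (nat_lit 40), (nat_lit 43), (nat_lit 11)],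
  [(nat_lit 1), (nat_lit 5), (nat_lit 27), (nat_lit 9), (nat_lit 31), (nat_lit 21), (nat_lit 13)]]
noncomputable def a_u_N_0 : Net := (Net.cons (nat_lit 1) (nat_lit 1024) (Net.cons (nat_lit 2) (nat_lit 256) (Net.cons (nat_lit 1) (nat_lit 1088) Net.nil)))
noncomputable def a_u_N_1 : Net := (Net.cons (nat_lit 1) (nat_lit 85) Net.nil)
noncomputable def a_u_N_2 : Net := (Net.cons (nat_lit 1) (nat_lit 1024) (Net.cons (nat_lit 2) (nat_lit 512) (Net.cons (nat_lit 1) (nat_lit 1040) Net.nil)))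
noncomputable def a_u_N_3 : Net := (Net.cons (nat_lit 1) (nat_lit 1024) (Net.cons (nat_lit 2) (nat_lit 512) (Net.cons (nat_lit 1) (nat_lit 1041) Net.nil)))
noncomputable def a_u_N_4 : Net := (Net.cons (nat_lit 2) (nat_lit 768) (Net.cons (nat_lit 1) (nat_lit 1365) Net.nil))
noncomputable def a_u_N_5 : Net := (Net.cons (nat_lit 1) (nat_lit 64) Net.nil)
noncomputable def a_u_N : List Net := [a_u_N_0, a_u_N_1, a_u_N_2, a_u_N_3, a_u_N_4, a_u_N_5]
noncomputable def a_u_pt : BT Nat := (BT.leaf (nat_lit 0xdb663f48e2d92d42b82b70da0c10a804e044043))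
noncomputable def a_u_pi : Nat → Nat := BT.record a_u_pt (nat_lit 10) (nat_lit 1023) (nat_lit 12) (nat_lit 4095)
noncomputable def a_u_t0 : BT Nat := (BT.leaf (nat_lit 0xba9876543210))
noncomputable def a_u_t1 : BT Nat := (BT.leaf (nat_lit 0x8a9b67543210))
noncomputable def a_u_t2 : BT Nat := (BT.leaf (nat_lit 0x8a9b67543210))
noncomputable def a_u_t3 : BT Nat := (BT.leaf (nat_lit 0xba9867452301))
noncomputable def a_u_t4 : BT Nat := (BT.leaf (nat_lit 0xba9867452301))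
noncomputable def a_u_t5 : BT Nat := (BT.leaf (nat_lit 0xb9a876453210))
noncomputable def a_u_t6 : BT Nat := (BT.leaf (nat_lit 0xb9a876453210))
noncomputable def a_u_t7 : BT Nat := (BT.leaf (nat_lit 0xb9a876453201))
noncomputable def a_u_t8 : BT Nat := (BT.leaf (nat_lit 0xb9a876453201))
noncomputable def a_u_t9 : BT Nat := (BT.leaf (nat_lit 0x89ab67452301))
noncomputable def a_u_t10 : BT Nat := (BT.leaf (nat_lit 0x89ab67452301))
noncomputable def a_u_t11 : BT Nat := (BT.leaf (nat_lit 0xba9867543210))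
noncomputable def a_u_t12 : BT Nat := (BT.leaf (nat_lit 0xba9867543210))
noncomputable def a_u_TT : BT (BT Nat) := (BT.node (nat_lit 6) (BT.node (nat_lit 3) (BT.node (nat_lit 1) (BT.leaf a_u_t0) (BT.node (nat_lit 2) (BT.leaf a_u_t1) (BT.leaf a_u_t2))) (BT.node (nat_lit 4) (BT.leaf a_u_t3) (BT.node (nat_lit 5) (BT.leaf a_u_t4) (BT.leaf a_u_t5)))) (BT.node (nat_lit 9) (BT.node (nat_lit 7) (BT.leaf a_u_t6) (BT.node (nat_lit 8) (BT.leaf a_u_t7) (BT.leaf a_u_t8))) (BT.node (nat_lit 11) (BT.node (nat_lit 10) (BT.leaf a_u_t9) (BT.leaf a_u_t10)) (BT.node (nat_lit 12) (BT.leaf a_u_t11) (BT.leaf a_u_t12)))))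
noncomputable def a_c : List Lvl := [⟨(nat_lit 6), [[(nat_lit 9)]], (nat_lit 1)⟩,
  ⟨(nat_lit 0), [[(nat_lit 5)]], (nat_lit 1)⟩,
  ⟨(nat_lit 2), [[(nat_lit 1), (nat_lit 5), (nat_lit 9)]], (nat_lit 1)⟩,
  ⟨(nat_lit 4), [[(nat_lit 7)]], (nat_lit 1)⟩,
  ⟨(nat_lit 8), [[(nat_lit 9), (nat_lit 3)]], (nat_lit 1)⟩,
  ⟨(nat_lit 9), [[(nat_lit 3), (nat_lit 9), (nat_lit 11), (nat_lit 1)]], (nat_lit 1)⟩]
noncomputable def a_W : List (List Nat) := [[(nat_lit 1), (nat_lit 3), (nat_lit 1), (nat_lit 3), (nat_lit 1)],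
  [(nat_lit 27), (nat_lit 44), (nat_lit 3), (nat_lit 1), (nat_lit 3), (nat_lit 43), (nat_lit 28)],
  [(nat_lit 7), (nat_lit 39), (nat_lit 3), (nat_lit 1), (nat_lit 3), (nat_lit 40), (nat_lit 7)],
  [(nat_lit 21), (nat_lit 7), (nat_lit 39), (nat_lit 3), (nat_lit 1), (nat_lit 3), (nat_lit 40), (nat_lit 7), (nat_lit 22)],
  [(nat_lit 30), (nat_lit 44), (nat_lit 1), (nat_lit 3), (nat_lit 1), (nat_lit 3), (nat_lit 1), (nat_lit 43), (nat_lit 29)],
  [(nat_lit 22), (nat_lit 42), (nat_lit 5), (nat_lit 3), (nat_lit 1), (nat_lit 3), (nat_lit 5), (nat_lit 41), (nat_lit 21)]]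
noncomputable def r_As : List (List (List Nat)) := [[[(nat_lit 0), (nat_lit 1), (nat_lit 0), (nat_lit 0), (nat_lit 1), (nat_lit 1)], [(nat_lit 1), (nat_lit 0), (nat_lit 0), (nat_lit 0), (nat_lit 1), (nat_lit 1)], [(nat_lit 1), (nat_lit 1), (nat_lit 1), (nat_lit 0), (nat_lit 1), (nat_lit 1)], [(nat_lit 0), (nat_lit 0), (nat_lit 0), (nat_lit 1), (nat_lit 0), (nat_lit 0)], [(nat_lit 1), (nat_lit 1), (nat_lit 0), (nat_lit 0), (nat_lit 0), (nat_lit 1)], [(nat_lit 1), (nat_lit 1), (nat_lit 0), (nat_lit 0), (nat_lit 1), (nat_lit 0)]],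
  [[(nat_lit 0), (nat_lit 1), (nat_lit 1), (nat_lit 0), (nat_lit 1), (nat_lit 1)], [(nat_lit 0), (nat_lit 1), (nat_lit 0), (nat_lit 0), (nat_lit 0), (nat_lit 0)], [(nat_lit 1), (nat_lit 1), (nat_lit 0), (nat_lit 0), (nat_lit 1), (nat_lit 1)], [(nat_lit 0), (nat_lit 0), (nat_lit 0), (nat_lit 1), (nat_lit 0), (nat_lit 0)], [(nat_lit 0), (nat_lit 0), (nat_lit 0), (nat_lit 0), (nat_lit 1), (nat_lit 0)], [(nat_lit 0), (nat_lit 0), (nat_lit 0), (nat_lit 0), (nat_lit 0), (nat_lit 1)]],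
  [[(nat_lit 1), (nat_lit 0), (nat_lit 0), (nat_lit 0), (nat_lit 0), (nat_lit 0)], [(nat_lit 0), (nat_lit 1), (nat_lit 0), (nat_lit 0), (nat_lit 0), (nat_lit 0)], [(nat_lit 0), (nat_lit 0), (nat_lit 0), (nat_lit 1), (nat_lit 1), (nat_lit 0)], [(nat_lit 0), (nat_lit 0), (nat_lit 1), (nat_lit 0), (nat_lit 1), (nat_lit 0)], [(nat_lit 0), (nat_lit 0), (nat_lit 0), (nat_lit 0), (nat_lit 1), (nat_lit 0)], [(nat_lit 0), (nat_lit 0), (nat_lit 0), (nat_lit 0), (nat_lit 0), (nat_lit 1)]],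
  [[(nat_lit 1), (nat_lit 1), (nat_lit 0), (nat_lit 1), (nat_lit 0), (nat_lit 1)], [(nat_lit 0), (nat_lit 0), (nat_lit 0), (nat_lit 1), (nat_lit 0), (nat_lit 1)], [(nat_lit 0), (nat_lit 0), (nat_lit 1), (nat_lit 0), (nat_lit 0), (nat_lit 0)], [(nat_lit 0), (nat_lit 1), (nat_lit 0), (nat_lit 0), (nat_lit 0), (nat_lit 1)], [(nat_lit 0), (nat_lit 0), (nat_lit 0), (nat_lit 0), (nat_lit 1), (nat_lit 0)], [(nat_lit 0), (nat_lit 0), (nat_lit 0), (nat_lit 0), (nat_lit 0), (nat_lit 1)]],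
  [[(nat_lit 0), (nat_lit 1), (nat_lit 1), (nat_lit 0), (nat_lit 1), (nat_lit 0)], [(nat_lit 0), (nat_lit 1), (nat_lit 0), (nat_lit 0), (nat_lit 0), (nat_lit 0)], [(nat_lit 0), (nat_lit 0), (nat_lit 1), (nat_lit 0), (nat_lit 0), (nat_lit 0)], [(nat_lit 0), (nat_lit 0), (nat_lit 0), (nat_lit 1), (nat_lit 0), (nat_lit 0)], [(nat_lit 1), (nat_lit 1), (nat_lit 1), (nat_lit 0), (nat_lit 0), (nat_lit 0)], [(nat_lit 0), (nat_lit 0), (nat_lit 0), (nat_lit 0), (nat_lit 0), (nat_lit 1)]],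
  [[(nat_lit 1), (nat_lit 0), (nat_lit 0), (nat_lit 0), (nat_lit 0), (nat_lit 0)], [(nat_lit 1), (nat_lit 1), (nat_lit 1), (nat_lit 1), (nat_lit 0), (nat_lit 0)], [(nat_lit 0), (nat_lit 0), (nat_lit 1), (nat_lit 0), (nat_lit 0), (nat_lit 0)], [(nat_lit 0), (nat_lit 0), (nat_lit 0), (nat_lit 1), (nat_lit 0), (nat_lit 0)], [(nat_lit 0), (nat_lit 0), (nat_lit 0), (nat_lit 0), (nat_lit 1), (nat_lit 0)], [(nat_lit 1), (nat_lit 0), (nat_lit 1), (nat_lit 1), (nat_lit 0), (nat_lit 1)]]]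
noncomputable def r_us : List (List (List Nat)) := [[[(nat_lit 3), (nat_lit 5), (nat_lit 9), (nat_lit 11)],
  [(nat_lit 1), (nat_lit 5), (nat_lit 9), (nat_lit 11)],
  [(nat_lit 5)],
  [(nat_lit 7)],
  [(nat_lit 1), (nat_lit 3), (nat_lit 5), (nat_lit 11)],
  [(nat_lit 1), (nat_lit 3), (nat_lit 5), (nat_lit 9)]],
  [[(nat_lit 5)],
  [(nat_lit 1), (nat_lit 3), (nat_lit 5)],
  [(nat_lit 1)],
  [(nat_lit 7)],
  [(nat_lit 1), (nat_lit 5), (nat_lit 9)],
  [(nat_lit 1), (nat_lit 5), (nat_lit 11)]],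
  [[(nat_lit 1)],
  [(nat_lit 3)],
  [(nat_lit 7)],
  [(nat_lit 5)],
  [(nat_lit 5), (nat_lit 7), (nat_lit 9)],
  [(nat_lit 11)]],
  [[(nat_lit 1)],
  [(nat_lit 1), (nat_lit 7)],
  [(nat_lit 5)],
  [(nat_lit 1), (nat_lit 3)],
  [(nat_lit 9)],
  [(nat_lit 1), (nat_lit 3), (nat_lit 7), (nat_lit 11)]],
  [[(nat_lit 9)],
  [(nat_lit 1), (nat_lit 3), (nat_lit 9)],
  [(nat_lit 1), (nat_lit 5), (nat_lit 9)],
  [(nat_lit 7)],
  [(nat_lit 1)],
  [(nat_lit 11)]],
  [[(nat_lit 1), (nat_lit 3), (nat_lit 11)],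
  [(nat_lit 3)],
  [(nat_lit 3), (nat_lit 5), (nat_lit 11)],
  [(nat_lit 3), (nat_lit 7), (nat_lit 11)],
  [(nat_lit 9)],
  [(nat_lit 11)]]]
noncomputable def r_vs : List (List (List Nat)) := [[],
  [],
  [],
  [],
  [],
  []]
noncomputable def v_V : List (List Nat) := [[(nat_lit 93775697), (nat_lit 40442030)],
  [(nat_lit 61004597), (nat_lit 73213130)],
  [(nat_lit 50017065), (nat_lit 84200662)],
  [(nat_lit 11394439), (nat_lit 122823288)],
  [(nat_lit 71274733), (nat_lit 62942994)],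
  [(nat_lit 67827986), (nat_lit 66389741)]]
noncomputable def v_s : Net := (Net.cons (nat_lit 1) (nat_lit 17104960) (Net.cons (nat_lit 2) (nat_lit 3355392) (Net.cons (nat_lit 4) (nat_lit 655618) (Net.cons (nat_lit 8) (nat_lit 168) (Net.cons (nat_lit 16) (nat_lit 1465) (Net.cons (nat_lit 8) (nat_lit 196650) (Net.cons (nat_lit 4) (nat_lit 852999) (Net.cons (nat_lit 2) (nat_lit 16986145) (Net.cons (nat_lit 1) (nat_lit 21304401) Net.nil)))))))))
noncomputable def v_N_0 : Net := (Net.cons (nat_lit 1) (nat_lit 16777488) (Net.cons (nat_lit 2) (nat_lit 4128) (Net.cons (nat_lit 4) (nat_lit 66048) (Net.cons (nat_lit 8) (nat_lit 16) (Net.cons (nat_lit 16) (nat_lit 16) (Net.cons (nat_lit 8) (nat_lit 48) (Net.cons (nat_lit 4) (nat_lit 67080) (Net.cons (nat_lit 2) (nat_lit 16781344) (Net.cons (nat_lit 1) (nat_lit 16777489) Net.nil)))))))))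
noncomputable def v_N_1 : Net := (Net.cons (nat_lit 1) (nat_lit 17472) (Net.cons (nat_lit 4) (nat_lit 8) (Net.cons (nat_lit 2) (nat_lit 69889) (Net.cons (nat_lit 1) (nat_lit 16794688) Net.nil))))
noncomputable def v_N_2 : Net := (Net.cons (nat_lit 1) (nat_lit 16777488) (Net.cons (nat_lit 2) (nat_lit 3276816) (Net.cons (nat_lit 4) (nat_lit 655872) (Net.cons (nat_lit 8) (nat_lit 128) (Net.cons (nat_lit 16) (nat_lit 128) (Net.cons (nat_lit 8) (nat_lit 131232) (Net.cons (nat_lit 4) (nat_lit 918028) (Net.cons (nat_lit 2) (nat_lit 3276816) (Net.cons (nat_lit 1) (nat_lit 16777488) Net.nil)))))))))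
noncomputable def v_N_3 : Net := (Net.cons (nat_lit 1) (nat_lit 84) (Net.cons (nat_lit 4) (nat_lit 10) (Net.cons (nat_lit 2) (nat_lit 131073) (Net.cons (nat_lit 1) (nat_lit 5242964) Net.nil))))
noncomputable def v_N_4 : Net := (Net.cons (nat_lit 1) (nat_lit 17408) (Net.cons (nat_lit 4) (nat_lit 2560) (Net.cons (nat_lit 8) (nat_lit 160) (Net.cons (nat_lit 4) (nat_lit 3840) (Net.cons (nat_lit 2) (nat_lit 3145728) (Net.cons (nat_lit 1) (nat_lit 17408) Net.nil))))))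
noncomputable def v_N_5 : Net := (Net.cons (nat_lit 1) (nat_lit 1310720) (Net.cons (nat_lit 2) (nat_lit 1048576) (Net.cons (nat_lit 4) (nat_lit 589824) (Net.cons (nat_lit 8) (nat_lit 144) (Net.cons (nat_lit 16) (nat_lit 144) (Net.cons (nat_lit 8) (nat_lit 144) (Net.cons (nat_lit 4) (nat_lit 984576) (Net.cons (nat_lit 2) (nat_lit 1048576) (Net.cons (nat_lit 1) (nat_lit 1310720) Net.nil)))))))))
noncomputable def v_N : List Net := [v_N_0, v_N_1, v_N_2, v_N_3, v_N_4, v_N_5]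
noncomputable def v_cg : List Lvl := [⟨(nat_lit 0), [[(nat_lit 9), (nat_lit 5), (nat_lit 7), (nat_lit 5), (nat_lit 3), (nat_lit 1), (nat_lit 11), (nat_lit 9), (nat_lit 5), (nat_lit 7)],
  [(nat_lit 7)]], (nat_lit 8)⟩,
  ⟨(nat_lit 2), [[(nat_lit 5), (nat_lit 3), (nat_lit 1), (nat_lit 7), (nat_lit 11), (nat_lit 9), (nat_lit 5), (nat_lit 7), (nat_lit 3)],
  [(nat_lit 5)]], (nat_lit 4)⟩,
  ⟨(nat_lit 5), [[(nat_lit 5), (nat_lit 3), (nat_lit 1), (nat_lit 7), (nat_lit 11), (nat_lit 9), (nat_lit 5), (nat_lit 7), (nat_lit 3), (nat_lit 9), (nat_lit 5)],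
  [(nat_lit 9)]], (nat_lit 4)⟩,
  ⟨(nat_lit 9), [[(nat_lit 11)],
  [(nat_lit 9), (nat_lit 5), (nat_lit 3), (nat_lit 1), (nat_lit 7), (nat_lit 11), (nat_lit 9), (nat_lit 5), (nat_lit 7), (nat_lit 3), (nat_lit 9), (nat_lit 5), (nat_lit 11), (nat_lit 9)]], (nat_lit 3)⟩,
  ⟨(nat_lit 1), [[(nat_lit 11), (nat_lit 9), (nat_lit 1), (nat_lit 3), (nat_lit 5), (nat_lit 3), (nat_lit 1), (nat_lit 9), (nat_lit 11)]], (nat_lit 1)⟩]

theorem c_hq : lall2 eq0 c_hs (rws w0 (I8.l_p :: c_ps)) = true := by decide +kernel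
theorem c_sub : sub (pws N (I8.l_p :: c_ps)) (Nat.land I8.n_x0 (cw N Q I8.l_p)) = true := by decide +kernel
theorem c_inc : incOK c_pi 3510 63 = true := by decide +kernel
theorem c_wf : wfAll c_N 63 = true := by decide +kernel
theorem c_tab_0 : allFrom (tabOK c_N 63 6 6 10 c_TT) 0 16 = true := by decide +kernel
theorem c_tab_16 : allFrom (tabOK c_N 63 6 6 10 c_TT) 16 1 = true := by decide +kernel
theorem c_tabs : Tabs c_N 63 10 6 c_TT 16 :=
  tabs_of (k := 6) (wf_of_wfAll c_wf) (by decide) (by decide) (by decide) (lt_add_all (lt_add_all lt_zero_all 16 c_tab_0) 1 c_tab_16)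
theorem c_s_0 : allFrom (subT (evT TT (nat_lit 60) (nat_lit 10) (nat_lit 1023) (nat_lit 12) (nat_lit 4095)) (recT c_TT (nat_lit 10) (nat_lit 1023) (nat_lit 6) (nat_lit 63)) c_pi c_hs (nat_lit 63)) 0 8 = true := by decide +kernel
theorem c_in : ptsIn c_pi (cw N Q I8.l_p) 63 = true := by decide +kernel
theorem c_cgok : cgOK c_N 63 c_cg 1451520 = true := by decide +kernel
theorem d_la : linAll (tabP 2) 63 6 d_V d_As c_N d_C 8 = true := by decide +kernel
theorem d_lin : LinOK (tabP 2) 63 6 8 d_V d_As c_N :=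
  ⟨⟨d_s, by decide +kernel⟩, by decide +kernel, c_wf, rfl,
    d_C, by decide +kernel, rfl, linAll_iff.1 d_la⟩
theorem d_eq : Nonempty (PG c_N ≃* Cfsg.PSp 3 (ZMod 2)) :=
  PG.equiv (LinOK.hasReps_PSp (r := 3) d_lin (tabP_ok _ 2 (by decide)) (c := 1) (by decide +kernel) (by decide)
    (by decide +kernel)) (by decide) c_cgok card_Sp62.le
theorem i_pop : Nat.beq (pop 3510 I8.n_x0) 360 = true := by decide +kernel
theorem i_lt : blt I8.n_x0 (Nat.pow 2 3510) = true := by decide +kernel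
theorem z1 : sub (pws N zs) v2 = true := by decide +kernel
theorem z2 : sub (cws N Q v2 zs) (pw N I8.l_p) = true := by decide +kernel
theorem z3 : sub v2 (cw N Q I8.l_p) = true := by decide +kernel
theorem z4 : inB N v2 I8.l_p = true := by decide +kernel
theorem n_root : n_T.root N n_d [] [] 3317760 = true := by decide +kernel
theorem n_ivok : lall2 (ivOK N pI vI) n_iv n_ivg = true := by decide +kernel
theorem n_lfok : lall2 (lfOK N 3510 Q bs) n_lf n_lfw = true := by decide +kernel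
theorem n_cl0 : closedW N n_kg n_x0 = true := by decide +kernel
theorem a_cen_0 : allFrom (cenAt (eqLq eq0) 2 a_gs a_pc) 0 6 = true := by decide +kernel
theorem a_cen : ∀ i < 6, cenAt (eqLq eq0) 2 a_gs a_pc i = true := (lt_add_all lt_zero_all 6 a_cen_0)
theorem a_u_inc : incOK a_u_pi 3510 12 = true := by decide +kernel
theorem a_u_wf : wfAll a_u_N 12 = true := by decide +kernel
theorem a_u_tab_0 : allFrom (tabOK a_u_N 12 4 4 10 a_u_TT) 0 13 = true := by decide +kernel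
theorem a_u_tabs : Tabs a_u_N 12 10 4 a_u_TT 12 :=
  tabs_of (k := 4) (wf_of_wfAll a_u_wf) (by decide) (by decide) (by decide) (lt_add_all lt_zero_all 13 a_u_tab_0)
theorem a_u_s_0 : allFrom (subT (evT TT (nat_lit 60) (nat_lit 10) (nat_lit 1023) (nat_lit 12) (nat_lit 4095)) (recT a_u_TT (nat_lit 10) (nat_lit 1023) (nat_lit 4) (nat_lit 15)) a_u_pi a_hs (nat_lit 12)) 0 6 = true := by decide +kernel
theorem a_ge : geOK a_u_N 12 (gensW 6) a_c 64 = true := by decide +kernel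
theorem a_mem : memOK (eqLq eq0) a_gs a_hs [[(nat_lit 1)],  [(nat_lit 3)],  [(nat_lit 5)],  [(nat_lit 7)],  [(nat_lit 9)],  [(nat_lit 11)]] = true := by decide +kernel
theorem r_act_0 : allFrom (actAt (eqLq eq0) 2 a_gs 0 6 a_W r_As r_us) 0 6 = true := by decide +kernel
theorem r_nrm : nrmOK (eqLq eq0) a_W (ldrop 6 a_gs) r_vs = true := by decide +kernel
theorem v_vec : VecOK (tabP 2) 27 6 6 v_V v_s r_As v_N :=
  ⟨by decide +kernel, by decide +kernel, rfl, by decide +kernel⟩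
theorem v_wf : wfAll v_N 27 = true := by decide +kernel
theorem v_cgok : cgOK v_N 27 v_cg 51840 = true := by decide +kernel
theorem v_ge : 51840 ≤ Nat.card (PG v_N) := PG.card_ge (wf_of_wfAll v_wf) (by decide) v_cgok
theorem v_e6 : e6OK (sameW v_N 27 5) = true := by decide +kernel
theorem fx1 : Nat.beq (fixB FA.N 3510 12 [61]) I8.n_x0 = true := by decide +kernel
theorem fx2 : Nat.beq (fixB FA.N 3510 12 FA.L2.s2) v2 = true := by decide +kernel
theorem fx3 : Nat.beq (fixB FA.N 3510 12 FA.L2.s3) n_x0 = true := by decide +kernel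
theorem w_com : comOK FA.eq0 (lapp a_W a_gs) [FA.L2.s3] = true := by decide +kernel

variable {G : Type*} [Group G] {D : Set G} {E : Dom (Cj G) 3510} {f : ℕ → G} {NN : List Net}

open Cfsg Matrix

theorem c_reps (M : M22 D E f) : Reps (Dom.lst E c_pi c_inc) c_N (evs f c_hs) :=
  Reps.subT M.reps tabs (by decide) (wf_of_wfAll c_wf) c_tabs (l := 8) (by decide) rfl rfl c_inc
    (by decide) (by decide) (by decide) (by decide) (lt_add_all lt_zero_all 8 c_s_0)
theorem n_le (M : X22 N D E f) : Nat.card (Subgroup.normalizer (sv E n_x0)) ≤ 3317760 :=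
  have := M.finite
  (M.cxSet (d := n_d) rfl rfl rfl rfl (by decide) rfl rfl rfl rfl rfl rfl n_cl0 (M.iv n_ivok) (M.lfs n_lfok _)).card_le n_root
theorem a_u_reps (M : M22 D E f) : Reps (Dom.lst E a_u_pi a_u_inc) a_u_N (evs f a_hs) :=
  Reps.subT M.reps tabs (by decide) (wf_of_wfAll a_u_wf) a_u_tabs (l := 6) (by decide) rfl rfl a_u_inc
    (by decide) (by decide) (by decide) (by decide) (lt_add_all lt_zero_all 6 a_u_s_0)
theorem a_cens (M : M22 D E f) : CenS f 2 a_gs :=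
  have := M.finite
  ⟨M.sm0.eqLq.cenR (l := 6) rfl a_cen, by norm_num,
    (Reps.card_geT (a_u_reps M) (by decide) rfl a_ge).trans (card_le_of_le (M.sm0.eqLq.le a_mem))⟩
theorem r_sec (M : M22 D E f) : Sec f 2 a_gs 0 (0 + 6) :=
  M.sm0.eqLq.sec (l := 6) rfl a_cen (by decide +kernel)
theorem r_rho (M : M22 D E f) : ∃ c ρ, RhoW f 2 a_gs 0 6 6 a_W r_As c ρ :=
  have := M.finite
  M.sm0.eqLq.rho (a_cens M) (r_sec M) rfl (lt_add_all lt_zero_all 6 r_act_0) r_nrm
theorem v_psi (M : M22 D E f) : ∃ ψ, PsiW f a_gs a_W v_N ψ :=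
  have ⟨_, _, h⟩ := r_rho M
  (h.vec v_vec).imp fun _ h => h.1

theorem cent (M : M22 D E f) {d : G} (hd : d ∈ sv E I8.n_x0) :
    Nonempty (↥(closure (sv E I8.n_x0) ⊓ centralizer {d}) ≃* Multiplicative (ZMod 2) × PSp 3 (ZMod 2)) := by
  have := M.finite
  obtain ⟨h1, χ, h2, -⟩ := I8.tri M
  obtain ⟨φ, h3, h4⟩ := Reps.onto (c_reps M) d_eq
  have h5 := M.sm0.clo_eq c_hq
  obtain ⟨-, h6, h7⟩ := M.tr I8.l_tr
  exact h2.cent h6 h7 (h5.le.trans (M.le_inf c_sub)) (h5.ge (cw0_mem_rws (by simp))) h3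
    ((h4 _).2 (lst_fix c_inc c_in fun y hy => ((M.perp_cw0 _).ge hy).2))
    (by rw [I8.card M, M.ncard_sv (blt_iff.1 i_lt), beq_iff.1 i_pop, card_Sp62]) hd

theorem comm (M : M22 D E f) {g : G} (hg : g ∈ normalizer (sv E v2)) : Commute g (cw0 f w0 I8.l_p) :=
  commute_iff_conj'.2 ((M.sv_pw _).le (sv_mono E z2 ((M.mem_cws _ _).2 ⟨(hg _).1 (M.mem_of_inB z4), fun z hz => by
    simpa [mul_assoc] using (((M.perp_cw0 _).ge (sv_mono E z3 ((inv_mem hg _).1
      (sv_mono E z1 ((M.sv_pws _).ge ⟨z, hz, rfl⟩))))).2.symm.conj g)⟩)))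

theorem eqv : Nonempty (PG v_N ≃* O6m) :=
  PG.e6 (wf_of_wfAll v_wf) (PG.isSm (wf_of_wfAll v_wf) (by decide) (by decide)) v_e6 rfl v_ge

variable {E' : Dom (Cj (MulAut G)) 3510} {f' : ℕ → MulAut G}

theorem fix1 (M : M22 D E f) (L : Lk E f 30 E' f') (A : FA.MA ∅ E' f') : Fx D (f' 30) = sv E I8.n_x0 := by
  rw [← ev_single f' 30, ← L.fix M.toTM A.reps (k := 12) (by decide), beq_iff.1 fx1]

theorem fxs1 (M : M22 D E f) (L : Lk E f 30 E' f') (A : FA.MA ∅ E' f') : fxs (f' 30) = closure (sv E I8.n_x0) :=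
  le_antisymm (fun _ h => (I8.nrm M).ge (fix1 M L A ▸ norm_Fx M.cjD h)) (fix1 M L A ▸ closure_Fx _)

theorem ord1 (A : FA.MA ∅ E' f') : orderOf (f' 30) = 2 :=
  ev_single f' 30 ▸ A.sm0.ord (by norm_num) (w := [61]) (by decide +kernel)

theorem out (M : M22 D E f) (L : Lk E f 30 E' f') (A : FA.MA ∅ E' f') :
    f' 30 ∉ (MulAut.conj : G →* MulAut G).range := fun ⟨g, e⟩ => by
  obtain ⟨-, χ, h, -⟩ := I8.tri M
  have h1 := fxs1 M L A
  rw [← e] at h1
  have h3 : (⟨g, h1.le (mul_inv_cancel_right g g)⟩ : ↥(Subgroup.closure (sv E I8.n_x0))) = 1 := h.center.le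
    (mem_center_iff.2 fun x => Subtype.ext (mul_inv_eq_iff_eq_mul.1 (h1.ge x.2)).symm)
  have h2 : g = 1 := congrArg Subtype.val h3
  simpa [← e, h2] using ord1 A

theorem inv (M : M22 D E f) (L : Lk E f 30 E' f') (A : FA.MA ∅ E' f') : ∀ φ : MulAut G, ∀ d ∈ D, φ d ∈ D :=
  have := M.finite
  L.inv M.toTM A.reps rfl (FA.card_aut22 M) (out M L A)

theorem ev2 (L : Lk E f 30 E' f') : ev f' FA.L2.s2 = f' 30 * MulAut.conj (cw0 f w0 FA.L2.pa) := by
  rw [FA.L2.s2, ev_cons, L.cw0 (by decide +kernel), evL_odd f' 30]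

theorem ev3 (L : Lk E f 30 E' f') :
    ev f' FA.L2.s3 = f' 30 * MulAut.conj (cw0 f w0 FA.L2.pa * cw0 f w0 FA.L2.pb) := by
  rw [FA.L2.s3, ev_lapp, ev2 L, L.cw0 (by decide +kernel), map_mul, mul_assoc]

theorem ext (M : M22 D E f) (L : Lk E f 30 E' f') (A : FA.MA ∅ E' f') : ∃ R : Subgroup G,
    Ext (fxs (ev f' FA.L2.s3)) R O6m ∧ IsElementaryAbelian 2 R ∧ Nat.card R = 64 := by
  have := M.finite
  obtain ⟨ψ, hψ⟩ := v_psi M
  refine ⟨_, (hψ.psi.ext (fun x hx => (aut_comm L.hz).1 (mem_centralizer_singleton_iff.1 (A.sm0.com_le1 w_com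
    ((L.clo (by decide +kernel)).ge ⟨x, hx, rfl⟩))).symm) ((card_le_of_le fun g hg => ?_).trans ((n_le M.x).trans ?_))).2.1.congr eqv,
    tl_zero (f := f) ▸ (r_sec M).elAb (a_cens M) rfl, (a_cens M).card0⟩
  · rw [← beq_iff.1 fx3, L.fix M.toTM A.reps (by decide)]; exact norm_Fx M.cjD hg
  · rw [(a_cens M).card0]; exact Nat.mul_le_mul_left (2 ^ 6) v_ge

theorem cls (M : M22 D E f) (L : Lk E f 30 E' f') (A : FA.MA ∅ E' f') {u w : List ℕ}
    (h : IsConj (ev f' u) (ev f' w)) : nfix FA.N 3510 12 u = nfix FA.N 3510 12 w := by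
  rw [← L.ncard M.toTM A.reps (by decide), ← L.ncard M.toTM A.reps (by decide), ncard_Fx (inv M L A) h]

end CF.Fisch.F22.A2
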