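import Cfsg.Agent.Fisch.F22.Tb
import Cfsg.Agent.Fisch.St.Cw

set_option autoImplicit false
set_option maxRecDepth 1000000
set_option maxHeartbeats 0
set_option Elab.async false

namespace CF.Fisch.F22.L3

open CF.Comp CF.Fisch CF.Fisch.F22 Subgroup
open scoped Pointwise

noncomputable def x0 : List Nat := [(nat_lit 56)]
noncomputable def x1 : List Nat := [(nat_lit 27)]
noncomputable def x2 : List Nat := [(nat_lit 49), (nat_lit 3), (nat_lit 49), (nat_lit 3)]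
noncomputable def x3 : List Nat := [(nat_lit 41), (nat_lit 35), (nat_lit 3)]
noncomputable def a_gs : List (List Nat) := [[(nat_lit 24), (nat_lit 21), (nat_lit 31), (nat_lit 24), (nat_lit 5), (nat_lit 3), (nat_lit 22), (nat_lit 27), (nat_lit 23), (nat_lit 21), (nat_lit 24), (nat_lit 5), (nat_lit 23), (nat_lit 31), (nat_lit 22), (nat_lit 24), (nat_lit 32), (nat_lit 29), (nat_lit 29), (nat_lit 33)],
  [(nat_lit 5), (nat_lit 23), (nat_lit 21), (nat_lit 1), (nat_lit 7), (nat_lit 5), (nat_lit 3), (nat_lit 28), (nat_lit 9), (nat_lit 23), (nat_lit 21), (nat_lit 24), (nat_lit 5), (nat_lit 22), (nat_lit 23), (nat_lit 32), (nat_lit 28), (nat_lit 23), (nat_lit 28), (nat_lit 31), (nat_lit 30)],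
  [(nat_lit 35), (nat_lit 29), (nat_lit 21), (nat_lit 24), (nat_lit 5), (nat_lit 3), (nat_lit 28), (nat_lit 23), (nat_lit 7), (nat_lit 27), (nat_lit 5), (nat_lit 23), (nat_lit 21), (nat_lit 24), (nat_lit 5), (nat_lit 23), (nat_lit 28), (nat_lit 21), (nat_lit 23), (nat_lit 26), (nat_lit 27), (nat_lit 29), (nat_lit 33)],
  [(nat_lit 3), (nat_lit 24), (nat_lit 32), (nat_lit 28), (nat_lit 5), (nat_lit 23), (nat_lit 21), (nat_lit 1), (nat_lit 7), (nat_lit 5), (nat_lit 3), (nat_lit 24), (nat_lit 5), (nat_lit 1), (nat_lit 21), (nat_lit 24), (nat_lit 26), (nat_lit 30), (nat_lit 35)],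
  [(nat_lit 17), (nat_lit 31), (nat_lit 22), (nat_lit 24), (nat_lit 1), (nat_lit 5), (nat_lit 3), (nat_lit 24), (nat_lit 22), (nat_lit 7), (nat_lit 5), (nat_lit 21), (nat_lit 23), (nat_lit 26), (nat_lit 31), (nat_lit 26), (nat_lit 32), (nat_lit 30), (nat_lit 30)],
  [(nat_lit 31), (nat_lit 24), (nat_lit 3), (nat_lit 1), (nat_lit 5), (nat_lit 3), (nat_lit 24), (nat_lit 22), (nat_lit 24), (nat_lit 5), (nat_lit 1), (nat_lit 27), (nat_lit 21), (nat_lit 24), (nat_lit 26), (nat_lit 28), (nat_lit 30), (nat_lit 30), (nat_lit 35)],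
  [(nat_lit 28), (nat_lit 23), (nat_lit 13), (nat_lit 27), (nat_lit 23), (nat_lit 21), (nat_lit 24), (nat_lit 1), (nat_lit 5), (nat_lit 3), (nat_lit 7), (nat_lit 9), (nat_lit 5), (nat_lit 23), (nat_lit 21), (nat_lit 24), (nat_lit 5), (nat_lit 23), (nat_lit 32), (nat_lit 26), (nat_lit 32), (nat_lit 32), (nat_lit 30)],
  [(nat_lit 5), (nat_lit 22), (nat_lit 23), (nat_lit 28), (nat_lit 21), (nat_lit 3), (nat_lit 1), (nat_lit 7), (nat_lit 5), (nat_lit 3), (nat_lit 22), (nat_lit 24), (nat_lit 27), (nat_lit 15), (nat_lit 7), (nat_lit 5), (nat_lit 27), (nat_lit 24), (nat_lit 21), (nat_lit 23), (nat_lit 25), (nat_lit 30), (nat_lit 31), (nat_lit 31)],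
  [(nat_lit 11), (nat_lit 29), (nat_lit 28), (nat_lit 5), (nat_lit 3), (nat_lit 1), (nat_lit 7), (nat_lit 5), (nat_lit 3), (nat_lit 19), (nat_lit 24), (nat_lit 27), (nat_lit 7), (nat_lit 5), (nat_lit 32), (nat_lit 24), (nat_lit 27), (nat_lit 23), (nat_lit 26), (nat_lit 27), (nat_lit 25)]]
noncomputable def a_zs : List (List Nat) := [[(nat_lit 23), (nat_lit 5), (nat_lit 23), (nat_lit 3), (nat_lit 1), (nat_lit 9), (nat_lit 7), (nat_lit 5), (nat_lit 3), (nat_lit 28), (nat_lit 21), (nat_lit 24), (nat_lit 5), (nat_lit 23), (nat_lit 32), (nat_lit 28), (nat_lit 24), (nat_lit 27), (nat_lit 31), (nat_lit 27), (nat_lit 31), (nat_lit 30)],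
  [(nat_lit 23), (nat_lit 26), (nat_lit 35), (nat_lit 31), (nat_lit 3), (nat_lit 5), (nat_lit 7), (nat_lit 22), (nat_lit 24), (nat_lit 5), (nat_lit 3), (nat_lit 28), (nat_lit 19), (nat_lit 24), (nat_lit 5), (nat_lit 1), (nat_lit 21), (nat_lit 24), (nat_lit 35), (nat_lit 27), (nat_lit 25), (nat_lit 30)]]
noncomputable def a_pc : List PcS := [⟨(nat_lit 3), [(nat_lit 10), (nat_lit 11), (nat_lit 16)], []⟩,
  ⟨(nat_lit 3), [], [[(nat_lit 3), (nat_lit 5), (nat_lit 7), (nat_lit 9), (nat_lit 13)]]⟩,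
  ⟨(nat_lit 3), [], [[(nat_lit 2)],
  [(nat_lit 10)]]⟩,
  ⟨(nat_lit 3), [], [[(nat_lit 5), (nat_lit 8), (nat_lit 10)],
  [(nat_lit 3), (nat_lit 8), (nat_lit 9)],
  [(nat_lit 3), (nat_lit 5), (nat_lit 8), (nat_lit 9)]]⟩,
  ⟨(nat_lit 3), [], [[(nat_lit 2), (nat_lit 4), (nat_lit 6), (nat_lit 7)],
  [(nat_lit 2), (nat_lit 7)],
  [(nat_lit 1), (nat_lit 4), (nat_lit 5)],
  [(nat_lit 7)]]⟩,
  ⟨(nat_lit 3), [], [[(nat_lit 3)],
  [],
  [(nat_lit 3)],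
  [(nat_lit 5)],
  [(nat_lit 6)]]⟩,
  ⟨(nat_lit 3), [], [[(nat_lit 1)],
  [(nat_lit 1)],
  [(nat_lit 2)],
  [(nat_lit 4)],
  [],
  []]⟩,
  ⟨(nat_lit 3), [], [[(nat_lit 2)],
  [],
  [],
  [],
  [],
  [],
  []]⟩,
  ⟨(nat_lit 3), [], [[],
  [],
  [],
  [],
  [],
  [],
  [],
  []]⟩]
noncomputable def a_zu : List (List (List Nat)) := [[[(nat_lit 1), (nat_lit 4), (nat_lit 5), (nat_lit 11), (nat_lit 16), (nat_lit 18)],
  [(nat_lit 2), (nat_lit 10), (nat_lit 14), (nat_lit 16)],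
  [(nat_lit 2), (nat_lit 11)],
  [(nat_lit 2), (nat_lit 6), (nat_lit 8), (nat_lit 9)],
  [(nat_lit 2), (nat_lit 4), (nat_lit 6), (nat_lit 7)],
  [(nat_lit 1), (nat_lit 6), (nat_lit 8)],
  [(nat_lit 1), (nat_lit 4)],
  [(nat_lit 2)],
  [(nat_lit 2)]],
  [[(nat_lit 2), (nat_lit 8), (nat_lit 9), (nat_lit 12), (nat_lit 13), (nat_lit 16)],
  [(nat_lit 2)],
  [(nat_lit 2)],
  [(nat_lit 1), (nat_lit 5), (nat_lit 8), (nat_lit 12)],
  [(nat_lit 1), (nat_lit 9)],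
  [(nat_lit 2)],
  [(nat_lit 2)],
  [(nat_lit 1)],
  [(nat_lit 2)]]]
noncomputable def a_hs : List (List Nat) := [[(nat_lit 24), (nat_lit 21), (nat_lit 31), (nat_lit 24), (nat_lit 5), (nat_lit 3), (nat_lit 22), (nat_lit 27), (nat_lit 23), (nat_lit 21), (nat_lit 24), (nat_lit 5), (nat_lit 23), (nat_lit 31), (nat_lit 22), (nat_lit 24), (nat_lit 32), (nat_lit 29), (nat_lit 29), (nat_lit 33)],
  [(nat_lit 5), (nat_lit 23), (nat_lit 21), (nat_lit 1), (nat_lit 7), (nat_lit 5), (nat_lit 3), (nat_lit 28), (nat_lit 9), (nat_lit 23), (nat_lit 21), (nat_lit 24), (nat_lit 5), (nat_lit 22), (nat_lit 23), (nat_lit 32), (nat_lit 28), (nat_lit 23), (nat_lit 28), (nat_lit 31), (nat_lit 30)],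
  [(nat_lit 35), (nat_lit 29), (nat_lit 21), (nat_lit 24), (nat_lit 5), (nat_lit 3), (nat_lit 28), (nat_lit 23), (nat_lit 7), (nat_lit 27), (nat_lit 5), (nat_lit 23), (nat_lit 21), (nat_lit 24), (nat_lit 5), (nat_lit 23), (nat_lit 28), (nat_lit 21), (nat_lit 23), (nat_lit 26), (nat_lit 27), (nat_lit 29), (nat_lit 33)]]
noncomputable def a_u_N_0 : Net := (Net.cons (nat_lit 1) (nat_lit 0x414451054505540054405410050) (Net.cons (nat_lit 2) (nat_lit 0x200013302132201332203220030) (Net.cons (nat_lit 4) (nat_lit 0x809010d030204030908020408) (Net.cons (nat_lit 8) (nat_lit 0xf001000d100aa00e000da0080) (Net.cons (nat_lit 16) (nat_lit 0xe4620000eab300000480) (Net.cons (nat_lit 32) (nat_lit 0x61f00000000cf852000) (Net.cons (nat_lit 64) (nat_lit 0x8fbdfed2e04) (Net.cons (nat_lit 32) (nat_lit 0x700000000003ec22784) (Net.cons (nat_lit 16) (nat_lit 0xb61d000022270000f99e) (Net.cons (nat_lit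 8) (nat_lit 0x20084006000a300fe00af009c) (Net.cons (nat_lit 4) (nat_lit 0x200050c020300040b0f0c0d06) (Net.cons (nat_lit 2) (nat_lit 0x202202002223201000230213310) (Net.cons (nat_lit 1) (nat_lit 0x451444514010044544455004555) Net.nil)))))))))))))
noncomputable def a_u_N_1 : Net := (Net.cons (nat_lit 1) (nat_lit 0x145050015004115401400104110) (Net.cons (nat_lit 2) (nat_lit 0x302120312121301030300120330) (Net.cons (nat_lit 4) (nat_lit 0x40a040f0c0305070c0a040308) (Net.cons (nat_lit 8) (nat_lit 0x700c0001500630000006000c0) (Net.cons (nat_lit 16) (nat_lit 0xa5750000204a00000462) (Net.cons (nat_lit 32) (nat_lit 0x408000000000c110000) (Net.cons (nat_lit 64) (nat_lit 0x2c90c15a522) (Net.cons (nat_lit 32) (nat_lit 0xe63000000000c0169d2) (Net.cons (nat_lit 16) (nat_lit 0xcd7c0000265300008420) (Net.cons (nat_lit 8) (nat_lit 0xd0040001f00290041004400f0) (Net.cons (nat_lit 4) (nat_lit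 0xe0a08040c0305070d0e06020b) (Net.cons (nat_lit 2) (nat_lit 0x300100320121300010302120332) (Net.cons (nat_lit 1) (nat_lit 0x101050151005115401400100550) Net.nil)))))))))))))
noncomputable def a_u_N_2 : Net := (Net.cons (nat_lit 1) (nat_lit 0x504444441115511501445410540) (Net.cons (nat_lit 2) (nat_lit 0x22300332323020230310000130) (Net.cons (nat_lit 4) (nat_lit 0xf020c0f03050c0d0801000c08) (Net.cons (nat_lit 8) (nat_lit 0xc008800880084000a00820000) (Net.cons (nat_lit 16) (nat_lit 0x1c55000020b900000026) (Net.cons (nat_lit 32) (nat_lit 0x40000000060068000) (Net.cons (nat_lit 64) (nat_lit 0x2887e569267) (Net.cons (nat_lit 32) (nat_lit 0x2360000000048d318ae) (Net.cons (nat_lit 16) (nat_lit 0x76f600000983000015c0) (Net.cons (nat_lit 8) (nat_lit 0xb00ac00e50012007a003000f9) (Net.cons (nat_lit 4) (nat_lit 0xa0807050b0a080407090f070f) (Net.cons (nat_lit 2) (nat_lit 0x301030031121201221130201310)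 (Net.cons (nat_lit 1) (nat_lit 0x114145011104514111050010555) Net.nil)))))))))))))
noncomputable def a_u_N : List Net := [a_u_N_0, a_u_N_1, a_u_N_2]
noncomputable def a_u_pt : BT Nat := (BT.leaf (nat_lit 0xdb6d78d1fd07c9bc05ba0b72b6ab2db28b27b0cae1abfa7da7ba4da43a079f29f199c98097995b95391f8da8ac88184d80f7ee7e77df7c779f79677b7776ec6e96e16d76b56b46a169b69366e6646406055d65d45c95c25a858757557357157055c5225184dd4b54b14ac49947346543742241140139839738d38738636634b34734433032a3283022472292121e21a419a0f90d10c009408e07206a03602201a00a003))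
noncomputable def a_u_pi : Nat → Nat := BT.record a_u_pt (nat_lit 10) (nat_lit 1023) (nat_lit 12) (nat_lit 4095)
noncomputable def a_u_t0 : BT Nat := (BT.leaf (nat_lit 0xd7ab4e8cf9b2e4c78b0e0bf7aedcb76acd8af5aad4a74a8d09f3a6cc972a4c88f1a2c4870a0c07ef9ebc76e9cb86ed9ab466c98b05eb96ac56a94a84e992a446890a03e78e9c3668c982e58a9426488901e3868c16284880e182840608080))
noncomputable def a_u_t1 : BT Nat := (BT.leaf (nat_lit 0x32f99c758f1a0975019254ed56c204a2539b24ed683da72c416eca57aabd0e0d57e4db98dd21fa736a17c93ef529656ea036e30eb246242acd04d087f9ec11c675b2bac0518415886431a3a70706b8b30b89a8d038c628f7b194a20a40006))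
noncomputable def a_u_t2 : BT Nat := (BT.leaf (nat_lit 0x611e9544cae8bb46698c88ce5a8f8956ba5987e5bd7ee068c7455f436f662add0184d031715624fa83e69d8ec328486f65d384510944aee740b02dabe3b0413a124b4814d10b66a75ae7845b4dacbd2021058b999e6f228280019c276cf01))
noncomputable def a_u_t3 : BT Nat := (BT.leaf (nat_lit 0x994b4b29e689e44373099d17aebcb60c64ac12f2d4a6feb582a2d9c8a3411eb711a2b95b0a0c0d4f98e276e97a76ed9ada3d7c34388b984e10a95a08e9aca42c887053f34e9c283eb982f27381aa48890cd8c6a5581c4a900f54046808d8a))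
noncomputable def a_u_t4 : BT Nat := (BT.leaf (nat_lit 0x90ff4df2a3eae41cf30d7657aee2b6d12d033449d4a7aa5caceb0f6bad60b4c4f1a2af610a0c0a4f835c76ea2476ed9a839ba1ead72ba18b52a84057098624928b1a83ecce9c039b0182e8e79bca4889034846d99c004ab14c5004b408a07))
noncomputable def a_u_t5 : BT Nat := (BT.leaf (nat_lit 0x3193334cb8ea08d2f0a92b528662b08a457b74636734125e0aa01eddac64b909b3ddb05c6d494823e3dc6c756b35915ca4620dc0286bda8aa499f853c475e8817df281618e3a2c3af2503089a3c341559434e74c0edd96a3e9d02b131248d))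
noncomputable def a_u_t6 : BT Nat := (BT.leaf (nat_lit 0x4a231a4a9a73eacd709d0446663caf7c85bb12e7e51caeb128c3638ca3780d97b55b025e59fa352866e28a71ab114ed6e870259c45d0dcb708460a00ca8c3429687850e9dd1d854e56b926f0c02b813487c6805d3eb01e4167945264c0bce))
noncomputable def a_u_TT : BT (BT Nat) := (BT.node (nat_lit 3) (BT.node (nat_lit 1) (BT.leaf a_u_t0) (BT.node (nat_lit 2) (BT.leaf a_u_t1) (BT.leaf a_u_t2))) (BT.node (nat_lit 5) (BT.node (nat_lit 4) (BT.leaf a_u_t3) (BT.leaf a_u_t4)) (BT.node (nat_lit 6) (BT.leaf a_u_t5) (BT.leaf a_u_t6))))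
noncomputable def a_c : List Lvl := [⟨(nat_lit 0), [[(nat_lit 5)],
  [(nat_lit 1)]], (nat_lit 6)⟩,
  ⟨(nat_lit 1), [[(nat_lit 1), (nat_lit 3), (nat_lit 2)],
  [(nat_lit 6), (nat_lit 2), (nat_lit 5), (nat_lit 2)]], (nat_lit 2)⟩,
  ⟨(nat_lit 3), [[(nat_lit 2), (nat_lit 5), (nat_lit 3), (nat_lit 6), (nat_lit 1)]], (nat_lit 2)⟩,
  ⟨(nat_lit 4), [[(nat_lit 1), (nat_lit 6), (nat_lit 3), (nat_lit 5), (nat_lit 2)]], (nat_lit 2)⟩,
  ⟨(nat_lit 2), [[(nat_lit 1), (nat_lit 6), (nat_lit 4), (nat_lit 5), (nat_lit 4), (nat_lit 2), (nat_lit 3), (nat_lit 5), (nat_lit 3), (nat_lit 6)]], (nat_lit 2)⟩]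
noncomputable def a_X0 : List (List Nat) := [[]]
noncomputable def a_X1 : List (List Nat) := [[],
  [(nat_lit 1)]]
noncomputable def a_E0 : List Ent := [Ent.split [⟨[], (nat_lit 0), []⟩, ⟨[], (nat_lit 1), []⟩, ⟨[(nat_lit 21)], (nat_lit 1), [(nat_lit 5), (nat_lit 8), (nat_lit 9), (nat_lit 12), (nat_lit 13)]⟩]]
noncomputable def a_X2 : List (List Nat) := [[],
  [(nat_lit 3)],
  [(nat_lit 1)],
  [(nat_lit 1), (nat_lit 3)]]
noncomputable def a_E1 : List Ent := [Ent.split [⟨[], (nat_lit 0), []⟩, ⟨[], (nat_lit 1), []⟩, ⟨[(nat_lit 19)], (nat_lit 1), [(nat_lit 7), (nat_lit 11), (nat_lit 13)]⟩],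
  Ent.split [⟨[], (nat_lit 2), []⟩, ⟨[], (nat_lit 3), []⟩, ⟨[(nat_lit 19)], (nat_lit 2), [(nat_lit 1), (nat_lit 8), (nat_lit 11)]⟩]]
noncomputable def a_X3 : List (List Nat) := [[],
  [(nat_lit 5)],
  [(nat_lit 3)],
  [(nat_lit 3), (nat_lit 5)],
  [(nat_lit 3), (nat_lit 5), (nat_lit 5)],
  [(nat_lit 1)],
  [(nat_lit 1), (nat_lit 5)],
  [(nat_lit 1), (nat_lit 5), (nat_lit 5)],
  [(nat_lit 1), (nat_lit 3)],
  [(nat_lit 1), (nat_lit 3), (nat_lit 5), (nat_lit 5)]]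
noncomputable def a_E2 : List Ent := [Ent.split [⟨[], (nat_lit 0), []⟩, ⟨[], (nat_lit 1), []⟩, ⟨[(nat_lit 19)], (nat_lit 1), [(nat_lit 10)]⟩],
  Ent.split [⟨[], (nat_lit 2), []⟩, ⟨[], (nat_lit 3), []⟩, ⟨[], (nat_lit 4), []⟩],
  Ent.split [⟨[], (nat_lit 5), []⟩, ⟨[], (nat_lit 6), []⟩, ⟨[], (nat_lit 7), []⟩],
  Ent.split [⟨[], (nat_lit 8), []⟩, ⟨[(nat_lit 19)], (nat_lit 8), [(nat_lit 9), (nat_lit 11)]⟩, ⟨[], (nat_lit 9), []⟩]]
noncomputable def a_X4 : List (List Nat) := [[],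
  [(nat_lit 7)],
  [(nat_lit 5)],
  [(nat_lit 3)],
  [(nat_lit 3), (nat_lit 5)],
  [(nat_lit 3), (nat_lit 5), (nat_lit 7)],
  [(nat_lit 3), (nat_lit 5), (nat_lit 5)],
  [(nat_lit 1)],
  [(nat_lit 1), (nat_lit 5)],
  [(nat_lit 1), (nat_lit 5), (nat_lit 5)],
  [(nat_lit 1), (nat_lit 3)],
  [(nat_lit 1), (nat_lit 3), (nat_lit 5), (nat_lit 5)]]
noncomputable def a_E3 : List Ent := [Ent.split [⟨[], (nat_lit 0), []⟩, ⟨[], (nat_lit 1), []⟩, ⟨[(nat_lit 19)], (nat_lit 1), [(nat_lit 3), (nat_lit 5), (nat_lit 8)]⟩],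
  Ent.merge [(nat_lit 1)] (nat_lit 2) [] ⟨[], (nat_lit 2), []⟩,
  Ent.merge [(nat_lit 1)] (nat_lit 1) [(nat_lit 1), (nat_lit 3), (nat_lit 5), (nat_lit 9)] ⟨[], (nat_lit 3), []⟩,
  Ent.split [⟨[], (nat_lit 4), []⟩, ⟨[], (nat_lit 5), []⟩, ⟨[(nat_lit 19), (nat_lit 21)], (nat_lit 5), [(nat_lit 3), (nat_lit 6), (nat_lit 7), (nat_lit 10)]⟩],
  Ent.merge [(nat_lit 1)] (nat_lit 2) [(nat_lit 1), (nat_lit 3), (nat_lit 6), (nat_lit 8), (nat_lit 9)] ⟨[], (nat_lit 6), []⟩,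
  Ent.merge [(nat_lit 5)] (nat_lit 1) [(nat_lit 3), (nat_lit 8), (nat_lit 9)] ⟨[], (nat_lit 7), []⟩,
  Ent.merge [(nat_lit 5)] (nat_lit 1) [(nat_lit 6), (nat_lit 8)] ⟨[], (nat_lit 8), []⟩,
  Ent.merge [(nat_lit 5)] (nat_lit 1) [(nat_lit 4), (nat_lit 5), (nat_lit 8), (nat_lit 10)] ⟨[], (nat_lit 9), []⟩,
  Ent.merge [(nat_lit 5)] (nat_lit 1) [(nat_lit 7)] ⟨[], (nat_lit 10), []⟩,
  Ent.merge [(nat_lit 5)] (nat_lit 1) [(nat_lit 3), (nat_lit 5), (nat_lit 9)] ⟨[], (nat_lit 11), []⟩]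
noncomputable def a_X5 : List (List Nat) := [[],
  [(nat_lit 9)],
  [(nat_lit 7)],
  [(nat_lit 7), (nat_lit 9)],
  [(nat_lit 7), (nat_lit 9), (nat_lit 9)],
  [(nat_lit 5)],
  [(nat_lit 5), (nat_lit 9)],
  [(nat_lit 3)],
  [(nat_lit 3), (nat_lit 9)],
  [(nat_lit 3), (nat_lit 5)],
  [(nat_lit 3), (nat_lit 5), (nat_lit 7)],
  [(nat_lit 3), (nat_lit 5), (nat_lit 5)],
  [(nat_lit 3), (nat_lit 5), (nat_lit 5), (nat_lit 9)],
  [(nat_lit 1)],
  [(nat_lit 1), (nat_lit 5)],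
  [(nat_lit 1), (nat_lit 5), (nat_lit 5)],
  [(nat_lit 1), (nat_lit 3)],
  [(nat_lit 1), (nat_lit 3), (nat_lit 5), (nat_lit 5)]]
noncomputable def a_E4 : List Ent := [Ent.split [⟨[], (nat_lit 0), []⟩, ⟨[], (nat_lit 1), []⟩, ⟨[(nat_lit 19)], (nat_lit 1), [(nat_lit 1), (nat_lit 3), (nat_lit 6), (nat_lit 7)]⟩],
  Ent.split [⟨[], (nat_lit 2), []⟩, ⟨[], (nat_lit 3), []⟩, ⟨[], (nat_lit 4), []⟩],
  Ent.split [⟨[], (nat_lit 5), []⟩, ⟨[], (nat_lit 6), []⟩, ⟨[(nat_lit 19), (nat_lit 21)], (nat_lit 6), [(nat_lit 1), (nat_lit 3), (nat_lit 5), (nat_lit 8)]⟩],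
  Ent.split [⟨[], (nat_lit 7), []⟩, ⟨[], (nat_lit 8), []⟩, ⟨[(nat_lit 19), (nat_lit 21)], (nat_lit 8), [(nat_lit 2), (nat_lit 3), (nat_lit 7)]⟩],
  Ent.merge [(nat_lit 1)] (nat_lit 1) [(nat_lit 2), (nat_lit 3), (nat_lit 6), (nat_lit 7)] ⟨[], (nat_lit 9), []⟩,
  Ent.merge [(nat_lit 1)] (nat_lit 1) [(nat_lit 2), (nat_lit 4), (nat_lit 5), (nat_lit 7)] ⟨[], (nat_lit 10), []⟩,
  Ent.split [⟨[], (nat_lit 11), []⟩, ⟨[], (nat_lit 12), []⟩, ⟨[(nat_lit 19), (nat_lit 21)], (nat_lit 12), [(nat_lit 2), (nat_lit 3), (nat_lit 6), (nat_lit 7)]⟩],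
  Ent.merge [(nat_lit 3), (nat_lit 5)] (nat_lit 2) [(nat_lit 4), (nat_lit 6), (nat_lit 7)] ⟨[], (nat_lit 13), []⟩,
  Ent.merge [(nat_lit 3), (nat_lit 5)] (nat_lit 2) [(nat_lit 1), (nat_lit 3), (nat_lit 6)] ⟨[], (nat_lit 14), []⟩,
  Ent.merge [(nat_lit 3), (nat_lit 5)] (nat_lit 2) [(nat_lit 2), (nat_lit 8)] ⟨[], (nat_lit 15), []⟩,
  Ent.merge [(nat_lit 3), (nat_lit 5)] (nat_lit 2) [(nat_lit 2), (nat_lit 4), (nat_lit 5)] ⟨[], (nat_lit 16), []⟩,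
  Ent.merge [(nat_lit 3), (nat_lit 5)] (nat_lit 2) [(nat_lit 1), (nat_lit 5), (nat_lit 7)] ⟨[], (nat_lit 17), []⟩]
noncomputable def a_X6 : List (List Nat) := [[],
  [(nat_lit 11)],
  [(nat_lit 9)],
  [(nat_lit 7)],
  [(nat_lit 7), (nat_lit 9)],
  [(nat_lit 7), (nat_lit 9), (nat_lit 9)],
  [(nat_lit 5)],
  [(nat_lit 5), (nat_lit 9)],
  [(nat_lit 3)],
  [(nat_lit 3), (nat_lit 9)],
  [(nat_lit 3), (nat_lit 5)],
  [(nat_lit 3), (nat_lit 5), (nat_lit 7)],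
  [(nat_lit 3), (nat_lit 5), (nat_lit 5)],
  [(nat_lit 3), (nat_lit 5), (nat_lit 5), (nat_lit 9)],
  [(nat_lit 1), (nat_lit 5)],
  [(nat_lit 1), (nat_lit 5), (nat_lit 5)],
  [(nat_lit 1), (nat_lit 3), (nat_lit 5), (nat_lit 5)],
  [(nat_lit 1), (nat_lit 3), (nat_lit 5), (nat_lit 5), (nat_lit 11)],
  [(nat_lit 1), (nat_lit 3), (nat_lit 5), (nat_lit 5), (nat_lit 11), (nat_lit 11)]]
noncomputable def a_E5 : List Ent := [Ent.split [⟨[], (nat_lit 0), []⟩, ⟨[], (nat_lit 1), []⟩, ⟨[(nat_lit 21)], (nat_lit 1), []⟩],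
  Ent.merge [(nat_lit 5)] (nat_lit 1) [(nat_lit 2), (nat_lit 3)] ⟨[], (nat_lit 2), []⟩,
  Ent.merge [(nat_lit 5)] (nat_lit 1) [(nat_lit 1), (nat_lit 4), (nat_lit 5)] ⟨[], (nat_lit 3), []⟩,
  Ent.merge [(nat_lit 5)] (nat_lit 2) [(nat_lit 6)] ⟨[], (nat_lit 4), []⟩,
  Ent.merge [(nat_lit 3)] (nat_lit 2) [(nat_lit 4), (nat_lit 5)] ⟨[], (nat_lit 5), []⟩,
  Ent.merge [(nat_lit 9)] (nat_lit 2) [(nat_lit 1), (nat_lit 3), (nat_lit 5)] ⟨[], (nat_lit 6), []⟩,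
  Ent.merge [(nat_lit 9)] (nat_lit 2) [(nat_lit 1), (nat_lit 3)] ⟨[], (nat_lit 7), []⟩,
  Ent.merge [(nat_lit 9)] (nat_lit 1) [(nat_lit 5)] ⟨[], (nat_lit 8), []⟩,
  Ent.merge [(nat_lit 9)] (nat_lit 1) [(nat_lit 6)] ⟨[], (nat_lit 9), []⟩,
  Ent.merge [(nat_lit 7)] (nat_lit 1) [(nat_lit 2)] ⟨[], (nat_lit 10), []⟩,
  Ent.merge [(nat_lit 7)] (nat_lit 1) [(nat_lit 2), (nat_lit 5)] ⟨[], (nat_lit 11), []⟩,
  Ent.merge [(nat_lit 9)] (nat_lit 2) [(nat_lit 2), (nat_lit 4)] ⟨[], (nat_lit 12), []⟩,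
  Ent.merge [(nat_lit 9)] (nat_lit 2) [(nat_lit 2), (nat_lit 4), (nat_lit 6)] ⟨[], (nat_lit 13), []⟩,
  Ent.dead (nat_lit 2) [(nat_lit 1), (nat_lit 6)],
  Ent.merge [(nat_lit 7)] (nat_lit 2) [(nat_lit 1), (nat_lit 4)] ⟨[], (nat_lit 14), []⟩,
  Ent.merge [(nat_lit 9)] (nat_lit 2) [(nat_lit 6)] ⟨[], (nat_lit 15), []⟩,
  Ent.dead (nat_lit 1) [(nat_lit 1), (nat_lit 4), (nat_lit 6)],
  Ent.split [⟨[], (nat_lit 16), []⟩, ⟨[], (nat_lit 17), []⟩, ⟨[], (nat_lit 18), []⟩]]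
noncomputable def a_X7 : List (List Nat) := [[],
  [(nat_lit 13)],
  [(nat_lit 11)],
  [(nat_lit 11), (nat_lit 13)],
  [(nat_lit 11), (nat_lit 13), (nat_lit 13)],
  [(nat_lit 9)],
  [(nat_lit 7)],
  [(nat_lit 7), (nat_lit 9)],
  [(nat_lit 7), (nat_lit 9), (nat_lit 13)],
  [(nat_lit 7), (nat_lit 9), (nat_lit 9)],
  [(nat_lit 5)],
  [(nat_lit 5), (nat_lit 9)],
  [(nat_lit 3)],
  [(nat_lit 3), (nat_lit 13)],
  [(nat_lit 3), (nat_lit 9)],
  [(nat_lit 3), (nat_lit 5)],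
  [(nat_lit 3), (nat_lit 5), (nat_lit 7)],
  [(nat_lit 3), (nat_lit 5), (nat_lit 5)],
  [(nat_lit 3), (nat_lit 5), (nat_lit 5), (nat_lit 9)],
  [(nat_lit 1), (nat_lit 5), (nat_lit 5)],
  [(nat_lit 1), (nat_lit 5), (nat_lit 5), (nat_lit 13)],
  [(nat_lit 1), (nat_lit 5), (nat_lit 5), (nat_lit 13), (nat_lit 13)],
  [(nat_lit 1), (nat_lit 3), (nat_lit 5), (nat_lit 5)],
  [(nat_lit 1), (nat_lit 3), (nat_lit 5), (nat_lit 5), (nat_lit 13)],
  [(nat_lit 1), (nat_lit 3), (nat_lit 5), (nat_lit 5), (nat_lit 13), (nat_lit 13)],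
  [(nat_lit 1), (nat_lit 3), (nat_lit 5), (nat_lit 5), (nat_lit 11)],
  [(nat_lit 1), (nat_lit 3), (nat_lit 5), (nat_lit 5), (nat_lit 11), (nat_lit 13)],
  [(nat_lit 1), (nat_lit 3), (nat_lit 5), (nat_lit 5), (nat_lit 11), (nat_lit 13), (nat_lit 13)],
  [(nat_lit 1), (nat_lit 3), (nat_lit 5), (nat_lit 5), (nat_lit 11), (nat_lit 11)],
  [(nat_lit 1), (nat_lit 3), (nat_lit 5), (nat_lit 5), (nat_lit 11), (nat_lit 11), (nat_lit 13)],
  [(nat_lit 1), (nat_lit 3), (nat_lit 5), (nat_lit 5), (nat_lit 11), (nat_lit 11), (nat_lit 13), (nat_lit 13)]]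
noncomputable def a_E6 : List Ent := [Ent.split [⟨[], (nat_lit 0), []⟩, ⟨[], (nat_lit 1), []⟩, ⟨[(nat_lit 21)], (nat_lit 1), []⟩],
  Ent.split [⟨[], (nat_lit 2), []⟩, ⟨[], (nat_lit 3), []⟩, ⟨[], (nat_lit 4), []⟩],
  Ent.merge [(nat_lit 3), (nat_lit 5)] (nat_lit 2) [(nat_lit 3)] ⟨[], (nat_lit 5), []⟩,
  Ent.merge [(nat_lit 3), (nat_lit 6)] (nat_lit 2) [(nat_lit 2)] ⟨[], (nat_lit 6), []⟩,
  Ent.split [⟨[], (nat_lit 7), []⟩, ⟨[], (nat_lit 8), []⟩, ⟨[(nat_lit 21), (nat_lit 6)], (nat_lit 7), [(nat_lit 1)]⟩],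
  Ent.merge [(nat_lit 5)] (nat_lit 2) [(nat_lit 1), (nat_lit 3)] ⟨[], (nat_lit 9), []⟩,
  Ent.merge [(nat_lit 7), (nat_lit 10)] (nat_lit 1) [(nat_lit 3)] ⟨[], (nat_lit 10), []⟩,
  Ent.merge [(nat_lit 7), (nat_lit 10)] (nat_lit 1) [(nat_lit 4)] ⟨[], (nat_lit 11), []⟩,
  Ent.split [⟨[], (nat_lit 12), []⟩, ⟨[], (nat_lit 13), []⟩, ⟨[(nat_lit 19), (nat_lit 21), (nat_lit 9), (nat_lit 12), (nat_lit 14), (nat_lit 16), (nat_lit 18)], (nat_lit 13), []⟩],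
  Ent.merge [(nat_lit 5), (nat_lit 10)] (nat_lit 2) [(nat_lit 1)] ⟨[], (nat_lit 14), []⟩,
  Ent.merge [(nat_lit 9)] (nat_lit 1) [(nat_lit 4)] ⟨[], (nat_lit 15), []⟩,
  Ent.merge [(nat_lit 9)] (nat_lit 1) [(nat_lit 4)] ⟨[], (nat_lit 16), []⟩,
  Ent.merge [(nat_lit 7)] (nat_lit 1) [(nat_lit 2), (nat_lit 4)] ⟨[], (nat_lit 17), []⟩,
  Ent.merge [(nat_lit 7)] (nat_lit 1) [(nat_lit 2)] ⟨[], (nat_lit 18), []⟩,
  Ent.dead (nat_lit 1) [(nat_lit 1), (nat_lit 4)],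
  Ent.split [⟨[], (nat_lit 19), []⟩, ⟨[], (nat_lit 20), []⟩, ⟨[], (nat_lit 21), []⟩],
  Ent.split [⟨[], (nat_lit 22), []⟩, ⟨[], (nat_lit 23), []⟩, ⟨[], (nat_lit 24), []⟩],
  Ent.split [⟨[], (nat_lit 25), []⟩, ⟨[], (nat_lit 26), []⟩, ⟨[], (nat_lit 27), []⟩],
  Ent.split [⟨[], (nat_lit 28), []⟩, ⟨[], (nat_lit 29), []⟩, ⟨[], (nat_lit 30), []⟩]]
noncomputable def a_X8 : List (List Nat) := [[],
  [(nat_lit 15)],
  [(nat_lit 13)],
  [(nat_lit 11)],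
  [(nat_lit 11), (nat_lit 13)],
  [(nat_lit 11), (nat_lit 13), (nat_lit 13)],
  [(nat_lit 9)],
  [(nat_lit 9), (nat_lit 15)],
  [(nat_lit 9), (nat_lit 15), (nat_lit 15)],
  [(nat_lit 7)],
  [(nat_lit 7), (nat_lit 15)],
  [(nat_lit 7), (nat_lit 15), (nat_lit 15)],
  [(nat_lit 7), (nat_lit 9)],
  [(nat_lit 7), (nat_lit 9), (nat_lit 13)],
  [(nat_lit 7), (nat_lit 9), (nat_lit 13), (nat_lit 15)],
  [(nat_lit 7), (nat_lit 9), (nat_lit 13), (nat_lit 15), (nat_lit 15)],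
  [(nat_lit 7), (nat_lit 9), (nat_lit 9)],
  [(nat_lit 7), (nat_lit 9), (nat_lit 9), (nat_lit 15)],
  [(nat_lit 7), (nat_lit 9), (nat_lit 9), (nat_lit 15), (nat_lit 15)],
  [(nat_lit 5)],
  [(nat_lit 3)],
  [(nat_lit 3), (nat_lit 13)],
  [(nat_lit 3), (nat_lit 9)],
  [(nat_lit 3), (nat_lit 5)],
  [(nat_lit 3), (nat_lit 5), (nat_lit 5)],
  [(nat_lit 1), (nat_lit 5), (nat_lit 5)],
  [(nat_lit 1), (nat_lit 5), (nat_lit 5), (nat_lit 13)],
  [(nat_lit 1), (nat_lit 5), (nat_lit 5), (nat_lit 13), (nat_lit 13)],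
  [(nat_lit 1), (nat_lit 3), (nat_lit 5), (nat_lit 5)],
  [(nat_lit 1), (nat_lit 3), (nat_lit 5), (nat_lit 5), (nat_lit 15)],
  [(nat_lit 1), (nat_lit 3), (nat_lit 5), (nat_lit 5), (nat_lit 13)],
  [(nat_lit 1), (nat_lit 3), (nat_lit 5), (nat_lit 5), (nat_lit 13), (nat_lit 15), (nat_lit 15)],
  [(nat_lit 1), (nat_lit 3), (nat_lit 5), (nat_lit 5), (nat_lit 13), (nat_lit 13)],
  [(nat_lit 1), (nat_lit 3), (nat_lit 5), (nat_lit 5), (nat_lit 13), (nat_lit 13), (nat_lit 15)],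
  [(nat_lit 1), (nat_lit 3), (nat_lit 5), (nat_lit 5), (nat_lit 11)],
  [(nat_lit 1), (nat_lit 3), (nat_lit 5), (nat_lit 5), (nat_lit 11), (nat_lit 15), (nat_lit 15)],
  [(nat_lit 1), (nat_lit 3), (nat_lit 5), (nat_lit 5), (nat_lit 11), (nat_lit 13)],
  [(nat_lit 1), (nat_lit 3), (nat_lit 5), (nat_lit 5), (nat_lit 11), (nat_lit 13), (nat_lit 15)],
  [(nat_lit 1), (nat_lit 3), (nat_lit 5), (nat_lit 5), (nat_lit 11), (nat_lit 13), (nat_lit 13)],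
  [(nat_lit 1), (nat_lit 3), (nat_lit 5), (nat_lit 5), (nat_lit 11), (nat_lit 13), (nat_lit 13), (nat_lit 15)],
  [(nat_lit 1), (nat_lit 3), (nat_lit 5), (nat_lit 5), (nat_lit 11), (nat_lit 11)],
  [(nat_lit 1), (nat_lit 3), (nat_lit 5), (nat_lit 5), (nat_lit 11), (nat_lit 11), (nat_lit 15)],
  [(nat_lit 1), (nat_lit 3), (nat_lit 5), (nat_lit 5), (nat_lit 11), (nat_lit 11), (nat_lit 13)],
  [(nat_lit 1), (nat_lit 3), (nat_lit 5), (nat_lit 5), (nat_lit 11), (nat_lit 11), (nat_lit 13), (nat_lit 15)],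
  [(nat_lit 1), (nat_lit 3), (nat_lit 5), (nat_lit 5), (nat_lit 11), (nat_lit 11), (nat_lit 13), (nat_lit 13)],
  [(nat_lit 1), (nat_lit 3), (nat_lit 5), (nat_lit 5), (nat_lit 11), (nat_lit 11), (nat_lit 13), (nat_lit 13), (nat_lit 15), (nat_lit 15)]]
noncomputable def a_E7 : List Ent := [Ent.split [⟨[], (nat_lit 0), []⟩, ⟨[], (nat_lit 1), []⟩, ⟨[(nat_lit 19)], (nat_lit 1), []⟩],
  Ent.merge [(nat_lit 5)] (nat_lit 2) [] ⟨[], (nat_lit 2), []⟩,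
  Ent.merge [(nat_lit 5)] (nat_lit 1) [] ⟨[], (nat_lit 3), []⟩,
  Ent.merge [(nat_lit 3)] (nat_lit 1) [] ⟨[], (nat_lit 4), []⟩,
  Ent.merge [(nat_lit 5)] (nat_lit 2) [] ⟨[], (nat_lit 5), []⟩,
  Ent.split [⟨[], (nat_lit 6), []⟩, ⟨[], (nat_lit 7), []⟩, ⟨[], (nat_lit 8), []⟩],
  Ent.split [⟨[], (nat_lit 9), []⟩, ⟨[], (nat_lit 10), []⟩, ⟨[], (nat_lit 11), []⟩],
  Ent.merge [(nat_lit 3)] (nat_lit 2) [] ⟨[], (nat_lit 12), []⟩,
  Ent.split [⟨[], (nat_lit 13), []⟩, ⟨[], (nat_lit 14), []⟩, ⟨[], (nat_lit 15), []⟩],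
  Ent.split [⟨[], (nat_lit 16), []⟩, ⟨[], (nat_lit 17), []⟩, ⟨[], (nat_lit 18), []⟩],
  Ent.merge [(nat_lit 13)] (nat_lit 1) [] ⟨[], (nat_lit 19), []⟩,
  Ent.dead (nat_lit 2) [(nat_lit 1)],
  Ent.merge [(nat_lit 13)] (nat_lit 2) [] ⟨[], (nat_lit 20), []⟩,
  Ent.merge [(nat_lit 13)] (nat_lit 2) [] ⟨[], (nat_lit 21), []⟩,
  Ent.merge [(nat_lit 13)] (nat_lit 2) [] ⟨[], (nat_lit 22), []⟩,
  Ent.merge [(nat_lit 11)] (nat_lit 2) [] ⟨[], (nat_lit 23), []⟩,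
  Ent.dead (nat_lit 2) [(nat_lit 2)],
  Ent.merge [(nat_lit 13)] (nat_lit 1) [] ⟨[], (nat_lit 24), []⟩,
  Ent.dead (nat_lit 1) [(nat_lit 1)],
  Ent.merge [(nat_lit 13)] (nat_lit 1) [(nat_lit 2)] ⟨[], (nat_lit 25), []⟩,
  Ent.merge [(nat_lit 13)] (nat_lit 1) [(nat_lit 2)] ⟨[], (nat_lit 26), []⟩,
  Ent.merge [(nat_lit 13)] (nat_lit 1) [(nat_lit 2)] ⟨[], (nat_lit 27), []⟩,
  Ent.split [⟨[], (nat_lit 28), []⟩, ⟨[], (nat_lit 29), []⟩, ⟨[(nat_lit 19)], (nat_lit 28), [(nat_lit 1)]⟩],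
  Ent.split [⟨[], (nat_lit 30), []⟩, ⟨[(nat_lit 19)], (nat_lit 30), [(nat_lit 1)]⟩, ⟨[], (nat_lit 31), []⟩],
  Ent.split [⟨[], (nat_lit 32), []⟩, ⟨[], (nat_lit 33), []⟩, ⟨[(nat_lit 19)], (nat_lit 33), [(nat_lit 1)]⟩],
  Ent.split [⟨[], (nat_lit 34), []⟩, ⟨[(nat_lit 19)], (nat_lit 34), []⟩, ⟨[], (nat_lit 35), []⟩],
  Ent.split [⟨[], (nat_lit 36), []⟩, ⟨[], (nat_lit 37), []⟩, ⟨[(nat_lit 19)], (nat_lit 37), []⟩],
  Ent.split [⟨[], (nat_lit 38), []⟩, ⟨[], (nat_lit 39), []⟩, ⟨[(nat_lit 19)], (nat_lit 38), []⟩],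
  Ent.split [⟨[], (nat_lit 40), []⟩, ⟨[], (nat_lit 41), []⟩, ⟨[(nat_lit 19)], (nat_lit 41), [(nat_lit 2)]⟩],
  Ent.split [⟨[], (nat_lit 42), []⟩, ⟨[], (nat_lit 43), []⟩, ⟨[(nat_lit 19)], (nat_lit 42), [(nat_lit 2)]⟩],
  Ent.split [⟨[], (nat_lit 44), []⟩, ⟨[(nat_lit 19)], (nat_lit 44), [(nat_lit 2)]⟩, ⟨[], (nat_lit 45), []⟩]]
noncomputable def a_X9 : List (List Nat) := [[],
  [(nat_lit 17)],
  [(nat_lit 15)],
  [(nat_lit 13)],
  [(nat_lit 11)],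
  [(nat_lit 11), (nat_lit 13)],
  [(nat_lit 11), (nat_lit 13), (nat_lit 13)],
  [(nat_lit 9)],
  [(nat_lit 9), (nat_lit 15)],
  [(nat_lit 9), (nat_lit 15), (nat_lit 15)],
  [(nat_lit 7)],
  [(nat_lit 7), (nat_lit 15)],
  [(nat_lit 7), (nat_lit 15), (nat_lit 15)],
  [(nat_lit 7), (nat_lit 9)],
  [(nat_lit 7), (nat_lit 9), (nat_lit 13)],
  [(nat_lit 7), (nat_lit 9), (nat_lit 13), (nat_lit 15)],
  [(nat_lit 7), (nat_lit 9), (nat_lit 13), (nat_lit 15), (nat_lit 15)],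
  [(nat_lit 7), (nat_lit 9), (nat_lit 9)],
  [(nat_lit 7), (nat_lit 9), (nat_lit 9), (nat_lit 15)],
  [(nat_lit 7), (nat_lit 9), (nat_lit 9), (nat_lit 15), (nat_lit 15)],
  [(nat_lit 5)],
  [(nat_lit 5), (nat_lit 17)],
  [(nat_lit 5), (nat_lit 17), (nat_lit 17)],
  [(nat_lit 3)],
  [(nat_lit 3), (nat_lit 17)],
  [(nat_lit 3), (nat_lit 17), (nat_lit 17)],
  [(nat_lit 3), (nat_lit 13)],
  [(nat_lit 3), (nat_lit 5)],
  [(nat_lit 3), (nat_lit 5), (nat_lit 17)],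
  [(nat_lit 3), (nat_lit 5), (nat_lit 17), (nat_lit 17)],
  [(nat_lit 3), (nat_lit 5), (nat_lit 5)],
  [(nat_lit 3), (nat_lit 5), (nat_lit 5), (nat_lit 17)],
  [(nat_lit 3), (nat_lit 5), (nat_lit 5), (nat_lit 17), (nat_lit 17)],
  [(nat_lit 1), (nat_lit 5), (nat_lit 5)],
  [(nat_lit 1), (nat_lit 3), (nat_lit 5), (nat_lit 5)],
  [(nat_lit 1), (nat_lit 3), (nat_lit 5), (nat_lit 5), (nat_lit 15)],
  [(nat_lit 1), (nat_lit 3), (nat_lit 5), (nat_lit 5), (nat_lit 13)],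
  [(nat_lit 1), (nat_lit 3), (nat_lit 5), (nat_lit 5), (nat_lit 13), (nat_lit 15), (nat_lit 15)],
  [(nat_lit 1), (nat_lit 3), (nat_lit 5), (nat_lit 5), (nat_lit 13), (nat_lit 13)],
  [(nat_lit 1), (nat_lit 3), (nat_lit 5), (nat_lit 5), (nat_lit 13), (nat_lit 13), (nat_lit 15)],
  [(nat_lit 1), (nat_lit 3), (nat_lit 5), (nat_lit 5), (nat_lit 11)],
  [(nat_lit 1), (nat_lit 3), (nat_lit 5), (nat_lit 5), (nat_lit 11), (nat_lit 15), (nat_lit 15)],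
  [(nat_lit 1), (nat_lit 3), (nat_lit 5), (nat_lit 5), (nat_lit 11), (nat_lit 13)],
  [(nat_lit 1), (nat_lit 3), (nat_lit 5), (nat_lit 5), (nat_lit 11), (nat_lit 13), (nat_lit 15)],
  [(nat_lit 1), (nat_lit 3), (nat_lit 5), (nat_lit 5), (nat_lit 11), (nat_lit 13), (nat_lit 13)],
  [(nat_lit 1), (nat_lit 3), (nat_lit 5), (nat_lit 5), (nat_lit 11), (nat_lit 13), (nat_lit 13), (nat_lit 15)],
  [(nat_lit 1), (nat_lit 3), (nat_lit 5), (nat_lit 5), (nat_lit 11), (nat_lit 11)],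
  [(nat_lit 1), (nat_lit 3), (nat_lit 5), (nat_lit 5), (nat_lit 11), (nat_lit 11), (nat_lit 15)],
  [(nat_lit 1), (nat_lit 3), (nat_lit 5), (nat_lit 5), (nat_lit 11), (nat_lit 11), (nat_lit 13)],
  [(nat_lit 1), (nat_lit 3), (nat_lit 5), (nat_lit 5), (nat_lit 11), (nat_lit 11), (nat_lit 13), (nat_lit 15)],
  [(nat_lit 1), (nat_lit 3), (nat_lit 5), (nat_lit 5), (nat_lit 11), (nat_lit 11), (nat_lit 13), (nat_lit 13)],
  [(nat_lit 1), (nat_lit 3), (nat_lit 5), (nat_lit 5), (nat_lit 11), (nat_lit 11), (nat_lit 13), (nat_lit 13), (nat_lit 15), (nat_lit 15)]]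
noncomputable def a_E8 : List Ent := [Ent.split [⟨[], (nat_lit 0), []⟩, ⟨[], (nat_lit 1), []⟩, ⟨[(nat_lit 19)], (nat_lit 1), []⟩],
  Ent.merge [(nat_lit 1)] (nat_lit 2) [] ⟨[], (nat_lit 2), []⟩,
  Ent.merge [(nat_lit 7)] (nat_lit 2) [] ⟨[], (nat_lit 3), []⟩,
  Ent.merge [(nat_lit 9)] (nat_lit 2) [] ⟨[], (nat_lit 4), []⟩,
  Ent.merge [(nat_lit 9)] (nat_lit 2) [] ⟨[], (nat_lit 5), []⟩,
  Ent.merge [(nat_lit 9)] (nat_lit 2) [] ⟨[], (nat_lit 6), []⟩,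
  Ent.merge [(nat_lit 11)] (nat_lit 1) [] ⟨[], (nat_lit 7), []⟩,
  Ent.merge [(nat_lit 11)] (nat_lit 1) [] ⟨[], (nat_lit 8), []⟩,
  Ent.merge [(nat_lit 11)] (nat_lit 1) [] ⟨[], (nat_lit 9), []⟩,
  Ent.merge [(nat_lit 13)] (nat_lit 1) [] ⟨[], (nat_lit 10), []⟩,
  Ent.merge [(nat_lit 13)] (nat_lit 1) [] ⟨[], (nat_lit 11), []⟩,
  Ent.merge [(nat_lit 13)] (nat_lit 1) [] ⟨[], (nat_lit 12), []⟩,
  Ent.merge [(nat_lit 13)] (nat_lit 1) [] ⟨[], (nat_lit 13), []⟩,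
  Ent.merge [(nat_lit 13)] (nat_lit 1) [] ⟨[], (nat_lit 14), []⟩,
  Ent.merge [(nat_lit 13)] (nat_lit 1) [] ⟨[], (nat_lit 15), []⟩,
  Ent.merge [(nat_lit 13)] (nat_lit 1) [] ⟨[], (nat_lit 16), []⟩,
  Ent.merge [(nat_lit 13)] (nat_lit 1) [] ⟨[], (nat_lit 17), []⟩,
  Ent.merge [(nat_lit 13)] (nat_lit 1) [] ⟨[], (nat_lit 18), []⟩,
  Ent.merge [(nat_lit 13)] (nat_lit 1) [] ⟨[], (nat_lit 19), []⟩,
  Ent.split [⟨[], (nat_lit 20), []⟩, ⟨[], (nat_lit 21), []⟩, ⟨[], (nat_lit 22), []⟩],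
  Ent.split [⟨[], (nat_lit 23), []⟩, ⟨[], (nat_lit 24), []⟩, ⟨[], (nat_lit 25), []⟩],
  Ent.merge [(nat_lit 7), (nat_lit 9), (nat_lit 13)] (nat_lit 2) [] ⟨[], (nat_lit 26), []⟩,
  Ent.dead (nat_lit 2) [],
  Ent.split [⟨[], (nat_lit 27), []⟩, ⟨[], (nat_lit 28), []⟩, ⟨[], (nat_lit 29), []⟩],
  Ent.split [⟨[], (nat_lit 30), []⟩, ⟨[], (nat_lit 31), []⟩, ⟨[], (nat_lit 32), []⟩],
  Ent.merge [(nat_lit 15)] (nat_lit 1) [] ⟨[], (nat_lit 33), []⟩,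
  Ent.dead (nat_lit 1) [],
  Ent.dead (nat_lit 2) [],
  Ent.merge [(nat_lit 15)] (nat_lit 1) [] ⟨[], (nat_lit 34), []⟩,
  Ent.merge [(nat_lit 15)] (nat_lit 1) [] ⟨[], (nat_lit 35), []⟩,
  Ent.merge [(nat_lit 15)] (nat_lit 1) [] ⟨[], (nat_lit 36), []⟩,
  Ent.merge [(nat_lit 15)] (nat_lit 1) [] ⟨[], (nat_lit 37), []⟩,
  Ent.merge [(nat_lit 15)] (nat_lit 1) [] ⟨[], (nat_lit 38), []⟩,
  Ent.merge [(nat_lit 15)] (nat_lit 1) [] ⟨[], (nat_lit 39), []⟩,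
  Ent.merge [(nat_lit 15)] (nat_lit 1) [] ⟨[], (nat_lit 40), []⟩,
  Ent.merge [(nat_lit 15)] (nat_lit 1) [] ⟨[], (nat_lit 41), []⟩,
  Ent.merge [(nat_lit 15)] (nat_lit 1) [] ⟨[], (nat_lit 42), []⟩,
  Ent.merge [(nat_lit 15)] (nat_lit 1) [] ⟨[], (nat_lit 43), []⟩,
  Ent.merge [(nat_lit 15)] (nat_lit 1) [] ⟨[], (nat_lit 44), []⟩,
  Ent.merge [(nat_lit 15)] (nat_lit 1) [] ⟨[], (nat_lit 45), []⟩,
  Ent.merge [(nat_lit 15)] (nat_lit 1) [] ⟨[], (nat_lit 46), []⟩,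
  Ent.merge [(nat_lit 15)] (nat_lit 1) [] ⟨[], (nat_lit 47), []⟩,
  Ent.merge [(nat_lit 15)] (nat_lit 1) [] ⟨[], (nat_lit 48), []⟩,
  Ent.merge [(nat_lit 15)] (nat_lit 1) [] ⟨[], (nat_lit 49), []⟩,
  Ent.merge [(nat_lit 15)] (nat_lit 1) [] ⟨[], (nat_lit 50), []⟩,
  Ent.merge [(nat_lit 15)] (nat_lit 1) [] ⟨[], (nat_lit 51), []⟩]
noncomputable def a_F : List To := [⟨[], (nat_lit 0), []⟩,
  ⟨[(nat_lit 28), (nat_lit 9), (nat_lit 24), (nat_lit 21), (nat_lit 7), (nat_lit 5), (nat_lit 3), (nat_lit 27), (nat_lit 23), (nat_lit 21), (nat_lit 24), (nat_lit 5), (nat_lit 21), (nat_lit 21), (nat_lit 23), (nat_lit 32), (nat_lit 26), (nat_lit 32), (nat_lit 32), (nat_lit 35)], (nat_lit 3), []⟩,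
  ⟨[(nat_lit 28), (nat_lit 32), (nat_lit 24), (nat_lit 21), (nat_lit 5), (nat_lit 7), (nat_lit 21), (nat_lit 21), (nat_lit 7), (nat_lit 5), (nat_lit 3), (nat_lit 23), (nat_lit 27), (nat_lit 5), (nat_lit 7), (nat_lit 21), (nat_lit 21), (nat_lit 7), (nat_lit 5), (nat_lit 22), (nat_lit 31), (nat_lit 22), (nat_lit 24), (nat_lit 26), (nat_lit 27), (nat_lit 31), (nat_lit 30), (nat_lit 30)], (nat_lit 3), []⟩,
  ⟨[(nat_lit 28), (nat_lit 23), (nat_lit 28), (nat_lit 24), (nat_lit 5), (nat_lit 3), (nat_lit 31), (nat_lit 28), (nat_lit 5), (nat_lit 23), (nat_lit 21), (nat_lit 24), (nat_lit 5), (nat_lit 1), (nat_lit 24), (nat_lit 22), (nat_lit 23), (nat_lit 32), (nat_lit 30), (nat_lit 26), (nat_lit 32), (nat_lit 29), (nat_lit 33)], (nat_lit 4), []⟩,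
  ⟨[(nat_lit 23), (nat_lit 30), (nat_lit 24), (nat_lit 21), (nat_lit 21), (nat_lit 5), (nat_lit 23), (nat_lit 21), (nat_lit 7), (nat_lit 5), (nat_lit 3), (nat_lit 27), (nat_lit 21), (nat_lit 24), (nat_lit 5), (nat_lit 23), (nat_lit 23), (nat_lit 21), (nat_lit 24), (nat_lit 28), (nat_lit 32), (nat_lit 25), (nat_lit 30)], (nat_lit 2), []⟩,
  ⟨[(nat_lit 15), (nat_lit 5), (nat_lit 7), (nat_lit 28), (nat_lit 31), (nat_lit 24), (nat_lit 5), (nat_lit 3), (nat_lit 23), (nat_lit 32), (nat_lit 22), (nat_lit 7), (nat_lit 5), (nat_lit 1), (nat_lit 29), (nat_lit 24), (nat_lit 22), (nat_lit 24), (nat_lit 27), (nat_lit 32), (nat_lit 26), (nat_lit 32), (nat_lit 32), (nat_lit 30)], (nat_lit 3), []⟩,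
  ⟨[(nat_lit 17), (nat_lit 22), (nat_lit 7), (nat_lit 22), (nat_lit 5), (nat_lit 24), (nat_lit 21), (nat_lit 21), (nat_lit 7), (nat_lit 5), (nat_lit 3), (nat_lit 27), (nat_lit 23), (nat_lit 27), (nat_lit 21), (nat_lit 24), (nat_lit 5), (nat_lit 1), (nat_lit 23), (nat_lit 27), (nat_lit 31), (nat_lit 21), (nat_lit 23), (nat_lit 28), (nat_lit 25), (nat_lit 31), (nat_lit 30)], (nat_lit 3), []⟩,
  ⟨[(nat_lit 7), (nat_lit 13), (nat_lit 22), (nat_lit 23), (nat_lit 27), (nat_lit 3), (nat_lit 1), (nat_lit 9), (nat_lit 7), (nat_lit 5), (nat_lit 3), (nat_lit 32), (nat_lit 27), (nat_lit 23), (nat_lit 5), (nat_lit 23), (nat_lit 21), (nat_lit 7), (nat_lit 5), (nat_lit 27), (nat_lit 21), (nat_lit 23), (nat_lit 21), (nat_lit 24), (nat_lit 33), (nat_lit 26)], (nat_lit 4), []⟩,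
  ⟨[(nat_lit 1), (nat_lit 3), (nat_lit 5), (nat_lit 24), (nat_lit 21), (nat_lit 7), (nat_lit 5), (nat_lit 3), (nat_lit 27), (nat_lit 23), (nat_lit 7), (nat_lit 21), (nat_lit 7), (nat_lit 5), (nat_lit 22), (nat_lit 23), (nat_lit 28), (nat_lit 30), (nat_lit 24), (nat_lit 29), (nat_lit 27), (nat_lit 30), (nat_lit 31), (nat_lit 33)], (nat_lit 4), []⟩,
  ⟨[(nat_lit 33), (nat_lit 24), (nat_lit 28), (nat_lit 21), (nat_lit 7), (nat_lit 5), (nat_lit 3), (nat_lit 5), (nat_lit 7), (nat_lit 28), (nat_lit 32), (nat_lit 23), (nat_lit 9), (nat_lit 7), (nat_lit 5), (nat_lit 23), (nat_lit 21), (nat_lit 23), (nat_lit 28), (nat_lit 32), (nat_lit 25), (nat_lit 32), (nat_lit 32)], (nat_lit 2), []⟩,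
  ⟨[(nat_lit 23), (nat_lit 23), (nat_lit 22), (nat_lit 5), (nat_lit 24), (nat_lit 32), (nat_lit 22), (nat_lit 7), (nat_lit 5), (nat_lit 3), (nat_lit 33), (nat_lit 24), (nat_lit 28), (nat_lit 5), (nat_lit 24), (nat_lit 21), (nat_lit 21), (nat_lit 7), (nat_lit 5), (nat_lit 28), (nat_lit 31), (nat_lit 28), (nat_lit 31), (nat_lit 33)], (nat_lit 4), []⟩,
  ⟨[(nat_lit 24), (nat_lit 35), (nat_lit 27), (nat_lit 22), (nat_lit 1), (nat_lit 7), (nat_lit 5), (nat_lit 3), (nat_lit 24), (nat_lit 22), (nat_lit 5), (nat_lit 24), (nat_lit 28), (nat_lit 9), (nat_lit 7), (nat_lit 5), (nat_lit 27), (nat_lit 21), (nat_lit 23), (nat_lit 27), (nat_lit 23), (nat_lit 26), (nat_lit 31), (nat_lit 26), (nat_lit 31), (nat_lit 35)], (nat_lit 3), []⟩,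
  ⟨[(nat_lit 15), (nat_lit 5), (nat_lit 24), (nat_lit 28), (nat_lit 19), (nat_lit 21), (nat_lit 1), (nat_lit 7), (nat_lit 5), (nat_lit 3), (nat_lit 27), (nat_lit 23), (nat_lit 5), (nat_lit 23), (nat_lit 21), (nat_lit 24), (nat_lit 5), (nat_lit 23), (nat_lit 21), (nat_lit 21), (nat_lit 24), (nat_lit 30), (nat_lit 31), (nat_lit 33)], (nat_lit 2), []⟩,
  ⟨[(nat_lit 21), (nat_lit 17), (nat_lit 27), (nat_lit 24), (nat_lit 1), (nat_lit 5), (nat_lit 3), (nat_lit 9), (nat_lit 5), (nat_lit 24), (nat_lit 28), (nat_lit 31), (nat_lit 24), (nat_lit 5), (nat_lit 1), (nat_lit 21), (nat_lit 21), (nat_lit 23), (nat_lit 30), (nat_lit 27), (nat_lit 25), (nat_lit 32), (nat_lit 35)], (nat_lit 4), []⟩,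
  ⟨[(nat_lit 28), (nat_lit 24), (nat_lit 3), (nat_lit 5), (nat_lit 15), (nat_lit 7), (nat_lit 21), (nat_lit 21), (nat_lit 7), (nat_lit 5), (nat_lit 3), (nat_lit 23), (nat_lit 28), (nat_lit 21), (nat_lit 24), (nat_lit 5), (nat_lit 1), (nat_lit 23), (nat_lit 32), (nat_lit 25), (nat_lit 31), (nat_lit 31), (nat_lit 29), (nat_lit 33)], (nat_lit 1), []⟩,
  ⟨[(nat_lit 25), (nat_lit 27), (nat_lit 3), (nat_lit 5), (nat_lit 23), (nat_lit 21), (nat_lit 24), (nat_lit 1), (nat_lit 5), (nat_lit 3), (nat_lit 22), (nat_lit 28), (nat_lit 15), (nat_lit 7), (nat_lit 5), (nat_lit 23), (nat_lit 30), (nat_lit 21), (nat_lit 23), (nat_lit 29), (nat_lit 25), (nat_lit 25), (nat_lit 30), (nat_lit 31)], (nat_lit 2), []⟩,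
  ⟨[(nat_lit 27), (nat_lit 9), (nat_lit 7), (nat_lit 21), (nat_lit 21), (nat_lit 24), (nat_lit 5), (nat_lit 3), (nat_lit 19), (nat_lit 5), (nat_lit 24), (nat_lit 27), (nat_lit 21), (nat_lit 7), (nat_lit 5), (nat_lit 1), (nat_lit 27), (nat_lit 21), (nat_lit 23), (nat_lit 27), (nat_lit 23), (nat_lit 26), (nat_lit 30), (nat_lit 31), (nat_lit 35)], (nat_lit 3), []⟩,
  ⟨[(nat_lit 30), (nat_lit 5), (nat_lit 15), (nat_lit 7), (nat_lit 22), (nat_lit 24), (nat_lit 5), (nat_lit 3), (nat_lit 23), (nat_lit 27), (nat_lit 24), (nat_lit 5), (nat_lit 1), (nat_lit 23), (nat_lit 27), (nat_lit 24), (nat_lit 26), (nat_lit 32), (nat_lit 27), (nat_lit 25), (nat_lit 32), (nat_lit 33)], (nat_lit 4), []⟩,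
  ⟨[(nat_lit 26), (nat_lit 30), (nat_lit 24), (nat_lit 27), (nat_lit 5), (nat_lit 23), (nat_lit 21), (nat_lit 24), (nat_lit 5), (nat_lit 3), (nat_lit 21), (nat_lit 7), (nat_lit 27), (nat_lit 21), (nat_lit 7), (nat_lit 5), (nat_lit 1), (nat_lit 27), (nat_lit 23), (nat_lit 21), (nat_lit 24), (nat_lit 35), (nat_lit 31), (nat_lit 31), (nat_lit 33)], (nat_lit 3), []⟩,
  ⟨[(nat_lit 23), (nat_lit 30), (nat_lit 28), (nat_lit 24), (nat_lit 1), (nat_lit 5), (nat_lit 3), (nat_lit 5), (nat_lit 24), (nat_lit 22), (nat_lit 7), (nat_lit 28), (nat_lit 7), (nat_lit 5), (nat_lit 1), (nat_lit 24), (nat_lit 31), (nat_lit 21), (nat_lit 23), (nat_lit 25), (nat_lit 27), (nat_lit 25), (nat_lit 31), (nat_lit 33)], (nat_lit 2), []⟩,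
  ⟨[(nat_lit 13), (nat_lit 21), (nat_lit 13), (nat_lit 21), (nat_lit 1), (nat_lit 7), (nat_lit 5), (nat_lit 3), (nat_lit 1), (nat_lit 22), (nat_lit 23), (nat_lit 22), (nat_lit 24), (nat_lit 31), (nat_lit 26), (nat_lit 33), (nat_lit 35)], (nat_lit 4), []⟩,
  ⟨[(nat_lit 29), (nat_lit 1), (nat_lit 22), (nat_lit 5), (nat_lit 7), (nat_lit 27), (nat_lit 21), (nat_lit 7), (nat_lit 5), (nat_lit 3), (nat_lit 19), (nat_lit 7), (nat_lit 21), (nat_lit 7), (nat_lit 5), (nat_lit 33), (nat_lit 28), (nat_lit 23), (nat_lit 21), (nat_lit 23), (nat_lit 32)], (nat_lit 2), []⟩,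
  ⟨[(nat_lit 27), (nat_lit 15), (nat_lit 23), (nat_lit 32), (nat_lit 28), (nat_lit 5), (nat_lit 23), (nat_lit 21), (nat_lit 24), (nat_lit 5), (nat_lit 3), (nat_lit 24), (nat_lit 22), (nat_lit 5), (nat_lit 7), (nat_lit 27), (nat_lit 21), (nat_lit 7), (nat_lit 5), (nat_lit 1), (nat_lit 22), (nat_lit 23), (nat_lit 27), (nat_lit 31), (nat_lit 33)], (nat_lit 3), []⟩,
  ⟨[(nat_lit 3), (nat_lit 27), (nat_lit 23), (nat_lit 28), (nat_lit 24), (nat_lit 5), (nat_lit 23), (nat_lit 21), (nat_lit 1), (nat_lit 7), (nat_lit 5), (nat_lit 3), (nat_lit 19), (nat_lit 24), (nat_lit 5), (nat_lit 1), (nat_lit 23), (nat_lit 32), (nat_lit 22), (nat_lit 24), (nat_lit 26), (nat_lit 28), (nat_lit 25), (nat_lit 32)], (nat_lit 2), []⟩,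
  ⟨[(nat_lit 15), (nat_lit 35), (nat_lit 11), (nat_lit 28), (nat_lit 5), (nat_lit 24), (nat_lit 27), (nat_lit 21), (nat_lit 7), (nat_lit 5), (nat_lit 3), (nat_lit 24), (nat_lit 5), (nat_lit 24), (nat_lit 28), (nat_lit 23), (nat_lit 21), (nat_lit 7), (nat_lit 5), (nat_lit 23), (nat_lit 35), (nat_lit 21), (nat_lit 23), (nat_lit 28), (nat_lit 32), (nat_lit 33)], (nat_lit 3), []⟩,
  ⟨[(nat_lit 31), (nat_lit 28), (nat_lit 5), (nat_lit 24), (nat_lit 27), (nat_lit 21), (nat_lit 7), (nat_lit 5), (nat_lit 3), (nat_lit 24), (nat_lit 13), (nat_lit 27), (nat_lit 5), (nat_lit 23), (nat_lit 21), (nat_lit 24), (nat_lit 5), (nat_lit 24), (nat_lit 21), (nat_lit 32), (nat_lit 24), (nat_lit 29), (nat_lit 25), (nat_lit 30)], (nat_lit 1), []⟩,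
  ⟨[(nat_lit 3), (nat_lit 29), (nat_lit 17), (nat_lit 32), (nat_lit 27), (nat_lit 15), (nat_lit 7), (nat_lit 5), (nat_lit 3), (nat_lit 29), (nat_lit 24), (nat_lit 22), (nat_lit 5), (nat_lit 7), (nat_lit 22), (nat_lit 24), (nat_lit 5), (nat_lit 23), (nat_lit 21), (nat_lit 23), (nat_lit 23), (nat_lit 29), (nat_lit 28), (nat_lit 32), (nat_lit 32), (nat_lit 33)], (nat_lit 4), []⟩,
  ⟨[(nat_lit 27), (nat_lit 19), (nat_lit 21), (nat_lit 7), (nat_lit 5), (nat_lit 24), (nat_lit 22), (nat_lit 28), (nat_lit 24), (nat_lit 5), (nat_lit 3), (nat_lit 19), (nat_lit 22), (nat_lit 7), (nat_lit 5), (nat_lit 23), (nat_lit 31), (nat_lit 23), (nat_lit 21), (nat_lit 23), (nat_lit 33), (nat_lit 30), (nat_lit 26), (nat_lit 31), (nat_lit 30), (nat_lit 30)], (nat_lit 2), []⟩,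
  ⟨[(nat_lit 23), (nat_lit 31), (nat_lit 28), (nat_lit 23), (nat_lit 21), (nat_lit 7), (nat_lit 5), (nat_lit 24), (nat_lit 32), (nat_lit 21), (nat_lit 21), (nat_lit 23), (nat_lit 32), (nat_lit 32), (nat_lit 29), (nat_lit 33)], (nat_lit 4), []⟩,
  ⟨[(nat_lit 17), (nat_lit 24), (nat_lit 22), (nat_lit 24), (nat_lit 5), (nat_lit 24), (nat_lit 22), (nat_lit 24), (nat_lit 5), (nat_lit 3), (nat_lit 1), (nat_lit 21), (nat_lit 24), (nat_lit 22), (nat_lit 23), (nat_lit 26), (nat_lit 32)], (nat_lit 4), []⟩,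
  ⟨[(nat_lit 11), (nat_lit 30), (nat_lit 31), (nat_lit 24), (nat_lit 21), (nat_lit 5), (nat_lit 23), (nat_lit 11), (nat_lit 21), (nat_lit 7), (nat_lit 5), (nat_lit 3), (nat_lit 23), (nat_lit 5), (nat_lit 23), (nat_lit 21), (nat_lit 21), (nat_lit 24), (nat_lit 5), (nat_lit 35), (nat_lit 21), (nat_lit 23), (nat_lit 27), (nat_lit 29), (nat_lit 25), (nat_lit 31), (nat_lit 31)], (nat_lit 4), []⟩,
  ⟨[(nat_lit 1), (nat_lit 15), (nat_lit 32), (nat_lit 5), (nat_lit 24), (nat_lit 22), (nat_lit 24), (nat_lit 5), (nat_lit 3), (nat_lit 24), (nat_lit 32), (nat_lit 21), (nat_lit 7), (nat_lit 5), (nat_lit 32), (nat_lit 24), (nat_lit 22), (nat_lit 24), (nat_lit 26), (nat_lit 32), (nat_lit 32), (nat_lit 30), (nat_lit 35)], (nat_lit 2), []⟩,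
  ⟨[(nat_lit 15), (nat_lit 17), (nat_lit 21), (nat_lit 1), (nat_lit 7), (nat_lit 5), (nat_lit 3), (nat_lit 7), (nat_lit 28), (nat_lit 19), (nat_lit 24), (nat_lit 5), (nat_lit 27), (nat_lit 23), (nat_lit 26), (nat_lit 33), (nat_lit 26), (nat_lit 31)], (nat_lit 3), []⟩,
  ⟨[(nat_lit 3), (nat_lit 35), (nat_lit 5), (nat_lit 28), (nat_lit 7), (nat_lit 21), (nat_lit 27), (nat_lit 1), (nat_lit 7), (nat_lit 5), (nat_lit 3), (nat_lit 30), (nat_lit 24), (nat_lit 22), (nat_lit 5), (nat_lit 7), (nat_lit 22), (nat_lit 24), (nat_lit 5), (nat_lit 21), (nat_lit 24), (nat_lit 21), (nat_lit 21), (nat_lit 24)], (nat_lit 4), []⟩,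
  ⟨[(nat_lit 22), (nat_lit 7), (nat_lit 22), (nat_lit 1), (nat_lit 9), (nat_lit 7), (nat_lit 5), (nat_lit 3), (nat_lit 27), (nat_lit 7), (nat_lit 27), (nat_lit 5), (nat_lit 23), (nat_lit 21), (nat_lit 24), (nat_lit 5), (nat_lit 24), (nat_lit 28), (nat_lit 24), (nat_lit 28), (nat_lit 26), (nat_lit 27), (nat_lit 31), (nat_lit 30)], (nat_lit 4), []⟩,
  ⟨[(nat_lit 19), (nat_lit 32), (nat_lit 27), (nat_lit 23), (nat_lit 21), (nat_lit 7), (nat_lit 5), (nat_lit 3), (nat_lit 9), (nat_lit 23), (nat_lit 21), (nat_lit 24), (nat_lit 5), (nat_lit 24), (nat_lit 31), (nat_lit 28), (nat_lit 24), (nat_lit 31), (nat_lit 26), (nat_lit 32), (nat_lit 30), (nat_lit 31), (nat_lit 30)], (nat_lit 4), []⟩,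
  ⟨[(nat_lit 24), (nat_lit 22), (nat_lit 5), (nat_lit 15), (nat_lit 7), (nat_lit 22), (nat_lit 24), (nat_lit 5), (nat_lit 3), (nat_lit 22), (nat_lit 23), (nat_lit 21), (nat_lit 21), (nat_lit 7), (nat_lit 5), (nat_lit 1), (nat_lit 22), (nat_lit 24), (nat_lit 28), (nat_lit 23), (nat_lit 28), (nat_lit 29), (nat_lit 25), (nat_lit 31), (nat_lit 29), (nat_lit 29), (nat_lit 33)], (nat_lit 3), []⟩,
  ⟨[(nat_lit 32), (nat_lit 23), (nat_lit 5), (nat_lit 23), (nat_lit 21), (nat_lit 7), (nat_lit 5), (nat_lit 3), (nat_lit 21), (nat_lit 5), (nat_lit 24), (nat_lit 21), (nat_lit 21), (nat_lit 7), (nat_lit 5), (nat_lit 28), (nat_lit 23), (nat_lit 21), (nat_lit 23), (nat_lit 26), (nat_lit 28), (nat_lit 30), (nat_lit 31), (nat_lit 31), (nat_lit 30)], (nat_lit 2), []⟩,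
  ⟨[(nat_lit 5), (nat_lit 19), (nat_lit 27), (nat_lit 23), (nat_lit 11), (nat_lit 21), (nat_lit 7), (nat_lit 5), (nat_lit 3), (nat_lit 24), (nat_lit 22), (nat_lit 24), (nat_lit 22), (nat_lit 24), (nat_lit 5), (nat_lit 1), (nat_lit 31), (nat_lit 22), (nat_lit 24), (nat_lit 32), (nat_lit 26), (nat_lit 31), (nat_lit 30), (nat_lit 31), (nat_lit 30)], (nat_lit 1), []⟩,
  ⟨[(nat_lit 23), (nat_lit 5), (nat_lit 9), (nat_lit 23), (nat_lit 32), (nat_lit 9), (nat_lit 7), (nat_lit 5), (nat_lit 3), (nat_lit 30), (nat_lit 27), (nat_lit 23), (nat_lit 21), (nat_lit 24), (nat_lit 5), (nat_lit 1), (nat_lit 21), (nat_lit 24), (nat_lit 21), (nat_lit 31), (nat_lit 24), (nat_lit 29), (nat_lit 28), (nat_lit 32), (nat_lit 30), (nat_lit 31), (nat_lit 30)], (nat_lit 4), []⟩,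
  ⟨[(nat_lit 33), (nat_lit 21), (nat_lit 5), (nat_lit 23), (nat_lit 32), (nat_lit 9), (nat_lit 7), (nat_lit 5), (nat_lit 3), (nat_lit 7), (nat_lit 22), (nat_lit 7), (nat_lit 5), (nat_lit 24), (nat_lit 22), (nat_lit 24), (nat_lit 5), (nat_lit 29), (nat_lit 28), (nat_lit 22), (nat_lit 23), (nat_lit 28), (nat_lit 33), (nat_lit 26), (nat_lit 32), (nat_lit 30)], (nat_lit 4), []⟩,
  ⟨[(nat_lit 27), (nat_lit 3), (nat_lit 5), (nat_lit 24), (nat_lit 32), (nat_lit 22), (nat_lit 24), (nat_lit 5), (nat_lit 3), (nat_lit 24), (nat_lit 27), (nat_lit 32), (nat_lit 9), (nat_lit 7), (nat_lit 5), (nat_lit 21), (nat_lit 27), (nat_lit 21), (nat_lit 23), (nat_lit 25), (nat_lit 30), (nat_lit 31)], (nat_lit 3), []⟩,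
  ⟨[(nat_lit 30), (nat_lit 5), (nat_lit 24), (nat_lit 22), (nat_lit 24), (nat_lit 5), (nat_lit 3), (nat_lit 27), (nat_lit 23), (nat_lit 5), (nat_lit 7), (nat_lit 27), (nat_lit 21), (nat_lit 7), (nat_lit 5), (nat_lit 23), (nat_lit 28), (nat_lit 22), (nat_lit 23), (nat_lit 25), (nat_lit 27), (nat_lit 26), (nat_lit 31), (nat_lit 35)], (nat_lit 2), []⟩,
  ⟨[(nat_lit 19), (nat_lit 27), (nat_lit 23), (nat_lit 31), (nat_lit 9), (nat_lit 7), (nat_lit 5), (nat_lit 3), (nat_lit 24), (nat_lit 21), (nat_lit 5), (nat_lit 23), (nat_lit 21), (nat_lit 15), (nat_lit 7), (nat_lit 5), (nat_lit 32), (nat_lit 22), (nat_lit 23), (nat_lit 28), (nat_lit 29), (nat_lit 28), (nat_lit 31), (nat_lit 35)], (nat_lit 4), []⟩,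
  ⟨[(nat_lit 3), (nat_lit 15), (nat_lit 28), (nat_lit 7), (nat_lit 27), (nat_lit 5), (nat_lit 23), (nat_lit 21), (nat_lit 24), (nat_lit 5), (nat_lit 3), (nat_lit 22), (nat_lit 24), (nat_lit 27), (nat_lit 15), (nat_lit 7), (nat_lit 5), (nat_lit 22), (nat_lit 24), (nat_lit 22), (nat_lit 24), (nat_lit 26), (nat_lit 31), (nat_lit 26), (nat_lit 32), (nat_lit 30)], (nat_lit 2), []⟩,
  ⟨[(nat_lit 11), (nat_lit 17), (nat_lit 23), (nat_lit 29), (nat_lit 27), (nat_lit 1), (nat_lit 7), (nat_lit 5), (nat_lit 3), (nat_lit 21), (nat_lit 7), (nat_lit 22), (nat_lit 5), (nat_lit 23), (nat_lit 27), (nat_lit 9), (nat_lit 7), (nat_lit 5), (nat_lit 32), (nat_lit 27), (nat_lit 21), (nat_lit 23), (nat_lit 26), (nat_lit 31), (nat_lit 35)], (nat_lit 4), []⟩,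
  ⟨[(nat_lit 5), (nat_lit 30), (nat_lit 19), (nat_lit 24), (nat_lit 27), (nat_lit 3), (nat_lit 1), (nat_lit 7), (nat_lit 5), (nat_lit 3), (nat_lit 32), (nat_lit 24), (nat_lit 22), (nat_lit 24), (nat_lit 5), (nat_lit 30), (nat_lit 24), (nat_lit 27), (nat_lit 23), (nat_lit 32), (nat_lit 25), (nat_lit 30), (nat_lit 35)], (nat_lit 3), []⟩,
  ⟨[(nat_lit 3), (nat_lit 5), (nat_lit 23), (nat_lit 28), (nat_lit 7), (nat_lit 21), (nat_lit 7), (nat_lit 5), (nat_lit 30), (nat_lit 24), (nat_lit 21), (nat_lit 21), (nat_lit 24), (nat_lit 25), (nat_lit 30), (nat_lit 31), (nat_lit 31), (nat_lit 33)], (nat_lit 4), []⟩,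
  ⟨[(nat_lit 5), (nat_lit 9), (nat_lit 23), (nat_lit 21), (nat_lit 5), (nat_lit 23), (nat_lit 32), (nat_lit 9), (nat_lit 7), (nat_lit 5), (nat_lit 3), (nat_lit 21), (nat_lit 24), (nat_lit 28), (nat_lit 21), (nat_lit 7), (nat_lit 5), (nat_lit 1), (nat_lit 24), (nat_lit 27), (nat_lit 23), (nat_lit 31), (nat_lit 25), (nat_lit 30)], (nat_lit 4), []⟩,
  ⟨[(nat_lit 19), (nat_lit 21), (nat_lit 23), (nat_lit 28), (nat_lit 21), (nat_lit 7), (nat_lit 5), (nat_lit 3), (nat_lit 23), (nat_lit 27), (nat_lit 9), (nat_lit 7), (nat_lit 5), (nat_lit 1), (nat_lit 29), (nat_lit 28), (nat_lit 24), (nat_lit 21), (nat_lit 23), (nat_lit 26), (nat_lit 27), (nat_lit 35)], (nat_lit 2), []⟩,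
  ⟨[(nat_lit 32), (nat_lit 5), (nat_lit 9), (nat_lit 23), (nat_lit 32), (nat_lit 9), (nat_lit 7), (nat_lit 5), (nat_lit 3), (nat_lit 23), (nat_lit 23), (nat_lit 22), (nat_lit 5), (nat_lit 24), (nat_lit 27), (nat_lit 15), (nat_lit 7), (nat_lit 5), (nat_lit 30), (nat_lit 24), (nat_lit 29), (nat_lit 26), (nat_lit 27), (nat_lit 31), (nat_lit 33)], (nat_lit 2), []⟩,
  ⟨[(nat_lit 11), (nat_lit 13), (nat_lit 24), (nat_lit 27), (nat_lit 23), (nat_lit 5), (nat_lit 23), (nat_lit 27), (nat_lit 21), (nat_lit 7), (nat_lit 5), (nat_lit 3), (nat_lit 23), (nat_lit 32), (nat_lit 9), (nat_lit 7), (nat_lit 5), (nat_lit 29), (nat_lit 28), (nat_lit 23), (nat_lit 29), (nat_lit 27), (nat_lit 35)], (nat_lit 4), []⟩]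
noncomputable def v0 : Nat := (nat_lit 0xa0000000000000000000000000000000000000000000014000000000000000000000000000000000000000000012050010000000000000000000000000000000000000000000001205001000000000000000000000000000000000000000200a02004c020000000000000000000000000000000000004014040098040000000000000000000000000000000801401008400200000000000000000000000080140100840020000000000000000000000100058000000000000000000000001000580000000000000000000000000002400000000000000000000090000000000000000200002208000000000200002208000000001000124000000400049000000200100000080040000000000000000080002000200800000001205808180628100080002c02000c4100000040002201000820000000000400400000000000000000000000000000000000000000000000000000000000000000000000000000100000000000400000004024000c24b35)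
noncomputable def w0_kg : List (List Nat) := [[(nat_lit 1)],
  [(nat_lit 29), (nat_lit 47), (nat_lit 3), (nat_lit 1), (nat_lit 3), (nat_lit 48), (nat_lit 30)],
  [(nat_lit 24), (nat_lit 44), (nat_lit 3), (nat_lit 1), (nat_lit 3), (nat_lit 43), (nat_lit 23)],
  [(nat_lit 51), (nat_lit 5), (nat_lit 3), (nat_lit 1), (nat_lit 3), (nat_lit 5), (nat_lit 52)],
  [(nat_lit 37), (nat_lit 48), (nat_lit 3), (nat_lit 1), (nat_lit 3), (nat_lit 47), (nat_lit 38)],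
  [(nat_lit 5), (nat_lit 48), (nat_lit 3), (nat_lit 1), (nat_lit 3), (nat_lit 47), (nat_lit 5)],
  [(nat_lit 3), (nat_lit 41), (nat_lit 1), (nat_lit 3), (nat_lit 1), (nat_lit 3), (nat_lit 1), (nat_lit 42), (nat_lit 3)],
  [(nat_lit 32), (nat_lit 3), (nat_lit 44), (nat_lit 3), (nat_lit 1), (nat_lit 3), (nat_lit 43), (nat_lit 3), (nat_lit 31)],
  [(nat_lit 19), (nat_lit 3), (nat_lit 52), (nat_lit 3), (nat_lit 1), (nat_lit 3), (nat_lit 51), (nat_lit 3), (nat_lit 19)],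
  [(nat_lit 51), (nat_lit 3), (nat_lit 44), (nat_lit 3), (nat_lit 1), (nat_lit 3), (nat_lit 43), (nat_lit 3), (nat_lit 52)],
  [(nat_lit 38), (nat_lit 3), (nat_lit 5), (nat_lit 1), (nat_lit 3), (nat_lit 1), (nat_lit 3), (nat_lit 1), (nat_lit 5), (nat_lit 3), (nat_lit 37)],
  [(nat_lit 17), (nat_lit 3), (nat_lit 39), (nat_lit 1), (nat_lit 3), (nat_lit 1), (nat_lit 3), (nat_lit 1), (nat_lit 40), (nat_lit 3), (nat_lit 17)],
  [(nat_lit 39), (nat_lit 29), (nat_lit 3), (nat_lit 51), (nat_lit 3), (nat_lit 1), (nat_lit 3), (nat_lit 52), (nat_lit 3), (nat_lit 30), (nat_lit 40)],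
  [(nat_lit 46), (nat_lit 3), (nat_lit 45), (nat_lit 39), (nat_lit 3), (nat_lit 1), (nat_lit 3), (nat_lit 40), (nat_lit 46), (nat_lit 3), (nat_lit 45)]]
noncomputable def w0_T : Wd := (Wd.cons [] [[(nat_lit 1)],
  [(nat_lit 3)],
  [(nat_lit 5)],
  [(nat_lit 7)],
  [(nat_lit 9)],
  [(nat_lit 11)]] (nat_lit 4)
 (Wd.cons [(nat_lit 3), (nat_lit 41), (nat_lit 1), (nat_lit 3)] [[(nat_lit 13)],
  [(nat_lit 15)],
  [(nat_lit 17)],
  [(nat_lit 19)],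
  [(nat_lit 21)]] (nat_lit 3)
 (Wd.cons [(nat_lit 19), (nat_lit 3), (nat_lit 52), (nat_lit 3)] [[(nat_lit 17)],
  [(nat_lit 23)],
  [(nat_lit 25)],
  [(nat_lit 27)]] (nat_lit 2)
 Wd.leaf Wd.leaf) Wd.leaf) Wd.leaf)
noncomputable def w0_ps : List (List Nat) := [[],
  [(nat_lit 3), (nat_lit 41), (nat_lit 1), (nat_lit 3)],
  [(nat_lit 19), (nat_lit 3), (nat_lit 52), (nat_lit 3)],
  [(nat_lit 21), (nat_lit 3), (nat_lit 40), (nat_lit 41), (nat_lit 3)],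
  [(nat_lit 39), (nat_lit 27), (nat_lit 3), (nat_lit 44), (nat_lit 3)],
  [(nat_lit 51), (nat_lit 28), (nat_lit 3), (nat_lit 43), (nat_lit 3)]]
noncomputable def v1 : Nat := (nat_lit 0x2010000000000000000000080400000000000000000008004000000000000008004000000000000080000000000020000000000000860000000218000000800000800000000000040100820003c0000000000000000000000000000000000000000000000000000000000000000000000000000000000000000000000000200000000000000000020100000000000000010a000000000000400000000000000000080003)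
noncomputable def w1_kg : List (List Nat) := [[(nat_lit 1)],
  [(nat_lit 3), (nat_lit 1), (nat_lit 3)],
  [(nat_lit 5), (nat_lit 3), (nat_lit 1), (nat_lit 3), (nat_lit 5)],
  [(nat_lit 42), (nat_lit 5), (nat_lit 3), (nat_lit 1), (nat_lit 3), (nat_lit 5), (nat_lit 41)],
  [(nat_lit 13), (nat_lit 44), (nat_lit 3), (nat_lit 1), (nat_lit 3), (nat_lit 43), (nat_lit 13)],
  [(nat_lit 3), (nat_lit 5), (nat_lit 1), (nat_lit 3), (nat_lit 1), (nat_lit 3), (nat_lit 1), (nat_lit 5), (nat_lit 3)],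
  [(nat_lit 3), (nat_lit 56), (nat_lit 44), (nat_lit 3), (nat_lit 1), (nat_lit 3), (nat_lit 43), (nat_lit 55), (nat_lit 3)],
  [(nat_lit 3), (nat_lit 47), (nat_lit 51), (nat_lit 3), (nat_lit 1), (nat_lit 3), (nat_lit 52), (nat_lit 48), (nat_lit 3)],
  [(nat_lit 3), (nat_lit 39), (nat_lit 32), (nat_lit 43), (nat_lit 3), (nat_lit 1), (nat_lit 3), (nat_lit 44), (nat_lit 31), (nat_lit 40), (nat_lit 3)],
  [(nat_lit 13), (nat_lit 3), (nat_lit 44), (nat_lit 3), (nat_lit 1), (nat_lit 3), (nat_lit 43), (nat_lit 3), (nat_lit 13)],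
  [(nat_lit 3), (nat_lit 42), (nat_lit 5), (nat_lit 1), (nat_lit 3), (nat_lit 1), (nat_lit 3), (nat_lit 1), (nat_lit 5), (nat_lit 41), (nat_lit 3)]]
noncomputable def w1_T : Wd := (Wd.cons [] [[(nat_lit 1)],
  [(nat_lit 3)],
  [(nat_lit 5)],
  [(nat_lit 7)],
  [(nat_lit 9)]] (nat_lit 2)
 (Wd.cons [(nat_lit 3), (nat_lit 5), (nat_lit 1), (nat_lit 3)] [[(nat_lit 11)],
  [(nat_lit 13)]] (nat_lit 1)
 (Wd.cons [(nat_lit 3), (nat_lit 47), (nat_lit 51), (nat_lit 3)] [[(nat_lit 15)],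
  [(nat_lit 17)]] (nat_lit 1)
 (Wd.cons [(nat_lit 13), (nat_lit 3), (nat_lit 44), (nat_lit 3)] [[(nat_lit 19)],
  [(nat_lit 21)]] (nat_lit 1)
 Wd.leaf Wd.leaf) (Wd.cons [(nat_lit 13), (nat_lit 3), (nat_lit 44), (nat_lit 3)] [[(nat_lit 19)],
  [(nat_lit 21)]] (nat_lit 1)
 Wd.leaf Wd.leaf)) (Wd.cons [(nat_lit 3), (nat_lit 47), (nat_lit 51), (nat_lit 3)] [[(nat_lit 15)],
  [(nat_lit 17)]] (nat_lit 1)
 (Wd.cons [(nat_lit 13), (nat_lit 3), (nat_lit 44), (nat_lit 3)] [[(nat_lit 19)],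
  [(nat_lit 21)]] (nat_lit 1)
 Wd.leaf Wd.leaf) Wd.leaf)) Wd.leaf)
noncomputable def w1_ps : List (List Nat) := [[],
  [(nat_lit 3), (nat_lit 5), (nat_lit 1), (nat_lit 3)],
  [(nat_lit 3), (nat_lit 47), (nat_lit 51), (nat_lit 3)],
  [(nat_lit 13), (nat_lit 3), (nat_lit 44), (nat_lit 3)]]
noncomputable def v2 : Nat := (nat_lit 0x20000000000000004000000000000000000000000000000000000000000000000000000000000000040000000000080000000000000000000000000000000000000000000000000000000000000000000000000000000000000000000000000000000000000001000000000000000000000000000000000000000220800000000000020000000000004980000000000000000004000000000000000000020200000080000000800000020000000000000000000000000000000000000000000000000000000000000000000000000000000000000000000000000000000000000000200000000000000000000000000000000000000008024000c04800)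
noncomputable def w2_kg : List (List Nat) := [[(nat_lit 1), (nat_lit 3), (nat_lit 1), (nat_lit 3), (nat_lit 1)],
  [(nat_lit 30), (nat_lit 52), (nat_lit 3), (nat_lit 1), (nat_lit 3), (nat_lit 51), (nat_lit 29)],
  [(nat_lit 53), (nat_lit 1), (nat_lit 3), (nat_lit 1), (nat_lit 3), (nat_lit 1), (nat_lit 53)],
  [(nat_lit 27), (nat_lit 11), (nat_lit 39), (nat_lit 3), (nat_lit 1), (nat_lit 3), (nat_lit 40), (nat_lit 11), (nat_lit 28)],
  [(nat_lit 29), (nat_lit 47), (nat_lit 1), (nat_lit 3), (nat_lit 1), (nat_lit 3), (nat_lit 1), (nat_lit 48), (nat_lit 30)],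
  [(nat_lit 51), (nat_lit 5), (nat_lit 1), (nat_lit 3), (nat_lit 1), (nat_lit 3), (nat_lit 1), (nat_lit 5), (nat_lit 52)],
  [(nat_lit 24), (nat_lit 44), (nat_lit 1), (nat_lit 3), (nat_lit 1), (nat_lit 3), (nat_lit 1), (nat_lit 43), (nat_lit 23)],
  [(nat_lit 37), (nat_lit 48), (nat_lit 1), (nat_lit 3), (nat_lit 1), (nat_lit 3), (nat_lit 1), (nat_lit 47), (nat_lit 38)],
  [(nat_lit 32), (nat_lit 39), (nat_lit 3), (nat_lit 43), (nat_lit 3), (nat_lit 1), (nat_lit 3), (nat_lit 44), (nat_lit 3), (nat_lit 40), (nat_lit 31)]]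
noncomputable def w2_T : Wd := (Wd.cons [(nat_lit 1), (nat_lit 3)] [[(nat_lit 1)],
  [(nat_lit 3)],
  [(nat_lit 5)]] (nat_lit 2)
 (Wd.cons [(nat_lit 27), (nat_lit 11), (nat_lit 39), (nat_lit 3)] [[(nat_lit 7)],
  [(nat_lit 9)],
  [(nat_lit 11)]] (nat_lit 2)
 (Wd.cons [(nat_lit 24), (nat_lit 44), (nat_lit 1), (nat_lit 3)] [[(nat_lit 13)],
  [(nat_lit 15)],
  [(nat_lit 17)]] (nat_lit 2)
 Wd.leaf Wd.leaf) (Wd.cons [(nat_lit 24), (nat_lit 44), (nat_lit 1), (nat_lit 3)] [[(nat_lit 13)],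
  [(nat_lit 15)],
  [(nat_lit 17)]] (nat_lit 2)
 Wd.leaf Wd.leaf)) (Wd.cons [(nat_lit 27), (nat_lit 11), (nat_lit 39), (nat_lit 3)] [[(nat_lit 7)],
  [(nat_lit 9)],
  [(nat_lit 11)]] (nat_lit 2)
 (Wd.cons [(nat_lit 24), (nat_lit 44), (nat_lit 1), (nat_lit 3)] [[(nat_lit 13)],
  [(nat_lit 15)],
  [(nat_lit 17)]] (nat_lit 2)
 Wd.leaf Wd.leaf) (Wd.cons [(nat_lit 24), (nat_lit 44), (nat_lit 1), (nat_lit 3)] [[(nat_lit 13)],
  [(nat_lit 15)],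
  [(nat_lit 17)]] (nat_lit 2)
 Wd.leaf Wd.leaf)))
noncomputable def w2_ps : List (List Nat) := [[(nat_lit 1), (nat_lit 3)],
  [(nat_lit 27), (nat_lit 11), (nat_lit 39), (nat_lit 3)],
  [(nat_lit 24), (nat_lit 44), (nat_lit 1), (nat_lit 3)]]
noncomputable def v3 : Nat := (nat_lit 0)
noncomputable def w3_kg : List (List Nat) := []
noncomputable def w3_T : Wd := Wd.leaf
noncomputable def w3_ps : List (List Nat) := []

theorem a_cen_0 : allFrom (cenAt (eqLq eq0) 3 a_gs a_pc) 0 9 = true := by decide +kernel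
theorem a_tor : lall2 (torOK (eqLq eq0) a_gs) a_zs a_zu = true := by decide +kernel
theorem a_u_inc : incOK a_u_pi 3510 108 = true := by decide +kernel
theorem a_u_wf : wfAll a_u_N 108 = true := by decide +kernel
theorem a_u_tab_0 : allFrom (tabOK a_u_N 108 7 7 10 a_u_TT) 0 7 = true := by decide +kernel
theorem a_u_tabs : Tabs a_u_N 108 10 7 a_u_TT 6 :=
  tabs_of (k := 7) (wf_of_wfAll a_u_wf) (by decide) (by decide) (by decide) (lt_add_all lt_zero_all 7 a_u_tab_0)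
theorem a_u_s_0 : allFrom (subT (evT TT (nat_lit 60) (nat_lit 10) (nat_lit 1023) (nat_lit 12) (nat_lit 4095)) (recT a_u_TT (nat_lit 10) (nat_lit 1023) (nat_lit 7) (nat_lit 127)) a_u_pi a_hs (nat_lit 108)) 0 3 = true := by decide +kernel
theorem a_ge : geOK a_u_N 108 (gensW 3) a_c 19683 = true := by decide +kernel
theorem a_mem : memOK (eqLq eq0) a_gs a_hs [[(nat_lit 1)],  [(nat_lit 3)],  [(nat_lit 5)]] = true := by decide +kernel
theorem a_e0_0 : allFrom (entAt (eqLq eq0) 3 a_gs (lapp a_gs (lapp a_zs [])) 0 a_X0 a_X1 a_E0) 0 1 = true := by decide +kernel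
theorem a_e1_0 : allFrom (entAt (eqLq eq0) 3 a_gs (lapp a_gs (lapp a_zs [])) 1 a_X1 a_X2 a_E1) 0 2 = true := by decide +kernel
theorem a_e2_0 : allFrom (entAt (eqLq eq0) 3 a_gs (lapp a_gs (lapp a_zs [])) 2 a_X2 a_X3 a_E2) 0 4 = true := by decide +kernel
theorem a_e3_0 : allFrom (entAt (eqLq eq0) 3 a_gs (lapp a_gs (lapp a_zs [])) 3 a_X3 a_X4 a_E3) 0 10 = true := by decide +kernel
theorem a_e4_0 : allFrom (entAt (eqLq eq0) 3 a_gs (lapp a_gs (lapp a_zs [])) 4 a_X4 a_X5 a_E4) 0 12 = true := by decide +kernel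
theorem a_e5_0 : allFrom (entAt (eqLq eq0) 3 a_gs (lapp a_gs (lapp a_zs [])) 5 a_X5 a_X6 a_E5) 0 18 = true := by decide +kernel
theorem a_e6_0 : allFrom (entAt (eqLq eq0) 3 a_gs (lapp a_gs (lapp a_zs [])) 6 a_X6 a_X7 a_E6) 0 19 = true := by decide +kernel
theorem a_e7_0 : allFrom (entAt (eqLq eq0) 3 a_gs (lapp a_gs (lapp a_zs [])) 7 a_X7 a_X8 a_E7) 0 31 = true := by decide +kernel
theorem a_e8_0 : allFrom (entAt (eqLq eq0) 3 a_gs (lapp a_gs (lapp a_zs [])) 8 a_X8 a_X9 a_E8) 0 46 = true := by decide +kernel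
theorem a_f_0 : allFrom (finAt (eqLq eq0) a_gs a_X9 [[], x0, x1, x2, x3] a_F) 0 52 = true := by decide +kernel
theorem fx0 : Nat.beq (fixB N 3510 12 x0) v0 = true := by decide +kernel
theorem or0 : ordOK eq0 3 x0 = true := by decide +kernel
theorem w0_ok : w0_T.ok N 3510 Q w0_kg v0 6 = true := by decide +kernel
theorem w0_cq : cliqOK N Q w0_ps v0 = true := by decide +kernel
theorem fx1 : Nat.beq (fixB N 3510 12 x1) v1 = true := by decide +kernel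
theorem or1 : ordOK eq0 3 x1 = true := by decide +kernel
theorem w1_ok : w1_T.ok N 3510 Q w1_kg v1 4 = true := by decide +kernel
theorem w1_cq : cliqOK N Q w1_ps v1 = true := by decide +kernel
theorem fx2 : Nat.beq (fixB N 3510 12 x2) v2 = true := by decide +kernel
theorem or2 : ordOK eq0 3 x2 = true := by decide +kernel
theorem w2_ok : w2_T.ok N 3510 Q w2_kg v2 3 = true := by decide +kernel
theorem w2_cq : cliqOK N Q w2_ps v2 = true := by decide +kernel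
theorem fx3 : Nat.beq (fixB N 3510 12 x3) v3 = true := by decide +kernel
theorem or3 : ordOK eq0 3 x3 = true := by decide +kernel
theorem w3_ok : w3_T.ok N 3510 Q w3_kg v3 0 = true := by decide +kernel
theorem w3_cq : cliqOK N Q w3_ps v3 = true := by decide +kernel

variable {G : Type*} [Group G] {D : Set G} {E : Dom (Cj G) 3510} {f : ℕ → G} {NN : List Net}

theorem a_u_reps (M : M22 D E f) : Reps (Dom.lst E a_u_pi a_u_inc) a_u_N (evs f a_hs) :=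
  Reps.subT M.reps tabs (by decide) (wf_of_wfAll a_u_wf) a_u_tabs (l := 3) (by decide) rfl rfl a_u_inc
    (by decide) (by decide) (by decide) (by decide) (lt_add_all lt_zero_all 3 a_u_s_0)
theorem a_cens (M : M22 D E f) : CenS f 3 a_gs :=
  have := M.finite
  ⟨M.sm0.eqLq.cenR (l := 9) rfl (lt_add_all lt_zero_all 9 a_cen_0), by norm_num,
    (Reps.card_geT (a_u_reps M) (by decide) rfl a_ge).trans (card_le_of_le (M.sm0.eqLq.le a_mem))⟩
theorem a_cl0 (M : M22 D E f) : Cl f 3 a_gs ⊤ 0 a_X0 := Cl.zero _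
theorem a_cl1 (M : M22 D E f) : Cl f 3 a_gs ⊤ 1 a_X1 :=
  have := M.finite
  (a_cl0 M).step' M.sm0.eqLq (a_cens M) a_tor (l := 1) (by decide +kernel) (lt_add_all lt_zero_all 1 a_e0_0)
theorem a_cl2 (M : M22 D E f) : Cl f 3 a_gs ⊤ 2 a_X2 :=
  have := M.finite
  (a_cl1 M).step' M.sm0.eqLq (a_cens M) a_tor (l := 2) (by decide +kernel) (lt_add_all lt_zero_all 2 a_e1_0)
theorem a_cl3 (M : M22 D E f) : Cl f 3 a_gs ⊤ 3 a_X3 :=
  have := M.finite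
  (a_cl2 M).step' M.sm0.eqLq (a_cens M) a_tor (l := 4) (by decide +kernel) (lt_add_all lt_zero_all 4 a_e2_0)
theorem a_cl4 (M : M22 D E f) : Cl f 3 a_gs ⊤ 4 a_X4 :=
  have := M.finite
  (a_cl3 M).step' M.sm0.eqLq (a_cens M) a_tor (l := 10) (by decide +kernel) (lt_add_all lt_zero_all 10 a_e3_0)
theorem a_cl5 (M : M22 D E f) : Cl f 3 a_gs ⊤ 5 a_X5 :=
  have := M.finite
  (a_cl4 M).step' M.sm0.eqLq (a_cens M) a_tor (l := 12) (by decide +kernel) (lt_add_all lt_zero_all 12 a_e4_0)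
theorem a_cl6 (M : M22 D E f) : Cl f 3 a_gs ⊤ 6 a_X6 :=
  have := M.finite
  (a_cl5 M).step' M.sm0.eqLq (a_cens M) a_tor (l := 18) (by decide +kernel) (lt_add_all lt_zero_all 18 a_e5_0)
theorem a_cl7 (M : M22 D E f) : Cl f 3 a_gs ⊤ 7 a_X7 :=
  have := M.finite
  (a_cl6 M).step' M.sm0.eqLq (a_cens M) a_tor (l := 19) (by decide +kernel) (lt_add_all lt_zero_all 19 a_e6_0)
theorem a_cl8 (M : M22 D E f) : Cl f 3 a_gs ⊤ 8 a_X8 :=
  have := M.finite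
  (a_cl7 M).step' M.sm0.eqLq (a_cens M) a_tor (l := 31) (by decide +kernel) (lt_add_all lt_zero_all 31 a_e7_0)
theorem a_cl9 (M : M22 D E f) : Cl f 3 a_gs ⊤ 9 a_X9 :=
  have := M.finite
  (a_cl8 M).step' M.sm0.eqLq (a_cens M) a_tor (l := 46) (by decide +kernel) (lt_add_all lt_zero_all 46 a_e8_0)
theorem a_all (M : M22 D E f) : ∀ y : G, y ^ 3 = 1 → ∃ r ∈ [[], x0, x1, x2, x3], IsConj y (ev f r) :=
  have := M.finite
  (a_cl9 M).all M.sm0.eqLq (a_cens M) (l := 52) (m := 3280076800) (by decide +kernel) (lt_add_all lt_zero_all 52 a_f_0)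
    (by rw [M.card]; norm_num) (by decide)
theorem fix0 (M : M22 D E f) : D ∩ (centralizer (zpowers (ev f x0) : Set G) : Set G) = sv E v0 := by
  rw [M.fix_cent (k := 12) (by decide), beq_iff.1 fx0]
theorem wd0 (M : M22 D E f) : wdC D (zpowers (ev f x0)) = 6 :=
  have := M.finite
  (congrArg _ (fix0 M)).trans (M.toTM.width w0_ok w0_cq rfl)
theorem fix1 (M : M22 D E f) : D ∩ (centralizer (zpowers (ev f x1) : Set G) : Set G) = sv E v1 := by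
  rw [M.fix_cent (k := 12) (by decide), beq_iff.1 fx1]
theorem wd1 (M : M22 D E f) : wdC D (zpowers (ev f x1)) = 4 :=
  have := M.finite
  (congrArg _ (fix1 M)).trans (M.toTM.width w1_ok w1_cq rfl)
theorem fix2 (M : M22 D E f) : D ∩ (centralizer (zpowers (ev f x2) : Set G) : Set G) = sv E v2 := by
  rw [M.fix_cent (k := 12) (by decide), beq_iff.1 fx2]
theorem wd2 (M : M22 D E f) : wdC D (zpowers (ev f x2)) = 3 :=
  have := M.finite
  (congrArg _ (fix2 M)).trans (M.toTM.width w2_ok w2_cq rfl)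
theorem fix3 (M : M22 D E f) : D ∩ (centralizer (zpowers (ev f x3) : Set G) : Set G) = sv E v3 := by
  rw [M.fix_cent (k := 12) (by decide), beq_iff.1 fx3]
theorem wd3 (M : M22 D E f) : wdC D (zpowers (ev f x3)) = 0 :=
  have := M.finite
  (congrArg _ (fix3 M)).trans (M.toTM.width w3_ok w3_cq rfl)

/-- the representatives -/
noncomputable def xs (f : ℕ → G) : Fin 4 → G := ![ev f x0, ev f x1, ev f x2, ev f x3]

theorem clw (M : M22 D E f) : ClW D 3 (xs f) ![6, 4, 3, 0] where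
  conj g _ := M.conj_D g
  prime := by norm_num
  ord i := by
    fin_cases i
    exacts [M.sm0.ord (by norm_num) or0, M.sm0.ord (by norm_num) or1, M.sm0.ord (by norm_num) or2, M.sm0.ord (by norm_num) or3]
  wd i := by
    fin_cases i
    exacts [wd0 M, wd1 M, wd2 M, wd3 M]
  inj := by decide
  cls := cls_of_conj (reps := [x0, x1, x2, x3]) (by norm_num) (a_all M)

end CF.Fisch.F22.L3
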