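import Cfsg.Agent.Fisch.St.FS
import Cfsg.Agent.Fisch.Std

set_option autoImplicit false
set_option maxRecDepth 1000000
set_option maxHeartbeats 0

namespace CF.Fisch.F22

open CF.Comp CF.Fisch
open scoped Pointwise

noncomputable def CI : List Lvl := [⟨(nat_lit 0), [[(nat_lit 3)],
  [(nat_lit 50), (nat_lit 3), (nat_lit 1), (nat_lit 3), (nat_lit 49)],
  [(nat_lit 47), (nat_lit 3), (nat_lit 1), (nat_lit 3), (nat_lit 48)],
  [(nat_lit 7)],
  [(nat_lit 5)],
  [(nat_lit 1)]], (nat_lit 5)⟩,
  ⟨(nat_lit 695), [[(nat_lit 3), (nat_lit 52), (nat_lit 3), (nat_lit 1), (nat_lit 3), (nat_lit 51), (nat_lit 3)],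
  [(nat_lit 3), (nat_lit 47), (nat_lit 3), (nat_lit 1), (nat_lit 3), (nat_lit 48), (nat_lit 3)],
  [(nat_lit 3), (nat_lit 48), (nat_lit 3), (nat_lit 1), (nat_lit 3), (nat_lit 47), (nat_lit 3)],
  [(nat_lit 3), (nat_lit 41), (nat_lit 1), (nat_lit 3), (nat_lit 1), (nat_lit 3), (nat_lit 1), (nat_lit 42), (nat_lit 3)],
  [(nat_lit 3), (nat_lit 51), (nat_lit 3), (nat_lit 1), (nat_lit 3), (nat_lit 52), (nat_lit 3)]], (nat_lit 6)⟩,
  ⟨(nat_lit 3), [[(nat_lit 50), (nat_lit 3), (nat_lit 51), (nat_lit 3), (nat_lit 1), (nat_lit 3), (nat_lit 52), (nat_lit 3), (nat_lit 49)],
  [(nat_lit 48), (nat_lit 3), (nat_lit 43), (nat_lit 3), (nat_lit 1), (nat_lit 3), (nat_lit 44), (nat_lit 3), (nat_lit 47)],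
  [(nat_lit 5), (nat_lit 3), (nat_lit 52), (nat_lit 3), (nat_lit 1), (nat_lit 3), (nat_lit 51), (nat_lit 3), (nat_lit 5)],
  [(nat_lit 43), (nat_lit 3), (nat_lit 47), (nat_lit 3), (nat_lit 1), (nat_lit 3), (nat_lit 48), (nat_lit 3), (nat_lit 44)],
  [(nat_lit 49), (nat_lit 3), (nat_lit 52), (nat_lit 3), (nat_lit 1), (nat_lit 3), (nat_lit 51), (nat_lit 3), (nat_lit 50)],
  [(nat_lit 48), (nat_lit 3), (nat_lit 44), (nat_lit 3), (nat_lit 1), (nat_lit 3), (nat_lit 43), (nat_lit 3), (nat_lit 47)]], (nat_lit 4)⟩,
  ⟨(nat_lit 1), [[(nat_lit 5), (nat_lit 3), (nat_lit 52), (nat_lit 3), (nat_lit 1), (nat_lit 3), (nat_lit 51), (nat_lit 3), (nat_lit 5)],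
  [(nat_lit 38), (nat_lit 48), (nat_lit 3), (nat_lit 43), (nat_lit 3), (nat_lit 1), (nat_lit 3), (nat_lit 44), (nat_lit 3), (nat_lit 47), (nat_lit 37)],
  [(nat_lit 5), (nat_lit 3), (nat_lit 39), (nat_lit 1), (nat_lit 3), (nat_lit 1), (nat_lit 3), (nat_lit 1), (nat_lit 40), (nat_lit 3), (nat_lit 5)],
  [(nat_lit 39), (nat_lit 3), (nat_lit 47), (nat_lit 3), (nat_lit 1), (nat_lit 3), (nat_lit 48), (nat_lit 3), (nat_lit 40)],
  [(nat_lit 5), (nat_lit 3), (nat_lit 51), (nat_lit 3), (nat_lit 1), (nat_lit 3), (nat_lit 52), (nat_lit 3), (nat_lit 5)]], (nat_lit 4)⟩,
  ⟨(nat_lit 4), [[(nat_lit 39), (nat_lit 3), (nat_lit 47), (nat_lit 3), (nat_lit 1), (nat_lit 3), (nat_lit 48), (nat_lit 3), (nat_lit 40)],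
  [(nat_lit 52), (nat_lit 15), (nat_lit 3), (nat_lit 43), (nat_lit 3), (nat_lit 1), (nat_lit 3), (nat_lit 44), (nat_lit 3), (nat_lit 15), (nat_lit 51)],
  [(nat_lit 52), (nat_lit 3), (nat_lit 39), (nat_lit 1), (nat_lit 3), (nat_lit 1), (nat_lit 3), (nat_lit 1), (nat_lit 40), (nat_lit 3), (nat_lit 51)],
  [(nat_lit 29), (nat_lit 39), (nat_lit 3), (nat_lit 47), (nat_lit 3), (nat_lit 1), (nat_lit 3), (nat_lit 48), (nat_lit 3), (nat_lit 40), (nat_lit 30)]], (nat_lit 2)⟩,
  ⟨(nat_lit 8), [[(nat_lit 51), (nat_lit 19), (nat_lit 3), (nat_lit 52), (nat_lit 3), (nat_lit 1), (nat_lit 3), (nat_lit 51), (nat_lit 3), (nat_lit 19), (nat_lit 52)],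
  [(nat_lit 48), (nat_lit 23), (nat_lit 3), (nat_lit 44), (nat_lit 3), (nat_lit 1), (nat_lit 3), (nat_lit 43), (nat_lit 3), (nat_lit 24), (nat_lit 47)],
  [(nat_lit 22), (nat_lit 39), (nat_lit 3), (nat_lit 47), (nat_lit 3), (nat_lit 1), (nat_lit 3), (nat_lit 48), (nat_lit 3), (nat_lit 40), (nat_lit 21)]], (nat_lit 1)⟩,
  ⟨(nat_lit 5), [[(nat_lit 39), (nat_lit 3), (nat_lit 41), (nat_lit 1), (nat_lit 3), (nat_lit 1), (nat_lit 3), (nat_lit 1), (nat_lit 42), (nat_lit 3), (nat_lit 40)]], (nat_lit 1)⟩]
noncomputable def vI : Nat := (nat_lit 0x2000000000000000880000200000002900400400002020000000000500030040400000000000cc0000800180000c00060000000000000000c000060000010000000000024000000008800100000008000800004021c00010000000400000000000000000000100000184000008000000000000000400000000000000000000080000000012000730000100000000000000000000000000000000020000020000000000000000000000000000000000000000000000000500006800000000000000000000000000000000020001000000060000004000000000000000000000201000200000000000450000000000000c0811800002000010000000000000000480102000001010280000000028400a0000400000000000000120000800042010000000900020000000000000004000010100000002400000000000010002000000400000000008000000000000000000000000000000000000000000000000000000000000000000000000000000000000000000000000000000000000000000000000000000000000000000000000000000000000000000000000000000000000000000000000000000000000000000000)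
noncomputable def S0 : Nat := (nat_lit 51)
noncomputable def S1 : Nat := (nat_lit 0x400000000000000000000000000000000000000000000000000000000000000000000000000000000000000000000000000000000000000000000000000000000000000000000000000000000000000000000000000122)
noncomputable def S2 : Nat := (nat_lit 308)
noncomputable def R : Nat := (nat_lit 0x1000000000000000000000000000000000000000000000000000000000000000000000000000000000000000000000000000000000000000000000000000000000000000000000000000000000000000000000000000000000000000000000000000000000000000000000000000000000000000000000000000000000000000000000000000000000000000000000000000000000000000000000000000000000000000000000000000000000000000000000000000000000000000000000000000000000000000000000000000000000000000000000000000000000000000000000000000000000000000000000000000000000000000000000000000000000000000000000000000000000000000000000000000000000000000000000000000000000000000000000000000000000000000000000000000000000000000000000000000000000000000000000000000000000000000000000000000000000000000000000000000000000000000000000000000000000000000000000000000000000000000000000000000000000000000000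000000000000000000000000000000000000000000000000000000000000000000040000000000000000000000000000000000000000000000000000000000000000000000000000000000000000000000000000000000000000000000000000000000000000000000000000000000000000000000000000000000000000000000000000000000000000000000000000000000000000000000000000000000000000000000000000000000000000000000000000000000000000000000000000000000000000000000000000000000000000000000000000000000000000000000000000000000000000000000000000000000000000000000000000000000000000000000000000000000000000000000000000000000000000000000000000000000000000000000000000000000000000000000000000000000000000000000000000000000000000000000000000000000000000000000000000000000000000000000000000000000000000000000000000000000000000000000000000000000000000000000000000000000000000000000000000000000000000000000000000000000000000000000000000000000000000000000000000000000000000000000000000000000000000000000000000000000001)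
noncomputable def V : Nat := (nat_lit 0x13400000000000000000000000000000000000000000000000000000000000000000000000000000000000000000000000000000000000000000000000000000000000000000000000000000000000000000000000000000000000000000000000000000000000000000000000000000000000000000000000000000000000000000000000000000000000000000000000000000000000000000000000000000000000000000000000000000000000000000000000000000000000000000000000000000000000000000000000000000000000000000000000000000000000000000000000000000000000000000000000000000000000000000000000000000000000000000000000000000000000000000000000000000000000000000000000000000000000000000000000000000000000000000000000000000000000000000000000000000000000000000000000000000000000000000000000000000001000000000000000000000000000000000000000000000000000000000000000000000000000000000000000000000000000000000000000000000000000000000000000000000000000000000000000000000000000488000000000000000000000000000000000000000000000000000000000000000000000000000000000000000000000000000000000000000000000000000000000000000000000000000000000000000000000000000000000000000000000000000000000000000000000000000000000000000000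0000000000000000000000000000000000000000000000000000000000000000000000000000000000000000000000000000000000000000000000000000000000000000000000000000000000000000000000000000000000000000000000000000000000000000000000000000000000000000000000000000000000000000000000000000000000000000000000000000000000000000000000000000000000000000000000000000000000000000000000000000000000000000000000000000000000000000000000000000000000000000000000000000000000000000000000000000000000000000000000000000000000000000000000000000000000000000000000000000000000000000000000000000000000000000000000000000000000000000000000000000000000000000000000000000000000000000033)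
noncomputable def pI : List Nat := [nat_lit 0, nat_lit 695, nat_lit 3]

theorem okI : chainOK N 3510 CI = true := by decide +kernel
theorem prodI : Nat.beq 64561751654400 (chainProd N 3510 CI) = true := by decide +kernel
theorem clI : closedW N (cgens (CI.drop 3)) vI = true := by decide +kernel
theorem sepI : sepOK 3510 [S0, S1, S2] bs = true := by decide +kernel
theorem eqR : Nat.beq R (repl 3510 (llen [S0, S1, S2])) = true := by decide +kernel
theorem eqV : Nat.beq V (pack 3510 [S0, S1, S2]) = true := by decide +kernel

/-- the test for the equality of words -/
noncomputable def eq (NN : List Net) : Sm := eqM NN R V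

variable {G : Type*} [Group G] {D : Set G} {E : Dom (Cj G) 3510} {f : ℕ → G} {NN : List Net}

theorem M22.inv (M : M22 D E f) : ∀ g ∈ fixIn E (⊤ : Subgroup G) pI, g • E.set vI = E.set vI := fun g hg =>
  M.reps.closedW clI ((Exact.drop (M.exact_top M.card (by decide) okI prodI) 3).eq_clo.ge hg)

theorem M22.conj (M : M22 D E f) (g : G) :
    M22 D (Dom.mapE E (MulAut.conj g)) (fun i => MulAut.conj g (f i)) := by
  have := M.map (MulAut.conj g)
  rwa [M.conj_image] at this

/-- a model with more letters -/
structure X22 (NN : List Net) {G : Type*} [Group G] (D : Set G) (E : Dom (Cj G) 3510) (f : ℕ → G) : Prop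
    extends TM D 3510 E NN f w0 Q bs where
  old : ∃ f0, M22 D E f0 ∧ ∀ i < 30, f i = f0 i

theorem M22.x (M : M22 D E f) : X22 N D E f := ⟨M.toTM, f, M, fun _ _ => rfl⟩

theorem M22.more (M : M22 D E f) {N' : List Net} {W : List (List ℕ)}
    (h : Slp (lapp N N') 3510 12 W 30) : X22 (lapp N N') D E (slp f W 30) :=
  ⟨M.extend' (k := 12) (by decide) h, f, M, fun _ hi => slp_lt _ _ hi⟩

theorem X22.more (M : X22 NN D E f) {N' : List Net} {W : List (List ℕ)} {m : ℕ} (hm : NN.length = m)
    (h30 : 30 ≤ m) (h : Slp (lapp NN N') 3510 12 W m) : X22 (lapp NN N') D E (slp f W m) := by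
  subst hm
  obtain ⟨f0, M0, h0⟩ := M.old
  exact ⟨M.extend' (k := 12) (by decide) h, f0, M0, fun i hi =>
    (slp_lt _ _ (by omega)).trans (h0 i hi)⟩

namespace X22

variable (M : X22 NN D E f)
include M

theorem card : Nat.card G = 64561751654400 := M.old.elim fun _ h => h.1.card

theorem finite : Finite G := M.old.elim fun _ h => h.1.finite

theorem primTT : PrimTT D := M.old.elim fun _ h => h.1.primTT

theorem sm : IsSm f (eq NN) := M.isSm sepI eqR eqV

theorem iv {iv : List PS} {gs : List (List ℕ)} (h : lall2 (ivOK NN pI vI) iv gs = true) :
    IvOK E (⊤ : Subgroup G) iv :=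
  M.old.elim fun _ h0 => IvOK.conj M.reps (fun _ => Subgroup.mem_top _) (by decide) h0.1.inv h

theorem conj (g : G) : ∃ E' f', X22 NN D E' f' ∧ ∀ w, ev f' w = g * ev f w * g⁻¹ := by
  obtain ⟨f0, M0, h0⟩ := M.old
  have := M.toTM.map (MulAut.conj g)
  rw [M.conj_image] at this
  exact ⟨_, _, ⟨this, _, M0.conj g, fun i hi => by rw [h0 i hi]⟩,
    fun w => (map_ev (MulAut.conj g).toMonoidHom f w).symm⟩

end X22

end CF.Fisch.F22
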